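import Mathlib.GroupTheory.SpecificGroups.Dihedral
import Mathlib.GroupTheory.OrderOfElement
import Mathlib.GroupTheory.PGroup
import Mathlib.Tactic

/-!
# Subgroups generated by two involutions
-/

namespace CfsgLib.Small

noncomputable section

variable {G : Type*} [Group G]

/-- An element of order two is its own inverse. -/
theorem inv_eq_self_of_orderOf_two {x : G} (hx : orderOf x = 2) : x⁻¹ = x := by
  rw [inv_eq_iff_mul_eq_one, ← sq, ← hx, pow_orderOf_eq_one]

theorem mul_self_of_orderOf_two {x : G} (hx : orderOf x = 2) : x * x = 1 := by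
  rw [← sq, ← hx, pow_orderOf_eq_one]

theorem ne_one_of_orderOf_two {x : G} (hx : orderOf x = 2) : x ≠ 1 := by
  rintro rfl; simp at hx

theorem orderOf_eq_two_iff_sq {x : G} : orderOf x = 2 ↔ x ≠ 1 ∧ x * x = 1 := by
  constructor
  · exact fun h => ⟨ne_one_of_orderOf_two h, mul_self_of_orderOf_two h⟩
  · rintro ⟨h1, h2⟩; exact orderOf_eq_prime (by rw [sq, h2]) h1

theorem orderOf_conj_eq (g x : G) : orderOf (g * x * g⁻¹) = orderOf x :=
  (orderOf_injective (MulAut.conj g).toMonoidHom (MulAut.conj g).injective x :)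

/-- The first of two involutions inverts their product. -/
theorem invol_conj_mul {x y : G} (hx : orderOf x = 2) (hy : orderOf y = 2) :
    x * (x * y) * x⁻¹ = (x * y)⁻¹ := by
  simp [mul_inv_rev, inv_eq_self_of_orderOf_two hx, inv_eq_self_of_orderOf_two hy, ← mul_assoc,
    mul_self_of_orderOf_two hx]

theorem invol_conj_zpow {x u : G} (h : x * u * x⁻¹ = u⁻¹) (k : ℤ) :
    x * u ^ k * x⁻¹ = (u ^ k)⁻¹ := by
  rw [← conj_zpow, h, inv_zpow]

theorem invol_conj_pow {x u : G} (h : x * u * x⁻¹ = u⁻¹) (k : ℕ) :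
    x * u ^ k * x⁻¹ = (u ^ k)⁻¹ := by
  rw [← conj_pow, h, inv_pow]

/-- Every element of `⟨x, y⟩` is `(xy)^k` or `x (xy)^k`, for involutions `x`, `y`. -/
theorem mem_closure_pair_invol {x y : G} (hx : orderOf x = 2) (hy : orderOf y = 2) {d : G}
    (hd : d ∈ Subgroup.closure ({x, y} : Set G)) :
    ∃ k : ℤ, d = (x * y) ^ k ∨ d = x * (x * y) ^ k := by
  have hx2 := mul_self_of_orderOf_two hx
  have hinv := invol_conj_mul hx hy
  have hswap : ∀ k : ℤ, (x * y) ^ k * x = x * (x * y) ^ (-k) := by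
    intro k
    rw [zpow_neg, ← invol_conj_zpow hinv k, inv_eq_self_of_orderOf_two hx]
    simp [← mul_assoc, hx2]
  induction hd using Subgroup.closure_induction with
  | mem z hz =>
    simp only [Set.mem_insert_iff, Set.mem_singleton_iff] at hz
    rcases hz with rfl | rfl
    · exact ⟨0, Or.inr (by simp)⟩
    · exact ⟨1, Or.inr (by simp [← mul_assoc, hx2])⟩
  | one => exact ⟨0, Or.inl (by simp)⟩
  | mul a b _ _ iha ihb =>
    obtain ⟨i, rfl | rfl⟩ := iha <;> obtain ⟨j, rfl | rfl⟩ := ihb
    · exact ⟨i + j, Or.inl (zpow_add _ i j).symm⟩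
    · exact ⟨-i + j, Or.inr (by rw [← mul_assoc, hswap, mul_assoc, zpow_add])⟩
    · exact ⟨i + j, Or.inr (by rw [mul_assoc, zpow_add])⟩
    · exact ⟨-i + j, Or.inl (by
        rw [mul_assoc x, ← mul_assoc _ x, hswap, ← mul_assoc, ← mul_assoc, hx2, one_mul,
          zpow_add])⟩
  | inv a _ iha =>
    obtain ⟨i, rfl | rfl⟩ := iha
    · exact ⟨-i, Or.inl (zpow_neg _ i).symm⟩
    · exact ⟨i, Or.inr (by
        rw [mul_inv_rev, inv_eq_self_of_orderOf_two hx, ← zpow_neg, hswap, neg_neg])⟩

theorem mul_mem_closure_pair (x y : G) : x * y ∈ Subgroup.closure ({x, y} : Set G) :=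
  mul_mem (Subgroup.subset_closure (by simp)) (Subgroup.subset_closure (by simp))

/-- `x` is not a power of `xy` for distinct involutions of finite-order product. -/
theorem invol_notMem_zpowers {x y : G} (hx : orderOf x = 2) (hy : orderOf y = 2) :
    x ∉ Subgroup.zpowers (x * y) := by
  rintro ⟨k, hk : (x * y) ^ k = x⟩
  have hc : Commute x (x * y) := by
    have h := (Commute.refl (x * y)).zpow_left k
    rw [hk] at h
    exact h
  have hu : (x * y) * (x * y) = 1 := by
    have := invol_conj_mul hx hy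
    rw [hc.eq, mul_inv_cancel_right] at this
    exact mul_eq_one_iff_eq_inv.2 this
  have hu' : (x * y) ^ (2 : ℤ) = 1 := by rw [zpow_two]; exact hu
  rcases Int.even_or_odd k with ⟨m, rfl⟩ | ⟨m, rfl⟩
  · rw [← two_mul, zpow_mul, hu', one_zpow] at hk
    exact ne_one_of_orderOf_two hx hk.symm
  · rw [zpow_add, zpow_mul, hu', one_zpow, one_mul, zpow_one] at hk
    exact ne_one_of_orderOf_two hy (mul_left_cancel (a := x) (by rw [hk, mul_one]))

section Hom

variable {x y : G} (hx : orderOf x = 2) (hy : orderOf y = 2)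

/-- The homomorphism from the dihedral group onto `⟨x, y⟩` attached to two involutions. -/
def dihedralHomFun (x u : G) : DihedralGroup (orderOf u) → G
  | DihedralGroup.r i => u ^ (i.cast : ℤ)
  | DihedralGroup.sr i => x * u ^ (i.cast : ℤ)

theorem zpow_cast_add (u : G) (i j : ZMod (orderOf u)) :
    u ^ ((i + j).cast : ℤ) = u ^ (i.cast : ℤ) * u ^ (j.cast : ℤ) := by
  rw [← zpow_add, zpow_eq_zpow_iff_modEq, ← ZMod.intCast_eq_intCast_iff]
  simp

theorem zpow_cast_sub (u : G) (i j : ZMod (orderOf u)) :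
    u ^ ((i - j).cast : ℤ) = u ^ (i.cast : ℤ) * (u ^ (j.cast : ℤ))⁻¹ := by
  rw [← zpow_neg, ← zpow_add, zpow_eq_zpow_iff_modEq, ← ZMod.intCast_eq_intCast_iff]
  simp [sub_eq_add_neg]

include hx hy in
/-- The dihedral homomorphism is multiplicative. -/
theorem dihedralHomFun_mul (a b : DihedralGroup (orderOf (x * y))) :
    dihedralHomFun x (x * y) (a * b)
      = dihedralHomFun x (x * y) a * dihedralHomFun x (x * y) b := by
  have hx2 := mul_self_of_orderOf_two hx
  have hswap : ∀ k : ℤ, (x * y) ^ k * x = x * ((x * y) ^ k)⁻¹ := by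
    intro k
    rw [← invol_conj_zpow (invol_conj_mul hx hy) k, inv_eq_self_of_orderOf_two hx]
    simp [← mul_assoc, hx2]
  rcases a with i | i <;> rcases b with j | j
  · simp [dihedralHomFun, zpow_cast_add]
  · simp only [DihedralGroup.r_mul_sr, dihedralHomFun]
    rw [← mul_assoc, hswap, mul_assoc, zpow_cast_sub]
    congr 1
    exact ((Commute.refl (x * y)).zpow_zpow _ _).inv_right.eq
  · simp [dihedralHomFun, zpow_cast_add, mul_assoc]
  · simp only [DihedralGroup.sr_mul_sr, dihedralHomFun]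
    rw [mul_assoc x, ← mul_assoc _ x, hswap, ← mul_assoc, ← mul_assoc, hx2, one_mul,
      zpow_cast_sub]
    exact ((Commute.refl (x * y)).zpow_zpow _ _).inv_right.eq

/-- The dihedral homomorphism attached to two involutions. -/
def dihedralHom : DihedralGroup (orderOf (x * y)) →* G :=
  MonoidHom.mk' (dihedralHomFun x (x * y)) (dihedralHomFun_mul hx hy)

theorem dihedralHom_range :
    (dihedralHom hx hy).range = Subgroup.closure ({x, y} : Set G) := by
  apply le_antisymm
  · rintro _ ⟨a, rfl⟩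
    rcases a with i | i
    · exact zpow_mem (mul_mem_closure_pair x y) _
    · exact mul_mem (Subgroup.subset_closure (by simp)) (zpow_mem (mul_mem_closure_pair x y) _)
  · intro d hd
    obtain ⟨k, rfl | rfl⟩ := mem_closure_pair_invol hx hy hd
    · refine ⟨DihedralGroup.r (k : ZMod _), ?_⟩
      simp only [dihedralHom, MonoidHom.mk'_apply, dihedralHomFun]
      rw [zpow_eq_zpow_iff_modEq, ← ZMod.intCast_eq_intCast_iff]
      simp
    · refine ⟨DihedralGroup.sr (k : ZMod _), ?_⟩
      simp only [dihedralHom, MonoidHom.mk'_apply, dihedralHomFun]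
      congr 1
      rw [zpow_eq_zpow_iff_modEq, ← ZMod.intCast_eq_intCast_iff]
      simp

theorem dihedralHom_injective (hxy : x ≠ y) : Function.Injective (dihedralHom hx hy) := by
  rw [injective_iff_map_eq_one]
  rintro (i | i) h
  · have h' : (x * y) ^ (i.cast : ℤ) = (x * y) ^ (0 : ℤ) := by rw [zpow_zero]; exact h
    rw [zpow_eq_zpow_iff_modEq, ← ZMod.intCast_eq_intCast_iff] at h'
    simp only [ZMod.intCast_zmod_cast, Int.cast_zero] at h'
    rw [h', DihedralGroup.r_zero]
  · refine absurd ?_ (invol_notMem_zpowers hx hy)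
    have h' : x * (x * y) ^ (i.cast : ℤ) = 1 := h
    refine ⟨-(i.cast : ℤ), ?_⟩
    show (x * y) ^ (-(i.cast : ℤ)) = x
    rw [zpow_neg]
    exact (mul_eq_one_iff_eq_inv.1 h').symm

/-- Two distinct involutions generate a dihedral group. -/
noncomputable def closurePairEquivDihedral (hxy : x ≠ y) :
    ↥(Subgroup.closure ({x, y} : Set G)) ≃* DihedralGroup (orderOf (x * y)) :=
  (MulEquiv.subgroupCongr (dihedralHom_range hx hy).symm).trans
    (MonoidHom.ofInjective (dihedralHom_injective hx hy hxy)).symm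

include hx hy in
theorem card_closure_pair_invol (hxy : x ≠ y) :
    Nat.card ↥(Subgroup.closure ({x, y} : Set G)) = 2 * orderOf (x * y) := by
  rw [Nat.card_congr (closurePairEquivDihedral hx hy hxy).toEquiv, DihedralGroup.nat_card]

end Hom

/-- Every element of `⟨x, y⟩` outside `⟨xy⟩` is an involution. -/
theorem orderOf_eq_two_of_notMem_zpowers {x y : G} (hx : orderOf x = 2) (hy : orderOf y = 2)
    {d : G} (hd : d ∈ Subgroup.closure ({x, y} : Set G)) (hd' : d ∉ Subgroup.zpowers (x * y)) :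
    orderOf d = 2 := by
  obtain ⟨k, rfl | rfl⟩ := mem_closure_pair_invol hx hy hd
  · exact absurd (Subgroup.zpow_mem_zpowers _ k) hd'
  · refine orderOf_eq_two_iff_sq.2 ⟨fun h => hd' (h ▸ one_mem _), ?_⟩
    have h := invol_conj_zpow (invol_conj_mul hx hy) k
    rw [inv_eq_self_of_orderOf_two hx] at h
    rw [← mul_assoc, h, inv_mul_cancel]

/-- Involutions whose product has odd order are conjugate by a power of the product. -/
theorem conj_pow_eq_of_odd {x y : G} (hx : orderOf x = 2) (hy : orderOf y = 2)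
    (hodd : Odd (orderOf (x * y))) :
    ∃ k : ℕ, (x * y) ^ k * x * ((x * y) ^ k)⁻¹ = y := by
  obtain ⟨m, hm⟩ := hodd
  refine ⟨m, ?_⟩
  have h := invol_conj_pow (invol_conj_mul hx hy) m
  rw [← h]
  have hx2 := mul_self_of_orderOf_two hx
  have hpow : (x * y) ^ m * (x * y) ^ m = (x * y)⁻¹ := by
    rw [eq_inv_iff_mul_eq_one, ← pow_add, ← pow_succ, ← two_mul, ← hm, pow_orderOf_eq_one]
  calc (x * y) ^ m * x * (x * (x * y) ^ m * x⁻¹)
      = (x * y) ^ m * (x * x) * (x * y) ^ m * x⁻¹ := by group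
    _ = (x * y) ^ m * (x * y) ^ m * x⁻¹ := by rw [hx2, mul_one]
    _ = y := by
        rw [hpow, mul_inv_rev, inv_eq_self_of_orderOf_two hx, inv_eq_self_of_orderOf_two hy,
          mul_assoc, hx2, mul_one]

/-- The central involution of `⟨x, y⟩` when `xy` has even order. -/
theorem half_pow_spec [Finite G] {x y : G} (hx : orderOf x = 2) (hy : orderOf y = 2)
    (heven : Even (orderOf (x * y))) :
    orderOf ((x * y) ^ (orderOf (x * y) / 2)) = 2 ∧
      Commute ((x * y) ^ (orderOf (x * y) / 2)) x ∧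
      Commute ((x * y) ^ (orderOf (x * y) / 2)) y := by
  obtain ⟨m, hm⟩ := heven
  have hpos : 0 < orderOf (x * y) := orderOf_pos _
  have hdiv : orderOf (x * y) / 2 = m := by omega
  rw [hdiv]
  have hord : orderOf ((x * y) ^ m) = 2 := by
    rw [orderOf_pow' _ (by omega : m ≠ 0), hm, ← two_mul, Nat.gcd_comm,
      Nat.gcd_eq_left (dvd_mul_left m 2), Nat.mul_div_cancel _ (by omega)]
  have hcx : Commute ((x * y) ^ m) x := by
    have h := invol_conj_pow (invol_conj_mul hx hy) m
    rw [inv_eq_self_of_orderOf_two hord, mul_inv_eq_iff_eq_mul] at h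
    exact h.symm
  refine ⟨hord, hcx, ?_⟩
  have h1 : y = x * (x * y) := by rw [← mul_assoc, mul_self_of_orderOf_two hx, one_mul]
  have h2 : Commute ((x * y) ^ m) (x * (x * y)) := hcx.mul_right ((Commute.refl _).pow_left m)
  rw [← h1] at h2
  exact h2

end

end CfsgLib.Small
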