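import Mathlib.GroupTheory.GroupAction.Quotient
import Mathlib.GroupTheory.Subgroup.Centralizer
import Mathlib.GroupTheory.Perm.Cycle.Type
import Mathlib.Tactic
import Cfsg.Agent.Small.Dihedral

/-!
# Counting involutions, conjugates and real elements
-/

namespace CfsgLib.Small

variable {G : Type*} [Group G]

/-- The set of conjugates of an element has as many elements as the index of its centraliser. -/
theorem card_conjugates_mul_card_centralizer [Finite G] (x : G) :
    Nat.card {g : G // IsConj x g} * Nat.card (Subgroup.centralizer ({x} : Set G))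
      = Nat.card G := by
  have h1 : Nat.card {g : G // IsConj x g} = Nat.card (MulAction.orbit (ConjAct G) x) :=
    Nat.card_congr (Equiv.subtypeEquivRight fun g => by rw [ConjAct.mem_orbit_conjAct, isConj_comm])
  have h2 : Nat.card (Subgroup.centralizer ({x} : Set G))
      = Nat.card (MulAction.stabilizer (ConjAct G) x) := by
    refine Nat.card_congr (ConjAct.toConjAct.toEquiv.subtypeEquiv fun g => ?_)
    rw [Subgroup.mem_centralizer_singleton_iff, MulAction.mem_stabilizer_iff]
    show _ ↔ ConjAct.toConjAct g • x = x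
    rw [ConjAct.toConjAct_smul, mul_inv_eq_iff_eq_mul]
  rw [h1, h2, ← Nat.card_prod,
    Nat.card_congr (MulAction.orbitProdStabilizerEquivGroup (ConjAct G) x)]
  exact Nat.card_congr ConjAct.ofConjAct.toEquiv

theorem centralizer_singleton_eq_top_iff {x : G} :
    Subgroup.centralizer ({x} : Set G) = ⊤ ↔ x ∈ Subgroup.center G := by
  rw [eq_top_iff, Subgroup.mem_center_iff]
  constructor
  · exact fun h g => Subgroup.mem_centralizer_singleton_iff.1 (h (Subgroup.mem_top g))
  · exact fun h g _ => Subgroup.mem_centralizer_singleton_iff.2 (h g)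

/-- Ordered pairs of involutions with product `x` correspond to the involutions other than `x`
that invert `x`. -/
def involPairEquiv (x : G) :
    {p : G × G // orderOf p.1 = 2 ∧ orderOf p.2 = 2 ∧ p.1 * p.2 = x} ≃
      {t : G // orderOf t = 2 ∧ t * x * t⁻¹ = x⁻¹ ∧ t ≠ x} where
  toFun p := ⟨p.1.1, p.2.1, by
    obtain ⟨⟨u, v⟩, hu, hv, rfl⟩ := p
    exact invol_conj_mul hu hv, by
    obtain ⟨⟨u, v⟩, hu, hv, rfl⟩ := p
    simpa using ne_one_of_orderOf_two hv⟩
  invFun t := ⟨(t.1, t.1 * x), t.2.1, orderOf_eq_two_iff_sq.2 ⟨fun h => t.2.2.2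
      (((eq_inv_of_mul_eq_one_right h).trans (inv_eq_self_of_orderOf_two t.2.1)).symm), by
      have h := t.2.2.1
      rw [inv_eq_self_of_orderOf_two t.2.1] at h
      rw [← mul_assoc, h, inv_mul_cancel]⟩, by
    simp [← mul_assoc, mul_self_of_orderOf_two t.2.1]⟩
  left_inv p := by
    obtain ⟨⟨u, v⟩, hu, hv, rfl⟩ := p
    simp [← mul_assoc, mul_self_of_orderOf_two hu]
  right_inv t := rfl

/-- The elements conjugating `x` to `x⁻¹` are as many as the centraliser, if any. -/
theorem card_inverting_eq {x g₀ : G} (h₀ : g₀ * x * g₀⁻¹ = x⁻¹) :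
    Nat.card {g : G // g * x * g⁻¹ = x⁻¹} = Nat.card (Subgroup.centralizer ({x} : Set G)) := by
  refine Nat.card_congr
    ⟨fun g => ⟨g₀⁻¹ * g.1, Subgroup.mem_centralizer_singleton_iff.2 ?_⟩,
      fun c => ⟨g₀ * c.1, ?_⟩, fun g => by simp, fun c => by simp⟩
  · obtain ⟨g, h⟩ := g
    dsimp only
    rw [← h₀] at h
    have := congrArg (fun z => g₀⁻¹ * z * g) h
    simpa [mul_assoc] using this
  · have hc := Subgroup.mem_centralizer_singleton_iff.1 c.2
    calc g₀ * c.1 * x * (g₀ * c.1)⁻¹ = g₀ * (c.1 * x * c.1⁻¹) * g₀⁻¹ := by group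
      _ = x⁻¹ := by rw [hc, mul_inv_cancel_right, h₀]

theorem card_involPairs_le [Finite G] (x : G) :
    Nat.card {p : G × G // orderOf p.1 = 2 ∧ orderOf p.2 = 2 ∧ p.1 * p.2 = x}
      ≤ Nat.card (Subgroup.centralizer ({x} : Set G)) := by
  rw [Nat.card_congr (involPairEquiv x)]
  by_cases h : ∃ t : G, t * x * t⁻¹ = x⁻¹
  · obtain ⟨g₀, h₀⟩ := h
    rw [← card_inverting_eq h₀]
    exact Nat.card_le_card_of_injective (fun t => ⟨t.1, t.2.2.1⟩)
      fun a b hab => Subtype.ext (congrArg (fun z => z.1) hab)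
  · haveI : IsEmpty {t : G // orderOf t = 2 ∧ t * x * t⁻¹ = x⁻¹ ∧ t ≠ x} :=
      ⟨fun t => h ⟨t.1, t.2.2.1⟩⟩
    simp

theorem card_involPairs_eq_zero {x : G} (h : ¬ IsConj x x⁻¹) :
    Nat.card {p : G × G // orderOf p.1 = 2 ∧ orderOf p.2 = 2 ∧ p.1 * p.2 = x} = 0 := by
  rw [Nat.card_congr (involPairEquiv x)]
  haveI : IsEmpty {t : G // orderOf t = 2 ∧ t * x * t⁻¹ = x⁻¹ ∧ t ≠ x} :=
    ⟨fun t => h (isConj_iff.2 ⟨t.1, t.2.2.1⟩)⟩
  simp

theorem card_involPairs_add_two_le [Finite G] {x : G} (hx : orderOf x = 2) :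
    Nat.card {p : G × G // orderOf p.1 = 2 ∧ orderOf p.2 = 2 ∧ p.1 * p.2 = x} + 2
      ≤ Nat.card (Subgroup.centralizer ({x} : Set G)) := by
  classical
  rw [Nat.card_congr (involPairEquiv x)]
  have h2 : Nat.card ({1, x} : Set G) = 2 := by
    rw [Nat.card_coe_set_eq, Set.ncard_pair (ne_one_of_orderOf_two hx).symm]
  calc _ = Nat.card ({t : G // orderOf t = 2 ∧ t * x * t⁻¹ = x⁻¹ ∧ t ≠ x} ⊕ ({1, x} : Set G)) := by
        rw [Nat.card_sum, h2]
    _ ≤ _ := ?_
  have hmem : ∀ z : G, z * x * z⁻¹ = x⁻¹ → z ∈ Subgroup.centralizer ({x} : Set G) := by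
    intro z hz
    rw [inv_eq_self_of_orderOf_two hx, mul_inv_eq_iff_eq_mul] at hz
    exact Subgroup.mem_centralizer_singleton_iff.2 hz
  refine Nat.card_le_card_of_injective
    (Sum.elim (fun t => ⟨t.1, hmem t.1 t.2.2.1⟩) fun z => ⟨z.1, hmem z.1 ?_⟩) ?_
  · rcases z with ⟨z, rfl | rfl⟩
    · simp [inv_eq_self_of_orderOf_two hx]
    · simp [inv_eq_self_of_orderOf_two hx, mul_self_of_orderOf_two hx]
  · apply Function.Injective.sumElim
    · intro a b h; exact Subtype.ext (congrArg Subtype.val h :)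
    · intro a b h; exact Subtype.ext (congrArg Subtype.val h :)
    · intro a b h
      have h' : a.1 = b.1 := congrArg Subtype.val h
      rcases b.2 with hb | hb
      · exact ne_one_of_orderOf_two a.2.1 (h'.trans hb)
      · exact a.2.2.2 (h'.trans hb)

/-- A group of even order has an odd number of involutions. -/
theorem odd_card_involutions [Finite G] (heven : Even (Nat.card G)) :
    Odd (Nat.card {t : G // orderOf t = 2}) := by
  classical
  haveI := Fintype.ofFinite G
  rw [Nat.card_eq_fintype_card, Fintype.card_subtype]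
  set I := Finset.univ.filter fun t : G => orderOf t = 2 with hI
  have h1 : (Finset.univ.filter fun t : G => t⁻¹ = t) = insert 1 I := by
    ext t
    simp only [Finset.mem_filter, Finset.mem_univ, true_and, Finset.mem_insert, hI,
      orderOf_eq_two_iff_sq, inv_eq_iff_mul_eq_one]
    constructor
    · intro h; by_cases ht : t = 1
      · exact Or.inl ht
      · exact Or.inr ⟨ht, h⟩
    · rintro (rfl | ⟨-, h⟩)
      · simp
      · exact h
  have h2 : ((Finset.univ.filter fun t : G => t⁻¹ ≠ t).card : ZMod 2) = 0 := by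
    rw [← Finset.sum_boole]
    refine Finset.sum_involution (fun t _ => t⁻¹) ?_ ?_ (fun t _ => Finset.mem_univ _)
      (fun t _ => inv_inv t)
    · intro t _
      by_cases h : t⁻¹ = t <;> simp [h, eq_comm (a := t), CharTwo.add_self_eq_zero]
    · intro t _ h
      by_contra h'
      simp [h'] at h
  have h3 := Finset.card_filter_add_card_filter_not (s := (Finset.univ : Finset G))
    fun t : G => t⁻¹ = t
  rw [h1, Finset.card_insert_of_notMem (by simp [hI]), Finset.card_univ,
    ← Nat.card_eq_fintype_card (α := G)] at h3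
  rw [ZMod.natCast_eq_zero_iff_even] at h2
  rw [Nat.odd_iff]
  rw [Nat.even_iff] at heven h2
  simp only [ne_eq] at h2
  omega

/-- A nontrivial real element forces even order. -/
theorem even_card_of_real [Finite G] {x : G} (hx : x ≠ 1) (h : IsConj x x⁻¹) :
    Even (Nat.card G) := by
  by_contra hodd
  rw [Nat.not_even_iff_odd] at hodd
  obtain ⟨g, hg⟩ := isConj_iff.1 h
  obtain ⟨m, hm⟩ : Odd (orderOf g) := hodd.of_dvd_nat (orderOf_dvd_natCard g)
  have hg2 : Commute (g ^ 2) x := by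
    have : g ^ 2 * x * (g ^ 2)⁻¹ = g * (g * x * g⁻¹) * g⁻¹ := by
      rw [sq, mul_inv_rev]; simp only [mul_assoc]
    rw [hg, ← conj_inv, hg, inv_inv] at this
    exact mul_inv_eq_iff_eq_mul.1 this
  have hgc : Commute g x := by
    have := hg2.pow_left (m + 1)
    rw [← pow_mul, show 2 * (m + 1) = orderOf g + 1 by omega, pow_succ, pow_orderOf_eq_one,
      one_mul] at this
    exact this
  rw [hgc.eq, mul_inv_cancel_right] at hg
  have hx2 : orderOf x = 2 := orderOf_eq_prime (by rw [sq]; exact mul_eq_one_iff_eq_inv.2 hg) hx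
  exact absurd (hodd.of_dvd_nat (hx2 ▸ orderOf_dvd_natCard x)) (by decide)

/-- A nontrivial real element with centraliser of odd order is inverted by an involution. -/
theorem exists_invol_inverting [Finite G] {x : G} (hx : x ≠ 1) (h : IsConj x x⁻¹)
    (hodd : Odd (Nat.card (Subgroup.centralizer ({x} : Set G)))) :
    ∃ t : G, orderOf t = 2 ∧ t * x * t⁻¹ = x⁻¹ := by
  obtain ⟨g, hg⟩ := isConj_iff.1 h
  obtain ⟨k, m, ⟨j, rfl⟩, hkm⟩ := Nat.exists_eq_two_pow_mul_odd (orderOf_pos g).ne'
  have hg2 : Commute (g ^ 2) x := by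
    have : g ^ 2 * x * (g ^ 2)⁻¹ = g * (g * x * g⁻¹) * g⁻¹ := by
      rw [sq, mul_inv_rev]; simp only [mul_assoc]
    rw [hg, ← conj_inv, hg, inv_inv] at this
    exact mul_inv_eq_iff_eq_mul.1 this
  set t := g ^ (2 * j + 1) with htdef
  have ht : t * x * t⁻¹ = x⁻¹ := by
    rw [htdef, pow_succ', pow_mul]
    calc g * (g ^ 2) ^ j * x * (g * (g ^ 2) ^ j)⁻¹
        = g * ((g ^ 2) ^ j * x * ((g ^ 2) ^ j)⁻¹) * g⁻¹ := by group
      _ = x⁻¹ := by rw [(hg2.pow_left j).eq, mul_inv_cancel_right, hg]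
  refine ⟨t, ?_, ht⟩
  have htC : t ^ 2 ∈ Subgroup.centralizer ({x} : Set G) := by
    refine Subgroup.mem_centralizer_singleton_iff.2 ?_
    rw [htdef, ← pow_mul, mul_comm, pow_mul]
    exact (hg2.pow_left (2 * j + 1)).eq
  have ht2 : t ^ 2 = 1 := by
    rw [← orderOf_eq_one_iff]
    refine Nat.eq_one_of_dvd_coprimes (a := 2 ^ k)
      (b := Nat.card (Subgroup.centralizer ({x} : Set G))) ?_ ?_ ?_
    · exact (Nat.coprime_two_left.2 hodd).pow_left k
    · refine orderOf_dvd_of_pow_eq_one ?_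
      rw [htdef, ← pow_mul, ← pow_mul, show (2 * j + 1) * (2 * 2 ^ k) = orderOf g * 2 by
        rw [hkm]; ring, pow_mul, pow_orderOf_eq_one, one_pow]
    · exact Subgroup.orderOf_dvd_natCard _ htC
  refine orderOf_eq_prime ht2 fun h1 => ?_
  rw [h1, one_mul, inv_one, mul_one] at ht
  have hx2 : orderOf x = 2 := orderOf_eq_prime (by rw [sq]; exact mul_eq_one_iff_eq_inv.2 ht) hx
  exact absurd (hodd.of_dvd_nat (hx2 ▸ Subgroup.orderOf_dvd_natCard _
    (Subgroup.mem_centralizer_singleton_iff.2 rfl))) (by decide)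

end CfsgLib.Small
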