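import Mathlib.GroupTheory.Sylow
import Mathlib.Tactic
import Cfsg.Agent.Small.Counting

/-!
# Conjugacy inside `⟨x, y⟩`, isolated involutions
-/

namespace CfsgLib.Small

variable {G : Type*} [Group G]

/-- The conjugates of `x` inside `⟨x, y⟩` are the elements `x (xy)^(2k)`. -/
theorem conj_mem_closure_pair {x y d : G} (hx : orderOf x = 2) (hy : orderOf y = 2)
    (hd : d ∈ Subgroup.closure ({x, y} : Set G)) :
    ∃ k : ℤ, d * x * d⁻¹ = x * (x * y) ^ (2 * k) := by
  have hinv := invol_conj_mul hx hy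
  have hx2 := mul_self_of_orderOf_two hx
  have hswap : ∀ k : ℤ, (x * y) ^ k * x = x * (x * y) ^ (-k) := by
    intro k
    rw [zpow_neg, ← invol_conj_zpow hinv k, inv_eq_self_of_orderOf_two hx]
    simp [← mul_assoc, hx2]
  obtain ⟨i, rfl | rfl⟩ := mem_closure_pair_invol hx hy hd
  · refine ⟨-i, ?_⟩
    rw [hswap, mul_assoc, ← zpow_neg, ← zpow_add, two_mul]
  · refine ⟨i, ?_⟩
    rw [mul_inv_rev, inv_eq_self_of_orderOf_two hx, mul_assoc x _ x, hswap, ← mul_assoc x x, hx2,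
      one_mul, ← zpow_neg, ← mul_assoc, ← zpow_add, hswap, neg_add, neg_neg, two_mul]

theorem conj_closure_pair_exists {x y : G} (hx : orderOf x = 2) (hy : orderOf y = 2) (k : ℤ) :
    ∃ d ∈ Subgroup.closure ({x, y} : Set G), d * x * d⁻¹ = x * (x * y) ^ (2 * k) := by
  refine ⟨x * (x * y) ^ k, mul_mem (Subgroup.subset_closure (by simp))
    (zpow_mem (mul_mem_closure_pair x y) k), ?_⟩
  have h := invol_conj_zpow (invol_conj_mul hx hy) (k : ℤ)
  rw [inv_eq_self_of_orderOf_two hx] at h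
  rw [mul_inv_rev, inv_eq_self_of_orderOf_two hx]
  calc x * (x * y) ^ k * x * (((x * y) ^ k)⁻¹ * x)
      = ((x * y) ^ k)⁻¹ * (((x * y) ^ k)⁻¹ * x) := by rw [h]
    _ = x * (x * ((x * y) ^ (2 * k))⁻¹ * x) := by
        rw [two_mul, zpow_add, mul_inv_rev, ← mul_assoc x, ← mul_assoc x, mul_self_of_orderOf_two hx]
        group
    _ = x * (x * y) ^ (2 * k) := by
        have h' := invol_conj_zpow (invol_conj_mul hx hy) (2 * k)
        rw [inv_eq_self_of_orderOf_two hx] at h'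
        rw [← h']
        simp [← mul_assoc, mul_self_of_orderOf_two hx, mul_assoc _ x x]

/-- Two involutions with product of even order are not conjugate inside the group they
generate. -/
theorem not_conj_in_closure_of_even {x y d : G} (hx : orderOf x = 2) (hy : orderOf y = 2)
    (heven : Even (orderOf (x * y))) (hd : d ∈ Subgroup.closure ({x, y} : Set G)) :
    d * x * d⁻¹ ≠ y := by
  intro h
  obtain ⟨k, hk⟩ := conj_mem_closure_pair hx hy hd
  rw [h] at hk
  have h1 : (x * y) ^ (2 * k) = (x * y) ^ (1 : ℤ) := by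
    rw [zpow_one, ← mul_right_inj x, ← hk, ← mul_assoc, mul_self_of_orderOf_two hx, one_mul]
  rw [zpow_eq_zpow_iff_modEq] at h1
  obtain ⟨c, hc⟩ := Int.modEq_iff_dvd.1 h1
  obtain ⟨r, hr⟩ := heven
  rw [hr] at hc
  push_cast at hc
  have hpar : (2 : ℤ) ∣ 1 - 2 * k := ⟨(r : ℤ) * c, by rw [hc]; ring⟩
  omega

/-- `x z` is conjugate to `x` inside `⟨x, y⟩` iff `4 ∣ |xy|`, `z` the central involution. -/
theorem conj_half_pow_iff [Finite G] {x y : G} (hx : orderOf x = 2) (hy : orderOf y = 2)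
    (heven : Even (orderOf (x * y))) :
    (∃ d ∈ Subgroup.closure ({x, y} : Set G),
      d * x * d⁻¹ = x * (x * y) ^ (orderOf (x * y) / 2)) ↔ 4 ∣ orderOf (x * y) := by
  obtain ⟨r, hr⟩ := heven
  constructor
  · rintro ⟨d, hd, h⟩
    obtain ⟨k, hk⟩ := conj_mem_closure_pair hx hy hd
    rw [h] at hk
    have h1 := mul_left_cancel hk
    rw [← zpow_natCast, zpow_eq_zpow_iff_modEq] at h1
    obtain ⟨c, hc⟩ := Int.modEq_iff_dvd.1 h1
    rw [show orderOf (x * y) / 2 = r by omega, hr] at hc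
    push_cast at hc
    have h2 : (2 : ℤ) ∣ (r : ℤ) := ⟨k - r * c, by linarith⟩
    omega
  · rintro ⟨q, hq⟩
    obtain ⟨d, hd, h⟩ := conj_closure_pair_exists hx hy (q : ℤ)
    refine ⟨d, hd, h.trans ?_⟩
    rw [← zpow_natCast _ (orderOf (x * y) / 2), show orderOf (x * y) / 2 = 2 * q by omega]
    push_cast
    ring_nf

/-- If `u` is the only conjugate of itself in a Sylow subgroup `P`, it is the only conjugate of
itself commuting with it. -/
theorem isolated_eq_of_commute [Finite G] (P : Sylow 2 G) {u : G} (hu : orderOf u = 2)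
    (huP : u ∈ P) (hiso : ∀ g : G, g * u * g⁻¹ ∈ P → g * u * g⁻¹ = u) {g : G}
    (hc : Commute u (g * u * g⁻¹)) : g * u * g⁻¹ = u := by
  haveI : Fact (Nat.Prime 2) := ⟨Nat.prime_two⟩
  by_contra hne
  have hv : orderOf (g * u * g⁻¹) = 2 := by rw [orderOf_conj_eq, hu]
  have hp : IsPGroup 2 ↥(Subgroup.closure ({u, g * u * g⁻¹} : Set G)) := by
    have h2 : orderOf (u * (g * u * g⁻¹)) = 2 := orderOf_eq_two_iff_sq.2
      ⟨fun h => hne (by rw [eq_inv_of_mul_eq_one_right h, inv_eq_self_of_orderOf_two hu]), by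
        rw [hc.symm.mul_mul_mul_comm, mul_self_of_orderOf_two hu, mul_self_of_orderOf_two hv, one_mul]⟩
    exact IsPGroup.of_card (n := 2) (by
      rw [card_closure_pair_invol hu hv (fun h => hne h.symm), h2]; norm_num)
  obtain ⟨Q, hQ⟩ := hp.exists_le_sylow
  obtain ⟨c, hc'⟩ := MulAction.exists_smul_eq G Q P
  have hmem : ∀ z ∈ Subgroup.closure ({u, g * u * g⁻¹} : Set G), c * z * c⁻¹ ∈ P := by
    intro z hz
    have h : MulAut.conj c z ∈ c • (Q : Sylow 2 G) := ⟨z, hQ hz, rfl⟩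
    rw [hc'] at h
    exact h
  have h1 : c * u * c⁻¹ = u := hiso c (hmem u (Subgroup.subset_closure (by simp)))
  have h2 := hiso (c * g) (by
    have := hmem (g * u * g⁻¹) (Subgroup.subset_closure (by simp))
    rwa [show c * g * u * (c * g)⁻¹ = c * (g * u * g⁻¹) * c⁻¹ by group])
  rw [show c * g * u * (c * g)⁻¹ = c * (g * u * g⁻¹) * c⁻¹ by group] at h2
  exact hne (mul_left_cancel (mul_right_cancel (h2.trans h1.symm)))

/-- If `4 ∣ |xy|` an involution `x` has another conjugate commuting with it; if `|xy| ≡ 2 mod 4`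
and `y` is conjugate to `x`, so has it. -/
theorem exists_commuting_conj [Finite G] {x y : G} (hx : orderOf x = 2) (hy : orderOf y = 2)
    (heven : Even (orderOf (x * y))) (h : 4 ∣ orderOf (x * y) ∨ IsConj x y) :
    ∃ g : G, Commute x (g * x * g⁻¹) ∧ g * x * g⁻¹ ≠ x := by
  obtain ⟨hz, hzx, -⟩ := half_pow_spec hx hy heven
  suffices ∃ g : G, g * x * g⁻¹ = x * (x * y) ^ (orderOf (x * y) / 2) by
    obtain ⟨g, hg⟩ := this
    refine ⟨g, hg ▸ (Commute.refl x).mul_right hzx.symm, fun he => ?_⟩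
    rw [he] at hg
    exact ne_one_of_orderOf_two hz (mul_eq_left.1 hg.symm)
  by_cases h4 : 4 ∣ orderOf (x * y)
  · obtain ⟨d, -, hd⟩ := (conj_half_pow_iff hx hy heven).2 h4
    exact ⟨d, hd⟩
  · obtain ⟨g, hg⟩ := isConj_iff.1 (h.resolve_left h4)
    obtain ⟨r, hr⟩ := heven
    obtain ⟨s, hs⟩ : Odd r := by
      rcases Nat.even_or_odd r with ⟨s, rfl⟩ | h'
      · exact absurd ⟨s, by omega⟩ h4
      · exact h'
    -- conjugating `y = x (xy)` by a power of `xy` reaches `x (xy)^r`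
    refine ⟨((x * y) ^ s)⁻¹ * g, ?_⟩
    have hh := invol_conj_pow (invol_conj_mul hx hy) s
    have hhx : ((x * y) ^ s)⁻¹ * x = x * (x * y) ^ s := by
      rw [← hh]; simp [mul_assoc]
    rw [show orderOf (x * y) / 2 = s + (1 + s) by omega, pow_add, pow_add, pow_one]
    calc ((x * y) ^ s)⁻¹ * g * x * (((x * y) ^ s)⁻¹ * g)⁻¹
        = ((x * y) ^ s)⁻¹ * (g * x * g⁻¹) * (x * y) ^ s := by group
      _ = ((x * y) ^ s)⁻¹ * (x * (x * y)) * (x * y) ^ s := by
          rw [hg, ← mul_assoc x x y, mul_self_of_orderOf_two hx, one_mul]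
      _ = _ := by rw [← mul_assoc, hhx]; simp only [mul_assoc]

theorem isolated_iff_odd_commutator [Finite G] (P : Sylow 2 G) {u : G} (hu : orderOf u = 2)
    (huP : u ∈ P) :
    (∀ g : G, g * u * g⁻¹ ∈ P → g * u * g⁻¹ = u) ↔
      ∀ g : G, Odd (orderOf (u * g * u⁻¹ * g⁻¹)) := by
  haveI : Fact (Nat.Prime 2) := ⟨Nat.prime_two⟩
  have e : ∀ g : G, u * g * u⁻¹ * g⁻¹ = u * (g * u * g⁻¹) := by
    intro g; rw [inv_eq_self_of_orderOf_two hu]; simp [mul_assoc]
  simp only [e]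
  constructor
  · intro hiso g
    by_contra h
    rw [Nat.not_odd_iff_even] at h
    obtain ⟨c, hc, hne⟩ := exists_commuting_conj hu (by rw [orderOf_conj_eq, hu]) h
      (Or.inr (isConj_iff.2 ⟨g, rfl⟩))
    exact hne (isolated_eq_of_commute P hu huP hiso hc)
  · intro h g hg
    have hmem : u * (g * u * g⁻¹) ∈ (P : Subgroup G) := mul_mem huP hg
    obtain ⟨k, hk⟩ := P.isPGroup' ⟨_, hmem⟩
    have hk' : (u * (g * u * g⁻¹)) ^ 2 ^ k = 1 := by simpa using congrArg Subtype.val hk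
    have h1 : orderOf (u * (g * u * g⁻¹)) = 1 :=
      Nat.eq_one_of_dvd_coprimes ((Nat.coprime_two_left.2 (h g)).pow_left k)
        (orderOf_dvd_of_pow_eq_one hk') dvd_rfl
    rw [eq_inv_of_mul_eq_one_right (orderOf_eq_one_iff.1 h1), inv_eq_self_of_orderOf_two hu]

end CfsgLib.Small
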