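import Mathlib.GroupTheory.SpecificGroups.Alternating
import Mathlib.GroupTheory.Subgroup.Simple
import Mathlib.GroupTheory.Index
import Mathlib.GroupTheory.Perm.Sign
import Mathlib.Tactic

/-!
# Permutation representations of simple groups on cosets
-/

namespace CfsgLib.Small

open Equiv

variable {G : Type*} [Group G]

/-- The coset action of a simple group on a proper subgroup is faithful. -/
theorem toPermHom_coset_injective [IsSimpleGroup G] {H : Subgroup G} (hH : H ≠ ⊤) :
    Function.Injective (MulAction.toPermHom G (G ⧸ H)) := by
  rw [← MonoidHom.ker_eq_bot_iff, ← Subgroup.normalCore_eq_ker]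
  exact (H.normalCore_normal.eq_bot_or_eq_top).resolve_right
    fun h => hH (top_unique (h ▸ H.normalCore_le))

/-- A finite group with a nontrivial map into an abelian group and simple is abelian. -/
theorem isMulCommutative_of_hom_ne_one [IsSimpleGroup G] {A : Type*} [CommGroup A] (f : G →* A)
    (hf : f ≠ 1) : IsMulCommutative G := by
  have hinj : Function.Injective f := by
    rw [← MonoidHom.ker_eq_bot_iff]
    exact ((MonoidHom.normal_ker f).eq_bot_or_eq_top).resolve_right
      fun h => hf (MonoidHom.ker_eq_top_iff.1 h)
  exact ⟨⟨fun a b => hinj (by rw [map_mul, map_mul, mul_comm])⟩⟩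

/-- A nonabelian simple group acting faithfully on a finite type lands in its alternating
group. -/
theorem sign_toPerm_eq_one [IsSimpleGroup G] (hG : ¬ IsMulCommutative G) {α : Type*} [Fintype α]
    [DecidableEq α] (f : G →* Perm α) (g : G) : Perm.sign (f g) = 1 := by
  by_contra h
  exact hG (isMulCommutative_of_hom_ne_one (Perm.sign.comp f)
    fun h1 => h (DFunLike.congr_fun h1 g))

/-- A nonabelian simple group with a proper subgroup of index `n` embeds in `A_n`. -/
theorem exists_hom_alternatingGroup [IsSimpleGroup G] [Finite G] (hG : ¬ IsMulCommutative G)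
    (H : Subgroup G) (hH : H ≠ ⊤) :
    ∃ f : G →* ↥(alternatingGroup (Fin H.index)), Function.Injective f := by
  let e : G ⧸ H ≃ Fin H.index := Finite.equivFinOfCardEq rfl
  let f : G →* Perm (Fin H.index) :=
    e.permCongrHom.toMonoidHom.comp (MulAction.toPermHom G (G ⧸ H))
  refine ⟨f.codRestrict _ fun g => sign_toPerm_eq_one hG f g, ?_⟩
  intro a b hab
  exact toPermHom_coset_injective hH
    (e.permCongrHom.injective (congrArg Subtype.val hab))

/-- The order of a simple group divides the factorial of the index of a proper subgroup. -/
theorem card_dvd_factorial_index [IsSimpleGroup G] [Finite G] (H : Subgroup G) (hH : H ≠ ⊤) :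
    Nat.card G ∣ H.index.factorial := by
  have h := Subgroup.card_dvd_of_injective _ (toPermHom_coset_injective hH)
  rwa [Nat.card_perm, ← Subgroup.index_eq_card] at h

/-- The order of a nonabelian simple group divides half the factorial of the index of a proper
subgroup. -/
theorem two_mul_card_dvd_factorial_index [IsSimpleGroup G] [Finite G]
    (hG : ¬ IsMulCommutative G) (H : Subgroup G) (hH : H ≠ ⊤) :
    2 * Nat.card G ∣ H.index.factorial := by
  obtain ⟨f, hf⟩ := exists_hom_alternatingGroup hG H hH
  have h1 : 1 < H.index :=
    lt_of_le_of_ne (Nat.one_le_iff_ne_zero.2 Subgroup.index_ne_zero_of_finite)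
      fun h => hH (Subgroup.index_eq_one.1 h.symm)
  haveI : Nontrivial (Fin H.index) := Fin.nontrivial_iff_two_le.2 h1
  have h := Nat.mul_dvd_mul_left 2 (Subgroup.card_dvd_of_injective f hf)
  rwa [two_mul_nat_card_alternatingGroup, Nat.card_perm, Nat.card_fin] at h

/-- In a nonabelian simple group the centre is trivial. -/
theorem center_eq_bot_of_simple [IsSimpleGroup G] (hG : ¬ IsMulCommutative G) :
    Subgroup.center G = ⊥ :=
  ((inferInstance : (Subgroup.center G).Normal).eq_bot_or_eq_top).resolve_right fun h =>
    hG ⟨⟨fun a b => (Subgroup.mem_center_iff.1 (h ▸ Subgroup.mem_top a) b).symm⟩⟩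

/-- An abelian finite simple group has prime order. -/
theorem card_prime_of_simple_comm [IsSimpleGroup G] [Finite G] (hG : IsMulCommutative G) :
    (Nat.card G).Prime := by
  let _ : CommGroup G := { (inferInstance : Group G) with mul_comm := hG.is_comm.comm }
  exact IsSimpleGroup.prime_card

/-- A nonabelian simple group has no subgroup of index at most two other than itself. -/
theorem two_lt_index [IsSimpleGroup G] [Finite G] (hG : ¬ IsMulCommutative G) (H : Subgroup G)
    (hH : H ≠ ⊤) : 2 < H.index := by
  by_contra h
  have h1 : H.index = 2 := by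
    have := Subgroup.index_ne_zero_of_finite (H := H)
    have : H.index ≠ 1 := fun h => hH (Subgroup.index_eq_one.1 h)
    omega
  have := two_mul_card_dvd_factorial_index hG H hH
  rw [h1, Nat.factorial_two] at this
  have h2 : Nat.card G = 1 := by
    have := Nat.le_of_dvd (by norm_num) this
    have := Nat.card_pos (α := G)
    omega
  exact absurd h2 (Finite.one_lt_card).ne'

end CfsgLib.Small
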