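import Mathlib.GroupTheory.Sylow
import Mathlib.GroupTheory.Transfer
import Mathlib.GroupTheory.Nilpotent
import Mathlib.NumberTheory.Divisors
import Mathlib.Tactic
import Cfsg.Agent.Small.CosetRep

/-!
# Sylow arguments against simplicity
-/

namespace CfsgLib.Small

variable {G : Type*} [Group G] [Finite G]

/-- A nonabelian simple group is no `p`-group. -/
theorem not_isPGroup_of_simple [IsSimpleGroup G] (hG : ¬ IsMulCommutative G) (p : ℕ)
    [Fact p.Prime] : ¬ IsPGroup p G := by
  intro h
  haveI : Nontrivial G := IsSimpleGroup.toNontrivial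
  have := h.center_nontrivial
  rw [center_eq_bot_of_simple hG] at this
  exact not_subsingleton (⊥ : Subgroup G) inferInstance

/-- The Sylow number in a nonabelian simple group is not one. -/
theorem card_sylow_ne_one [IsSimpleGroup G] (hG : ¬ IsMulCommutative G) {p : ℕ} [Fact p.Prime]
    (hp : p ∣ Nat.card G) : Nat.card (Sylow p G) ≠ 1 := by
  intro h
  haveI : Subsingleton (Sylow p G) := (Nat.card_eq_one_iff_unique.1 h).1
  obtain ⟨P⟩ : Nonempty (Sylow p G) := inferInstance
  rcases (Sylow.normal_of_subsingleton P).eq_bot_or_eq_top with hP | hP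
  · exact P.ne_bot_of_dvd_card hp hP
  · refine not_isPGroup_of_simple hG p ?_
    have hPp := P.isPGroup'
    rw [hP] at hPp
    exact hPp.of_equiv Subgroup.topEquiv

/-- Twice the order of a nonabelian simple group divides the factorial of a Sylow number. -/
theorem two_mul_card_dvd_factorial_sylow [IsSimpleGroup G] (hG : ¬ IsMulCommutative G) {p : ℕ}
    [Fact p.Prime] (hp : p ∣ Nat.card G) :
    2 * Nat.card G ∣ (Nat.card (Sylow p G)).factorial := by
  obtain ⟨P⟩ : Nonempty (Sylow p G) := inferInstance
  have h := card_sylow_ne_one hG hp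
  rw [P.card_eq_index_normalizer] at h ⊢
  exact two_mul_card_dvd_factorial_index hG _ fun ht => h (by rw [ht, Subgroup.index_top])

/-- The order of a Sylow subgroup, from a factorisation of the group order. -/
theorem card_sylow_eq {p k m : ℕ} [hp : Fact p.Prime] (hN : Nat.card G = p ^ k * m)
    (hm : ¬ p ∣ m) (P : Sylow p G) : Nat.card P = p ^ k := by
  have hm0 : m ≠ 0 := fun h => hm (h ▸ dvd_zero p)
  rw [P.card_eq_multiplicity, hN, Nat.factorization_mul (pow_ne_zero _ hp.out.ne_zero) hm0,
    Finsupp.add_apply, Nat.factorization_eq_zero_of_not_dvd hm, add_zero,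
    hp.out.factorization_pow, Finsupp.single_eq_same]

/-- A Sylow number divides the prime-to-`p` part of the order. -/
theorem card_sylow_dvd {p k m : ℕ} [hp : Fact p.Prime] (hN : Nat.card G = p ^ k * m)
    (hm : ¬ p ∣ m) : Nat.card (Sylow p G) ∣ m := by
  obtain ⟨P⟩ : Nonempty (Sylow p G) := inferInstance
  refine dvd_trans P.card_dvd_index (dvd_of_eq ?_)
  have h := Subgroup.card_mul_index (P : Subgroup G)
  rw [hN, show Nat.card (P : Subgroup G) = p ^ k from card_sylow_eq hN hm P] at h
  exact Nat.eq_of_mul_eq_mul_left (pow_pos hp.out.pos k) h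

theorem card_sylow_mod (p : ℕ) [hp : Fact p.Prime] : Nat.card (Sylow p G) % p = 1 := by
  have h : Nat.card (Sylow p G) ≡ 1 [MOD p] := card_sylow_modEq_one p G
  rwa [Nat.ModEq, Nat.mod_eq_of_lt hp.out.one_lt] at h

/-- The possible Sylow numbers of a nonabelian simple group. -/
theorem card_sylow_mem [IsSimpleGroup G] (hG : ¬ IsMulCommutative G) {p k m : ℕ} [Fact p.Prime]
    (hN : Nat.card G = p ^ k * m) (hk : k ≠ 0) (hm : ¬ p ∣ m) :
    Nat.card (Sylow p G) ∈ (Nat.divisors m).filter (fun d => d % p = 1 ∧ d ≠ 1) :=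
  Finset.mem_filter.2 ⟨Nat.mem_divisors.2 ⟨card_sylow_dvd hN hm, fun h => hm (h ▸ dvd_zero p)⟩,
    card_sylow_mod p, card_sylow_ne_one hG (hN ▸ Dvd.dvd.mul_right (dvd_pow_self p hk) m)⟩

/-- The order of a Sylow normaliser. -/
theorem card_sylow_mul_card_normalizer {p : ℕ} [Fact p.Prime] (P : Sylow p G) :
    Nat.card (Sylow p G) * Nat.card (Subgroup.normalizer ((P : Subgroup G) : Set G))
      = Nat.card G := by
  rw [P.card_eq_index_normalizer]
  exact Subgroup.index_mul_card (Subgroup.normalizer ((P : Subgroup G) : Set G))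

/-- In a nonabelian simple group no Sylow subgroup is centralised by its normaliser. -/
theorem not_normalizer_le_centralizer [IsSimpleGroup G] (hG : ¬ IsMulCommutative G) {p : ℕ}
    [Fact p.Prime] (hp : p ∣ Nat.card G) (P : Sylow p G) :
    ¬ Subgroup.normalizer ((P : Subgroup G) : Set G)
        ≤ Subgroup.centralizer ((P : Subgroup G) : Set G) := by
  intro hle
  have hc := MonoidHom.ker_transferSylow_isComplement' P hle
  rcases ((MonoidHom.normal_ker (MonoidHom.transferSylow P hle)).eq_bot_or_eq_top) with h | h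
  · rw [h, Subgroup.isComplement'_bot_left] at hc
    refine not_isPGroup_of_simple hG p ?_
    have hPp := P.isPGroup'
    rw [hc] at hPp
    exact hPp.of_equiv Subgroup.topEquiv
  · rw [h, Subgroup.isComplement'_top_left] at hc
    exact P.ne_bot_of_dvd_card hp hc

/-- A subgroup of index `n` forces `2|G| ∣ n!`; contrapositive form. -/
theorem not_proper_of_index [IsSimpleGroup G] (hG : ¬ IsMulCommutative G) {H : Subgroup G}
    (h : ¬ 2 * Nat.card G ∣ H.index.factorial) : H = ⊤ := by
  by_contra hH
  exact h (two_mul_card_dvd_factorial_index hG H hH)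

/-- A group of squarefree order `2·odd`, or any group with Sylow 2-subgroup of order two, is not
nonabelian simple. -/
theorem four_dvd_card_of_simple [IsSimpleGroup G] (hG : ¬ IsMulCommutative G)
    (h2 : 2 ∣ Nat.card G) : 4 ∣ Nat.card G := by
  by_contra h4
  haveI : Fact (Nat.Prime 2) := ⟨Nat.prime_two⟩
  obtain ⟨P⟩ : Nonempty (Sylow 2 G) := inferInstance
  have hm : ¬ 2 ∣ Nat.card G / 2 := fun h => h4 (by omega)
  have hc := card_sylow_eq (k := 1) (m := Nat.card G / 2)
    (by rw [pow_one, Nat.mul_div_cancel' h2]) hm P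
  rw [pow_one] at hc
  haveI : IsCyclic P := isCyclic_of_prime_card hc
  have hmin : (Nat.card G).minFac = 2 := (Nat.minFac_eq_two_iff _).2 h2
  exact not_normalizer_le_centralizer hG h2 P (IsCyclic.normalizer_le_centralizer hmin inferInstance)

end CfsgLib.Small
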