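import Mathlib.GroupTheory.Sylow
import Mathlib.GroupTheory.GroupAction.Quotient
import Mathlib.GroupTheory.SpecificGroups.Cyclic
import Mathlib.Tactic
import Cfsg.Agent.Small.SylowArgs

/-!
# Sylow subgroups of prime order, fixed points, intersections of Sylow subgroups
-/

open scoped Pointwise

namespace CfsgLib.Small

variable {G : Type*} [Group G] [Finite G] {p : ℕ} [Fact p.Prime]

/-- Distinct subgroups of the same prime order meet trivially; elements generate. -/
theorem eq_zpowers_of_mem_prime {H : Subgroup G} (hH : Nat.card H = p) {x : G} (hx : x ∈ H)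
    (hx1 : x ≠ 1) : Subgroup.zpowers x = H := by
  refine Subgroup.eq_of_le_of_card_ge (Subgroup.zpowers_le.2 hx) ?_
  have h : orderOf x ∣ p := hH ▸ Subgroup.orderOf_dvd_natCard H hx
  rw [hH, Nat.card_zpowers]
  rcases (Nat.dvd_prime (Fact.out : p.Prime)).1 h with h1 | h1
  · exact absurd (orderOf_eq_one_iff.1 h1) hx1
  · exact h1.ge

theorem orderOf_eq_of_mem_prime {H : Subgroup G} (hH : Nat.card H = p) {x : G} (hx : x ∈ H)
    (hx1 : x ≠ 1) : orderOf x = p := by
  rw [← Nat.card_zpowers, eq_zpowers_of_mem_prime hH hx hx1, hH]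

/-- Elements of order `p` when the Sylow `p`-subgroups have order `p`. -/
theorem card_orderOf_eq_prime (hP : ∀ P : Sylow p G, Nat.card (P : Subgroup G) = p) :
    Nat.card {g : G // orderOf g = p} = Nat.card (Sylow p G) * (p - 1) := by
  classical
  haveI := Fintype.ofFinite (Sylow p G)
  have hp := (Fact.out : p.Prime)
  have hne : ∀ g : G, orderOf g = p → g ≠ 1 := fun g h h1 => by
    rw [h1, orderOf_one] at h; exact hp.one_lt.ne h
  have hex : ∀ g : G, orderOf g = p → ∃ Q : Sylow p G, g ∈ (Q : Subgroup G) := by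
    intro g hg
    obtain ⟨Q, hQ⟩ := (IsPGroup.of_card (n := 1) (by rw [Nat.card_zpowers, hg, pow_one]) :
      IsPGroup p ↥(Subgroup.zpowers g)).exists_le_sylow
    exact ⟨Q, hQ (Subgroup.mem_zpowers g)⟩
  choose Q hQ using hex
  let e : {g : G // orderOf g = p} ≃ Σ P : Sylow p G, {g : ↥(P : Subgroup G) // g ≠ 1} :=
    { toFun := fun g => ⟨Q g.1 g.2, ⟨⟨g.1, hQ g.1 g.2⟩, fun h => hne g.1 g.2 (congrArg Subtype.val h)⟩⟩
      invFun := fun s => ⟨s.2.1.1, orderOf_eq_of_mem_prime (hP s.1) s.2.1.2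
        (fun h => s.2.2 (Subtype.ext h))⟩
      left_inv := fun g => rfl
      right_inv := by
        rintro ⟨P, ⟨⟨g, hg⟩, hg1⟩⟩
        have hg' : orderOf g = p := orderOf_eq_of_mem_prime (hP P) hg fun h => hg1 (Subtype.ext h)
        have hPQ : Q g hg' = P := Sylow.ext
          ((eq_zpowers_of_mem_prime (hP _) (hQ g hg') (hne g hg')).symm.trans
            (eq_zpowers_of_mem_prime (hP P) hg (hne g hg')))
        subst hPQ
        rfl }
  rw [Nat.card_congr e, Nat.card_sigma]
  have hc : ∀ P : Sylow p G, Nat.card {g : ↥(P : Subgroup G) // g ≠ 1} = p - 1 := by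
    intro P
    haveI := Fintype.ofFinite ↥(P : Subgroup G)
    rw [Nat.card_eq_fintype_card, Fintype.card_subtype_compl, Fintype.card_subtype_eq,
      ← Nat.card_eq_fintype_card, hP]
  simp [hc, Finset.sum_const, Nat.card_eq_fintype_card]

/-- An element of `N(P)` that commutes with a nontrivial element of `P` centralises `P`. -/
theorem mem_centralizer_of_commute_prime {P : Subgroup G} (hP : Nat.card P = p) {x a : G}
    (ha : a ∈ P) (ha1 : a ≠ 1) (h : Commute x a) : x ∈ Subgroup.centralizer (P : Set G) := by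
  rw [Subgroup.mem_centralizer_iff]
  intro b hb
  have hb' : b ∈ Subgroup.zpowers a := (eq_zpowers_of_mem_prime hP ha ha1).symm ▸ hb
  obtain ⟨k, rfl⟩ := hb'
  exact ((h.zpow_right k).eq).symm

/-- An element normalising but not centralising `P` of prime order fixes at most one point of
each `P`-orbit, in any action. -/
theorem card_fixedBy_le_card_orbits {α : Type*} [MulAction G α] [Finite α] {P : Subgroup G}
    (hP : Nat.card P = p) {x : G} (hxN : x ∈ Subgroup.normalizer (P : Set G))
    (hxC : x ∉ Subgroup.centralizer (P : Set G)) :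
    Nat.card (MulAction.fixedBy α x) ≤ Nat.card (MulAction.orbitRel.Quotient ↥P α) := by
  refine Nat.card_le_card_of_injective (fun c => Quotient.mk'' c.1) ?_
  rintro ⟨c, hc⟩ ⟨d, hd⟩ h
  simp only [MulAction.mem_fixedBy] at hc hd
  obtain ⟨a, ha⟩ := MulAction.orbitRel_apply.1 (Quotient.eq''.1 h)
  change (a : G) • d = c at ha
  apply Subtype.ext
  show c = d
  by_cases ha1 : (a : G) = 1
  · rw [← ha, ha1, one_smul]
  -- `b = x a x⁻¹ a⁻¹` fixes `c`
  have hmem : x * a * x⁻¹ * (a : G)⁻¹ ∈ P :=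
    mul_mem ((Subgroup.mem_normalizer_iff.1 hxN a).1 a.2) (inv_mem a.2)
  have hfix : (x * a * x⁻¹ * (a : G)⁻¹) • c = c := by
    conv_lhs => rw [← ha, smul_smul, inv_mul_cancel_right, ← smul_smul]
    rw [inv_smul_eq_iff.2 hd.symm, mul_smul, ha, hc]
  have hne : x * a * x⁻¹ * (a : G)⁻¹ ≠ 1 := fun h1 => hxC
    (mem_centralizer_of_commute_prime hP a.2 ha1
      (mul_inv_eq_iff_eq_mul.1 (mul_inv_eq_one.1 h1) : Commute x (a : G)))
  have hstab : Subgroup.zpowers (x * a * x⁻¹ * (a : G)⁻¹) ≤ MulAction.stabilizer G c :=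
    Subgroup.zpowers_le.2 hfix
  rw [eq_zpowers_of_mem_prime hP hmem hne] at hstab
  have hac : (a : G)⁻¹ • c = c := hstab (inv_mem a.2)
  calc c = (a : G)⁻¹ • c := hac.symm
    _ = d := by rw [← ha, inv_smul_smul]

/-- An element of order `p` fixes exactly one coset of the normaliser of a Sylow subgroup of
order `p`. -/
theorem card_fixedBy_coset_normalizer (P : Sylow p G) (hP : Nat.card (P : Subgroup G) = p) {y : G}
    (hy : orderOf y = p) :
    Nat.card (MulAction.fixedBy (G ⧸ Subgroup.normalizer ((P : Subgroup G) : Set G)) y) = 1 := by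
  classical
  set N := Subgroup.normalizer ((P : Subgroup G) : Set G)
  have hcard : ∀ Q : Sylow p G, Nat.card (Q : Subgroup G) = p := fun Q =>
    (Nat.card_congr (Q.equiv P).toEquiv).trans hP
  have hy1 : y ≠ 1 := fun h => by
    rw [h, orderOf_one] at hy; exact (Fact.out : p.Prime).one_lt.ne hy
  -- fixed cosets correspond to the Sylow subgroups containing `y`
  have key : ∀ g : G, y • (g : G ⧸ N) = g ↔ y ∈ ((g • P : Sylow p G) : Subgroup G) := by
    intro g
    have hmem : y ∈ ((g • P : Sylow p G) : Subgroup G) ↔ g⁻¹ * y * g ∈ (P : Subgroup G) := by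
      rw [Sylow.coe_subgroup_smul, Subgroup.mem_pointwise_smul_iff_inv_smul_mem, ← map_inv]
      simp [MulAut.smul_def]
    show ((y * g : G) : G ⧸ N) = g ↔ _
    rw [eq_comm, QuotientGroup.eq, ← mul_assoc, hmem]
    refine ⟨fun h => ?_, fun h => Subgroup.le_normalizer h⟩
    have hp : IsPGroup p ↥(Subgroup.zpowers (g⁻¹ * y * g)) :=
      IsPGroup.of_card (n := 1) (by
        have ho : orderOf (g⁻¹ * y * g) = p := by
          rw [← hy]
          have h2 := orderOf_injective (MulAut.conj g⁻¹).toMonoidHom (MulAut.conj g⁻¹).injective y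
          simpa [MulAut.conj_apply, mul_assoc] using h2
        rw [Nat.card_zpowers, ho, pow_one])
    have hin := hp.inf_normalizer_sylow P
    exact (hin.le ⟨Subgroup.mem_zpowers _, h⟩).2
  obtain ⟨Q, hQ⟩ := (IsPGroup.of_card (n := 1) (by rw [Nat.card_zpowers, hy, pow_one]) :
    IsPGroup p ↥(Subgroup.zpowers y)).exists_le_sylow
  obtain ⟨g, rfl⟩ := MulAction.exists_smul_eq G P Q
  rw [Nat.card_eq_one_iff_unique]
  refine ⟨⟨fun c d => Subtype.ext ?_⟩, ⟨⟨g, (key g).2 (hQ (Subgroup.mem_zpowers y))⟩⟩⟩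
  have huniq : ∀ c : G ⧸ N, y • c = c → c = g := by
    intro c hc
    induction c using QuotientGroup.induction_on with
    | _ h =>
      have heq : h • P = g • P := Sylow.ext
        ((eq_zpowers_of_mem_prime (hcard _) ((key h).1 hc) hy1).symm.trans
          (eq_zpowers_of_mem_prime (hcard _) (hQ (Subgroup.mem_zpowers y)) hy1))
      rw [QuotientGroup.eq]
      refine Sylow.smul_eq_iff_mem_normalizer.1 ?_
      rw [mul_smul, ← heq, inv_smul_smul]
  exact (huniq c.1 c.2).trans (huniq d.1 d.2).symm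

/-- If `n_p ≢ 1 (mod p^k)` two Sylow subgroups meet in index at most `p^(k-1)`. -/
theorem exists_sylow_small_index (k : ℕ) (h : ¬ Nat.card (Sylow p G) ≡ 1 [MOD p ^ k]) :
    ∃ P R : Sylow p G, P ≠ R ∧
      ((R : Subgroup G).subgroupOf (P : Subgroup G)).index ≤ p ^ (k - 1) := by
  classical
  by_contra hcon
  push Not at hcon
  apply h
  obtain ⟨P⟩ : Nonempty (Sylow p G) := inferInstance
  haveI := Fintype.ofFinite (Sylow p G)
  have hfix : ∀ R : Sylow p G, R ≠ P → p ^ k ∣ Nat.card (MulAction.orbit ↥(P : Subgroup G) R) := by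
    intro R hR
    have hst : MulAction.stabilizer ↥(P : Subgroup G) R
        = (R : Subgroup G).subgroupOf (P : Subgroup G) := by
      ext a
      rw [MulAction.mem_stabilizer_iff, Subgroup.smul_def, Sylow.smul_eq_iff_mem_normalizer,
        Subgroup.mem_subgroupOf]
      refine ⟨fun ha => ?_, fun ha => Subgroup.le_normalizer ha⟩
      have hin := P.isPGroup'.inf_normalizer_sylow R
      exact (hin.le ⟨a.2, ha⟩).2
    rw [Nat.card_coe_set_eq, ← MulAction.index_stabilizer, hst]
    obtain ⟨j, hj⟩ := P.isPGroup'.index ((R : Subgroup G).subgroupOf (P : Subgroup G))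
    have hlt := hcon P R hR.symm
    rw [hj] at hlt ⊢
    refine pow_dvd_pow p ?_
    have := (Nat.pow_lt_pow_iff_right (Fact.out : p.Prime).one_lt).1 hlt
    omega
  have hsum := Nat.card_congr (MulAction.selfEquivSigmaOrbits ↥(P : Subgroup G) (Sylow p G))
  rw [Nat.card_sigma] at hsum
  have horb : MulAction.orbit ↥(P : Subgroup G) P = {P} := by
    ext R
    simp only [MulAction.mem_orbit_iff, Set.mem_singleton_iff]
    constructor
    · rintro ⟨a, rfl⟩
      exact Sylow.smul_eq_iff_mem_normalizer.2 (Subgroup.le_normalizer a.2)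
    · rintro rfl; exact ⟨1, one_smul _ _⟩
  rw [hsum, ← Finset.add_sum_erase _ _
    (Finset.mem_univ (Quotient.mk'' P : MulAction.orbitRel.Quotient ↥(P : Subgroup G) (Sylow p G)))]
  have h1 : MulAction.orbit ↥(P : Subgroup G) (Quotient.out (Quotient.mk'' P :
      MulAction.orbitRel.Quotient ↥(P : Subgroup G) (Sylow p G))) = {P} := by
    rw [← horb]
    exact MulAction.orbit_eq_iff.2 (MulAction.orbitRel_apply.1 (Quotient.eq''.1 (Quotient.out_eq' _)))
  rw [h1, Nat.card_unique (α := ({P} : Set (Sylow p G)))]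
  refine Nat.ModEq.add_left 1 ?_ |>.trans (by rw [add_zero])
  rw [Nat.modEq_zero_iff_dvd]
  refine Finset.dvd_sum fun q hq => hfix _ ?_
  intro hP
  refine (Finset.ne_of_mem_erase hq) ?_
  rw [← Quotient.out_eq' q, hP]

end CfsgLib.Small
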