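import Mathlib.GroupTheory.Perm.Cycle.Type
import Mathlib.GroupTheory.Sylow
import Mathlib.GroupTheory.GroupAction.Quotient
import Mathlib.Tactic
import Cfsg.Agent.Small.Dihedral

/-!
# Thompson transfer lemma (by the sign of a coset action) and parity obstructions
-/

namespace CfsgLib.Small

open Equiv

variable {G : Type*} [Group G]

/-- A finite group in which some element acts as an odd permutation has a subgroup of index
two. -/
theorem exists_index_two_of_odd_perm {α : Type*} [Fintype α] [DecidableEq α] (f : G →* Perm α)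
    {g : G} (hg : Perm.sign (f g) ≠ 1) : ∃ H : Subgroup G, H.index = 2 := by
  refine ⟨(Perm.sign.comp f).ker, ?_⟩
  have hsurj : Function.Surjective (Perm.sign.comp f) := by
    intro u
    rcases Int.units_eq_one_or u with rfl | rfl
    · exact ⟨1, map_one _⟩
    · exact ⟨g, (Int.units_eq_one_or _).resolve_left hg⟩
  rw [Subgroup.index_ker, MonoidHom.range_eq_top.2 hsurj, Subgroup.card_top,
    Nat.card_eq_fintype_card, Fintype.card_units_int]

/-- The sign of a permutation of order two is `(-1)^k`, with `2k` moved points. -/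
theorem sign_of_sq_eq_one {α : Type*} [Fintype α] [DecidableEq α] {σ : Perm α}
    (hσ : orderOf σ = 2) : Perm.sign σ = (-1) ^ (σ.support.card / 2) := by
  obtain ⟨n, hn⟩ := Perm.cycleType_prime_order (σ := σ) (hσ ▸ Nat.prime_two)
  rw [hσ] at hn
  have hs : σ.support.card = 2 * (n + 1) := by
    rw [← Perm.sum_cycleType, hn, Multiset.sum_replicate, smul_eq_mul, mul_comm]
  rw [Perm.sign_of_cycleType, hn, Multiset.sum_replicate, Multiset.card_replicate, smul_eq_mul,
    hs, Nat.mul_div_cancel_left _ two_pos, pow_add, mul_comm (n + 1) 2, pow_mul]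
  simp

/-- An involution moving all `2·odd` points is odd. -/
theorem sign_eq_neg_one_of_moves_all {α : Type*} [Fintype α] [DecidableEq α] {σ : Perm α}
    (hσ : orderOf σ = 2) (h : ∀ a, σ a ≠ a) (hodd : Odd (Fintype.card α / 2)) :
    Perm.sign σ = -1 := by
  have hs : σ.support = Finset.univ := by ext a; simp [h a]
  rw [sign_of_sq_eq_one hσ, hs, Finset.card_univ, hodd.neg_one_pow]

/-- **Thompson transfer lemma.** If `M` has index `2·odd`, `u` is an involution and `G` has no
subgroup of index two, then `u` is conjugate into `M`. -/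
theorem thompson_transfer [Finite G] (hno : ∀ H : Subgroup G, H.index ≠ 2) (M : Subgroup G)
    {u : G} (hu : orderOf u = 2) (hM : M.index % 4 = 2) : ∃ g : G, g⁻¹ * u * g ∈ M := by
  classical
  haveI := Fintype.ofFinite (G ⧸ M)
  by_contra hcon
  push Not at hcon
  let f := MulAction.toPermHom G (G ⧸ M)
  have hmove : ∀ a : G ⧸ M, f u a ≠ a := by
    intro a
    induction a using QuotientGroup.induction_on with
    | _ g =>
      show ((u * g : G) : G ⧸ M) ≠ (g : G ⧸ M)
      rw [ne_comm, ne_eq, QuotientGroup.eq, ← mul_assoc]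
      exact hcon g
  have hord : orderOf (f u) = 2 := by
    refine orderOf_eq_prime ?_ fun h1 => hmove ((1 : G) : G ⧸ M) (by rw [h1]; rfl)
    rw [← map_pow, ← hu, pow_orderOf_eq_one, map_one]
  have hodd : Odd (Fintype.card (G ⧸ M) / 2) := by
    rw [← Nat.card_eq_fintype_card, ← Subgroup.index_eq_card, Nat.odd_iff]
    omega
  obtain ⟨H, hH⟩ := exists_index_two_of_odd_perm f (g := u) (by
    rw [sign_eq_neg_one_of_moves_all hord hmove hodd]; decide)
  exact hno H hH

/-- Form for a subgroup of index two in a Sylow 2-subgroup. -/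
theorem thompson_transfer_sylow [Finite G] (hno : ∀ H : Subgroup G, H.index ≠ 2) (S : Sylow 2 G)
    (M : Subgroup G) (hMS : M ≤ S) (hM : M.relIndex S = 2) {u : G} (hu : orderOf u = 2) :
    ∃ g : G, g⁻¹ * u * g ∈ M := by
  haveI : Fact (Nat.Prime 2) := ⟨Nat.prime_two⟩
  refine thompson_transfer hno M hu ?_
  rw [← Subgroup.relIndex_mul_index hMS, hM]
  have := S.not_dvd_index
  omega

end CfsgLib.Small
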