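import Mathlib.GroupTheory.PGroup
import Mathlib.GroupTheory.Coset.Card
import Mathlib.GroupTheory.GroupAction.Quotient
import Mathlib.Tactic
import Cfsg.Agent.Small.SylowPrime
import Cfsg.Agent.Small.ThompsonTransfer
import Cfsg.Agent.Small.CosetRep

/-!
# Fixed points of elements on cosets
-/

namespace CfsgLib.Small

variable {G : Type*} [Group G] [Finite G]

/-- The permutation-character formula: `|Fix(t)| · |H| = |t^G ∩ H| · |C(t)|`. -/
theorem card_fixedBy_mul_card (H : Subgroup G) (t : G) :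
    Nat.card (MulAction.fixedBy (G ⧸ H) t) * Nat.card H
      = Nat.card {h : G // h ∈ H ∧ IsConj t h}
        * Nat.card (Subgroup.centralizer ({t} : Set G)) := by
  classical
  have hkey : ∀ g : G, t • (g : G ⧸ H) = g ↔ g⁻¹ * t * g ∈ H := by
    intro g
    show ((t * g : G) : G ⧸ H) = g ↔ _
    rw [eq_comm, QuotientGroup.eq, ← mul_assoc]
  have e1 : Nat.card {g : G // g⁻¹ * t * g ∈ H}
      = Nat.card (MulAction.fixedBy (G ⧸ H) t) * Nat.card H := by
    rw [mul_comm, ← Nat.card_prod]
    refine Nat.card_congr ?_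
    refine Equiv.trans ?_ (QuotientGroup.preimageMkEquivSubgroupProdSet H _)
    exact Equiv.subtypeEquivRight fun g => by
      rw [Set.mem_preimage, MulAction.mem_fixedBy, hkey]
  have hfib : ∀ h : {h : G // h ∈ H ∧ IsConj t h},
      {g : G // g⁻¹ * t * g = h.1} ≃ Subgroup.centralizer ({t} : Set G) := fun h => by
    let g₀ := (isConj_iff.1 h.2.2).choose
    have h₀ : g₀ * t * g₀⁻¹ = h.1 := (isConj_iff.1 h.2.2).choose_spec
    refine
      { toFun := fun g => ⟨g.1 * g₀, Subgroup.mem_centralizer_singleton_iff.2 ?_⟩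
        invFun := fun c => ⟨c.1 * g₀⁻¹, ?_⟩
        left_inv := fun g => Subtype.ext (by simp)
        right_inv := fun c => Subtype.ext (by simp) }
    · have h1 : g.1⁻¹ * t * g.1 = g₀ * t * g₀⁻¹ := g.2.trans h₀.symm
      calc g.1 * g₀ * t = g.1 * (g₀ * t * g₀⁻¹) * g₀ := by group
        _ = g.1 * (g.1⁻¹ * t * g.1) * g₀ := by rw [h1]
        _ = t * (g.1 * g₀) := by group
    · have h1 := Subgroup.mem_centralizer_singleton_iff.1 c.2
      rw [← h₀]
      calc (c.1 * g₀⁻¹)⁻¹ * t * (c.1 * g₀⁻¹) = g₀ * (c.1⁻¹ * (t * c.1)) * g₀⁻¹ := by group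
        _ = g₀ * t * g₀⁻¹ := by rw [← h1]; group
  have e2 : Nat.card {g : G // g⁻¹ * t * g ∈ H}
      = Nat.card {h : G // h ∈ H ∧ IsConj t h}
        * Nat.card (Subgroup.centralizer ({t} : Set G)) := by
    rw [← Nat.card_prod]
    let f : {g : G // g⁻¹ * t * g ∈ H} → {h : G // h ∈ H ∧ IsConj t h} :=
      fun g => ⟨g.1⁻¹ * t * g.1, g.2, isConj_iff.2 ⟨g.1⁻¹, by group⟩⟩
    refine Nat.card_congr ((Equiv.sigmaFiberEquiv f).symm.trans
      ((Equiv.sigmaCongrRight fun h => ?_).trans (Equiv.sigmaEquivProd _ _)))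
    refine Equiv.trans ?_ (hfib h)
    exact
      { toFun := fun g => ⟨g.1.1, congrArg Subtype.val g.2⟩
        invFun := fun g => ⟨⟨g.1, (congrArg (· ∈ H) g.2).mpr h.2.1⟩, Subtype.ext g.2⟩
        left_inv := fun _ => rfl
        right_inv := fun _ => rfl }
  exact e1.symm.trans e2

/-- A nontrivial element of a simple group moves a coset of a proper subgroup. -/
theorem card_fixedBy_lt_index [IsSimpleGroup G] {H : Subgroup G} (hH : H ≠ ⊤) {t : G} (ht : t ≠ 1) :
    Nat.card (MulAction.fixedBy (G ⧸ H) t) < H.index := by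
  refine lt_of_le_of_ne ?_ fun h => ht ?_
  · exact Nat.card_le_card_of_injective Subtype.val Subtype.val_injective
  · refine toPermHom_coset_injective hH ?_
    rw [map_one]
    ext a
    have : MulAction.fixedBy (G ⧸ H) t = Set.univ :=
      (Set.eq_univ_iff_ncard _).2 (by rw [← Nat.card_coe_set_eq, h]; rfl)
    exact (Set.ext_iff.1 this a).2 trivial

/-- An involution of a nonabelian simple group moves a multiple of four cosets. -/
theorem four_dvd_index_sub_fixedBy [IsSimpleGroup G] (hG : ¬ IsMulCommutative G) {H : Subgroup G}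
    (hH : H ≠ ⊤) {t : G} (ht : orderOf t = 2) :
    4 ∣ H.index - Nat.card (MulAction.fixedBy (G ⧸ H) t) := by
  classical
  haveI := Fintype.ofFinite (G ⧸ H)
  set f := MulAction.toPermHom G (G ⧸ H)
  set σ := f t with hσdef
  have hσ : orderOf σ = 2 := by rw [orderOf_injective f (toPermHom_coset_injective hH), ht]
  have hsign := sign_toPerm_eq_one hG f t
  rw [sign_of_sq_eq_one hσ] at hsign
  have heven : Even (σ.support.card / 2) := by
    by_contra h
    rw [Nat.not_even_iff_odd] at h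
    rw [h.neg_one_pow] at hsign
    exact absurd hsign (by decide)
  have h2 : 2 ∣ σ.support.card := by
    obtain ⟨n, hn⟩ := Equiv.Perm.cycleType_prime_order (σ := σ) (hσ ▸ Nat.prime_two)
    rw [hσ] at hn
    exact ⟨n + 1, by rw [← Equiv.Perm.sum_cycleType, hn, Multiset.sum_replicate, smul_eq_mul, mul_comm]⟩
  have hcard : Nat.card (MulAction.fixedBy (G ⧸ H) t) + σ.support.card = H.index := by
    rw [Subgroup.index_eq_card, Nat.card_eq_fintype_card, Nat.card_eq_fintype_card,
      ← Finset.card_compl_add_card σ.support]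
    congr 1
    rw [Fintype.card_of_subtype]
    intro a
    rw [Finset.mem_compl, Equiv.Perm.mem_support, not_not]
    rfl
  obtain ⟨r, hr⟩ := h2
  obtain ⟨s, hs⟩ := heven
  rw [hr, Nat.mul_div_cancel_left _ two_pos] at hs
  exact ⟨s, by omega⟩

/-- An element centralising a Sylow subgroup of order `p` fixes `1 (mod p)` cosets of its
normaliser. -/
theorem card_fixedBy_modEq_one {p : ℕ} [Fact p.Prime] (P : Sylow p G)
    (hP : Nat.card (P : Subgroup G) = p) {x : G}
    (hx : x ∈ Subgroup.centralizer ((P : Subgroup G) : Set G)) :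
    Nat.card (MulAction.fixedBy (G ⧸ Subgroup.normalizer ((P : Subgroup G) : Set G)) x) % p = 1 := by
  classical
  have hp := (Fact.out : p.Prime)
  set N := Subgroup.normalizer ((P : Subgroup G) : Set G)
  haveI : Nontrivial ↥(P : Subgroup G) :=
    Finite.one_lt_card_iff_nontrivial.1 (lt_of_lt_of_eq hp.one_lt hP.symm)
  obtain ⟨a, ha⟩ := exists_ne (1 : ↥(P : Subgroup G))
  have hao : orderOf (a : G) = p :=
    orderOf_eq_of_mem_prime hP a.2 fun h => ha (Subtype.ext h)
  let F := MulAction.fixedBy (G ⧸ N) x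
  let A : SubMulAction ↥(P : Subgroup G) (G ⧸ N) :=
    { carrier := F
      smul_mem' := fun c q hq => by
        show x • (c : G) • q = (c : G) • q
        rw [smul_smul, (Subgroup.mem_centralizer_iff.1 hx c c.2).symm, ← smul_smul]
        exact congrArg _ hq }
  have hxN : x ∈ N := Subgroup.centralizer_le_normalizer _ hx
  have hN : ((1 : G) : G ⧸ N) ∈ F := by
    show ((x * 1 : G) : G ⧸ N) = _
    rw [mul_one, QuotientGroup.eq, mul_one]
    exact inv_mem hxN
  have hmod := P.isPGroup'.card_modEq_card_fixedPoints (α := A)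
  have hone : Nat.card (MulAction.fixedPoints ↥(P : Subgroup G) A) = 1 := by
    have h1 := card_fixedBy_coset_normalizer P hP hao
    rw [Nat.card_eq_one_iff_unique] at h1 ⊢
    obtain ⟨h1, -⟩ := h1
    refine ⟨⟨fun u v => ?_⟩, ⟨⟨⟨_, hN⟩, fun c => Subtype.ext ?_⟩⟩⟩
    · have e := congrArg Subtype.val (h1.elim (⟨u.1.1, congrArg Subtype.val (u.2 a)⟩ :
        MulAction.fixedBy (G ⧸ N) (a : G)) ⟨v.1.1, congrArg Subtype.val (v.2 a)⟩)
      exact Subtype.ext (Subtype.ext e)
    · show (c : G) • ((1 : G) : G ⧸ N) = _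
      show (((c : G) * 1 : G) : G ⧸ N) = _
      rw [mul_one, QuotientGroup.eq, mul_one]
      exact inv_mem (Subgroup.le_normalizer c.2)
  rw [hone] at hmod
  exact Eq.trans hmod (Nat.mod_eq_of_lt hp.one_lt)

end CfsgLib.Small

namespace CfsgLib.Small

variable {G : Type*} [Group G] [Finite G]

/-- A `q`-element fixes a number of cosets congruent to the index modulo `q`. -/
theorem card_fixedBy_modEq_index {q k : ℕ} [Fact q.Prime] (H : Subgroup G) {x : G}
    (hx : x ^ q ^ k = 1) :
    H.index % q = Nat.card (MulAction.fixedBy (G ⧸ H) x) % q := by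
  have hX : IsPGroup q ↥(Subgroup.zpowers x) := by
    intro y
    refine ⟨k, Subtype.ext ?_⟩
    obtain ⟨j, hj⟩ := y.2
    simp only [SubgroupClass.coe_pow, OneMemClass.coe_one, ← hj]
    rw [← zpow_natCast, ← zpow_mul, mul_comm, zpow_mul, zpow_natCast, hx, one_zpow]
  rw [Subgroup.index_eq_card]
  refine Eq.trans (hX.card_modEq_card_fixedPoints (α := G ⧸ H)) ?_
  congr 1
  refine Nat.card_congr (Equiv.subtypeEquivRight fun c => ⟨fun h => h ⟨x, Subgroup.mem_zpowers x⟩,
    fun h a => ?_⟩)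
  obtain ⟨j, hj⟩ := a.2
  show (a : G) • c = c
  rw [← hj]
  exact (MulAction.stabilizer G c).zpow_mem h j

/-- A `q`-subgroup of `H` fixes another coset of `H` when `[G : H] ≡ 0 (mod q)`. -/
theorem exists_conj_le_of_dvd_index {q : ℕ} [Fact q.Prime] {H K : Subgroup G} (hK : IsPGroup q K)
    (hKH : K ≤ H) (hdvd : q ∣ H.index) :
    ∃ g : G, g ∉ H ∧ ∀ k ∈ K, g⁻¹ * k * g ∈ H := by
  have hfix : ((1 : G) : G ⧸ H) ∈ MulAction.fixedPoints ↥K (G ⧸ H) := fun c => by
    show (((c : G) * 1 : G) : G ⧸ H) = _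
    rw [mul_one, QuotientGroup.eq, mul_one]
    exact inv_mem (hKH c.2)
  obtain ⟨b, hb, hne⟩ := hK.exists_fixed_point_of_prime_dvd_card_of_fixed_point (G ⧸ H)
    (by rwa [← Subgroup.index_eq_card]) hfix
  induction b using QuotientGroup.induction_on with
  | _ g =>
    refine ⟨g, fun hg => hne ?_, fun k hk => ?_⟩
    · rw [QuotientGroup.eq, inv_one, one_mul]; exact hg
    · have h : ((k * g : G) : G ⧸ H) = g := hb ⟨k, hk⟩
      rw [eq_comm, QuotientGroup.eq, ← mul_assoc] at h
      exact h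

/-- For commuting `t` and a `q`-element `a`, the fixed points of `t` are congruent to the common
fixed points. -/
theorem card_fixedBy_modEq_inter {q k : ℕ} [Fact q.Prime] (H : Subgroup G) {t a : G}
    (hc : Commute t a) (ha : a ^ q ^ k = 1) :
    Nat.card (MulAction.fixedBy (G ⧸ H) t) % q
      = Nat.card {c : G ⧸ H // t • c = c ∧ a • c = c} % q := by
  have hX : IsPGroup q ↥(Subgroup.zpowers a) := by
    intro y
    refine ⟨k, Subtype.ext ?_⟩
    obtain ⟨j, hj⟩ := y.2
    simp only [SubgroupClass.coe_pow, OneMemClass.coe_one, ← hj]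
    rw [← zpow_natCast, ← zpow_mul, mul_comm, zpow_mul, zpow_natCast, ha, one_zpow]
  let A : SubMulAction ↥(Subgroup.zpowers a) (G ⧸ H) :=
    { carrier := MulAction.fixedBy (G ⧸ H) t
      smul_mem' := fun c q hq => by
        show t • (c : G) • q = (c : G) • q
        obtain ⟨j, hj⟩ := c.2
        rw [← hj, smul_smul, (hc.zpow_right j).eq, ← smul_smul]
        exact congrArg _ hq }
  refine Eq.trans (hX.card_modEq_card_fixedPoints (α := A)) ?_
  congr 1
  refine Nat.card_congr
    { toFun := fun c => ⟨c.1.1, c.1.2, congrArg Subtype.val (c.2 ⟨a, Subgroup.mem_zpowers a⟩)⟩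
      invFun := fun c => ⟨⟨c.1, c.2.1⟩, fun d => Subtype.ext ?_⟩
      left_inv := fun _ => rfl
      right_inv := fun _ => rfl }
  obtain ⟨j, hj⟩ := d.2
  show (d : G) • c.1 = c.1
  rw [← hj]
  exact (MulAction.stabilizer G c.1).zpow_mem c.2.2 j

/-- If `a` fixes exactly two cosets of `M ∋ a, t`, a commuting `t` fixes both. -/
theorem card_inter_fixedBy_eq_two {M : Subgroup G} {t a : G} (hc : Commute t a) (ht : t ∈ M)
    (ha : a ∈ M) (h2 : Nat.card (MulAction.fixedBy (G ⧸ M) a) = 2) :
    Nat.card {c : G ⧸ M // t • c = c ∧ a • c = c} = 2 := by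
  classical
  have hbase : ∀ g : G, g ∈ M → g • ((1 : G) : G ⧸ M) = ((1 : G) : G ⧸ M) := fun g hg => by
    show ((g * 1 : G) : G ⧸ M) = _
    rw [mul_one, QuotientGroup.eq, mul_one]
    exact inv_mem hg
  have htb := hbase t ht
  have hab := hbase a ha
  refine (Nat.card_congr (Equiv.subtypeEquivRight fun c => ⟨fun h => h.2, fun h => ⟨?_, h⟩⟩)).trans h2
  have htc : a • (t • c) = t • c := by rw [smul_smul, ← hc.eq, ← smul_smul, h]
  by_cases hc1 : c = ((1 : G) : G ⧸ M)
  · rw [hc1]; exact htb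
  · obtain ⟨x, y, hxy, hu⟩ := Nat.card_eq_two_iff.1 h2
    have hmem : ∀ z : MulAction.fixedBy (G ⧸ M) a, z = x ∨ z = y := fun z => by
      have := hu.symm ▸ Set.mem_univ z
      simpa using this
    have hne : t • c ≠ ((1 : G) : G ⧸ M) := fun h' =>
      hc1 (MulAction.injective t (h'.trans htb.symm))
    rcases hmem ⟨_, htc⟩ with e1 | e1 <;> rcases hmem ⟨c, h⟩ with e2 | e2 <;>
      rcases hmem ⟨_, hab⟩ with e3 | e3 <;>
      first
      | exact congrArg Subtype.val (e1.trans e2.symm)
      | exact absurd (congrArg Subtype.val (e1.trans e3.symm)) hne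
      | exact absurd (congrArg Subtype.val (e2.trans e3.symm)) hc1

end CfsgLib.Small
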