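import Mathlib.GroupTheory.Subgroup.Centralizer
import Mathlib.GroupTheory.SpecificGroups.Cyclic
import Mathlib.Tactic
import Cfsg.Agent.Small.SylowPrime

/-!
# Normalisers of Sylow subgroups of prime order and of Sylow intersections in simple groups
-/

namespace CfsgLib.Small

variable {G : Type*} [Group G] [Finite G] {p : ℕ} [Fact p.Prime]

/-- `|N(P) : C(P)|` divides `p - 1` for `|P| = p`. -/
theorem relIndex_centralizer_dvd_pred {P : Subgroup G} (hP : Nat.card P = p) :
    (Subgroup.centralizer (P : Set G)).relIndex (Subgroup.normalizer (P : Set G)) ∣ p - 1 := by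
  haveI : IsCyclic P := isCyclic_of_prime_card hP
  have key := Subgroup.card_dvd_of_injective _ (QuotientGroup.kerLift_injective P.normalizerMonoidHom)
  rw [← Subgroup.index_eq_card, Subgroup.normalizerMonoidHom_ker, IsCyclic.card_mulAut, hP,
    Nat.totient_prime Fact.out] at key
  exact key

/-- A Sylow normaliser order `p·r` with `r` prime to `p - 1` contradicts simplicity. -/
theorem false_of_coprime_normalizer [IsSimpleGroup G] (hG : ¬ IsMulCommutative G) (P : Sylow p G)
    (hP : Nat.card (P : Subgroup G) = p)
    (h : Nat.Coprime (Nat.card (Subgroup.normalizer ((P : Subgroup G) : Set G))) (p - 1)) :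
    False := by
  refine not_normalizer_le_centralizer hG ?_ P ?_
  · exact hP ▸ Subgroup.card_subgroup_dvd_card _
  · rw [← Subgroup.relIndex_eq_one]
    refine Nat.eq_one_of_dvd_coprimes h ?_ (relIndex_centralizer_dvd_pred hP)
    exact Subgroup.index_dvd_card _

/-- The normaliser of a nontrivial proper subgroup of a simple group is proper. -/
theorem normalizer_ne_top [IsSimpleGroup G] {D : Subgroup G} (h1 : D ≠ ⊥) (h2 : D ≠ ⊤) :
    Subgroup.normalizer (D : Set G) ≠ ⊤ := by
  intro h
  rcases (Subgroup.normalizer_eq_top_iff.1 h).eq_bot_or_eq_top with h' | h'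
  · exact h1 h'
  · exact h2 h'

end CfsgLib.Small
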