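import Mathlib.GroupTheory.Sylow
import Mathlib.Tactic
import Cfsg.Agent.Small.SimpleTools

/-!
# Sylow subgroups inside a subgroup
-/

namespace CfsgLib.Small

variable {G : Type*} [Group G] [Finite G] {p : ℕ} [Fact p.Prime]

/-- The order of a subgroup containing a Sylow subgroup, through its own Sylow number. -/
theorem exists_card_eq_mul_normalizer (P : Sylow p G) {H : Subgroup G}
    (hPH : (P : Subgroup G) ≤ H) :
    ∃ n : ℕ, n % p = 1 ∧
      Nat.card H = n * Nat.card ↥(Subgroup.normalizer ((P : Subgroup G) : Set G) ⊓ H) ∧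
      ((∃ Q : Sylow p G, Q ≠ P ∧ (Q : Subgroup G) ≤ H) → n ≠ 1) := by
  let P' : Sylow p ↥H := P.subtype hPH
  refine ⟨Nat.card (Sylow p ↥H), card_sylow_mod p, ?_, ?_⟩
  · rw [← card_sylow_mul_card_normalizer P']
    congr 1
    have e : Subgroup.normalizer ((P' : Subgroup ↥H) : Set ↥H)
        = (Subgroup.normalizer ((P : Subgroup G) : Set G) ⊓ H).subgroupOf H := by
      rw [Subgroup.inf_subgroupOf_right]
      exact (Subgroup.subgroupOf_normalizer_eq hPH).symm
    rw [e]
    exact Nat.card_congr (Subgroup.subgroupOfEquivOfLe inf_le_right).toEquiv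
  · rintro ⟨Q, hne, hQ⟩ h1
    haveI : Subsingleton (Sylow p ↥H) := (Nat.card_eq_one_iff_unique.1 h1).1
    exact hne (Sylow.subtype_injective (Subsingleton.elim (Q.subtype hQ) P'))

/-- A Sylow subgroup lies in the centraliser of an element centralising it. -/
theorem sylow_le_centralizer_singleton (P : Sylow p G) {t : G}
    (ht : t ∈ Subgroup.centralizer ((P : Subgroup G) : Set G)) :
    (P : Subgroup G) ≤ Subgroup.centralizer ({t} : Set G) := fun a ha =>
  Subgroup.mem_centralizer_singleton_iff.2 (Subgroup.mem_centralizer_iff.1 ht a ha)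

/-- A subgroup of `N(P)` larger than `[N(P) : C(P)]` meets `C(P)`. -/
theorem exists_ne_one_mem_centralizer {P : Subgroup G} {K : Subgroup G}
    (hK : K ≤ Subgroup.normalizer (P : Set G))
    (hlt : (Subgroup.centralizer (P : Set G)).relIndex (Subgroup.normalizer (P : Set G))
      < Nat.card K) :
    ∃ t : G, t ≠ 1 ∧ t ∈ K ∧ t ∈ Subgroup.centralizer (P : Set G) := by
  by_contra hcon
  push Not at hcon
  set C := Subgroup.centralizer (P : Set G)
  have hbot : C ⊓ K = ⊥ := (Subgroup.eq_bot_iff_forall _).2 fun t ht => by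
    by_contra h
    exact hcon t h ht.2 ht.1
  have h1 : C.relIndex K = Nat.card K := by
    rw [← Subgroup.inf_relIndex_right, hbot, Subgroup.relIndex_bot_left]
  have h2 := Subgroup.relIndex_le_of_le_right hK
    (Subgroup.FiniteIndex.index_ne_zero : (C.subgroupOf (Subgroup.normalizer (P : Set G))).index ≠ 0)
  omega

end CfsgLib.Small

namespace CfsgLib.Small

variable {G : Type*} [Group G] [Finite G]

/-- A subgroup of `N(P)` whose order does not divide `[N(P) : C(P)]` meets `C(P)`. -/
theorem exists_ne_one_mem_centralizer_of_not_dvd {P : Subgroup G} {K : Subgroup G}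
    (hK : K ≤ Subgroup.normalizer (P : Set G))
    (hnd : ¬ Nat.card K ∣
      (Subgroup.centralizer (P : Set G)).relIndex (Subgroup.normalizer (P : Set G))) :
    ∃ t : G, t ≠ 1 ∧ t ∈ K ∧ t ∈ Subgroup.centralizer (P : Set G) := by
  by_contra hcon
  push Not at hcon
  set C := Subgroup.centralizer (P : Set G)
  set N := Subgroup.normalizer (P : Set G)
  have hbot : C.subgroupOf N ⊓ K.subgroupOf N = ⊥ := (Subgroup.eq_bot_iff_forall _).2 fun t ht => by
    by_contra h
    exact hcon t (fun h1 => h (Subtype.ext h1)) ht.2 ht.1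
  haveI hn : (C.subgroupOf N).Normal := by
    refine ⟨fun c hc n => ?_⟩
    rw [Subgroup.mem_subgroupOf, Subgroup.mem_centralizer_iff]
    intro b hb
    have h : (n : G)⁻¹ * b * n * (c : G) = (c : G) * ((n : G)⁻¹ * b * n) :=
      Subgroup.mem_centralizer_iff.1 hc ((n : G)⁻¹ * b * n)
        ((Subgroup.mem_normalizer_iff''.1 n.2 b).1 hb)
    show b * ((n : G) * c * (n : G)⁻¹) = (n : G) * c * (n : G)⁻¹ * b
    calc b * ((n : G) * c * (n : G)⁻¹) = (n : G) * (((n : G)⁻¹ * b * n) * c) * (n : G)⁻¹ := by group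
      _ = (n : G) * ((c : G) * ((n : G)⁻¹ * b * n)) * (n : G)⁻¹ := by rw [h]
      _ = (n : G) * c * (n : G)⁻¹ * b := by group
  have h1 := Subgroup.relIndex_dvd_index_of_normal (C.subgroupOf N) (K.subgroupOf N)
  rw [← Subgroup.inf_relIndex_right, hbot, Subgroup.relIndex_bot_left,
    Nat.card_congr (Subgroup.subgroupOfEquivOfLe hK).toEquiv] at h1
  exact hnd h1

end CfsgLib.Small
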