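import Mathlib.GroupTheory.Sylow
import Mathlib.Tactic
import Cfsg.Agent.Small.Counting
import Cfsg.Agent.Small.FixedPoints
import Cfsg.Agent.Small.SylowInside

/-!
# Tools for excluding a single group order
-/

open scoped Pointwise

namespace CfsgLib.Small

variable {G : Type*} [Group G] [Finite G]

/-- A group order which is no prime rules out an abelian simple group. -/
theorem not_comm_of_card [IsSimpleGroup G] {n : ℕ} (hN : Nat.card G = n) (hn : ¬ n.Prime) :
    ¬ IsMulCommutative G := fun h => hn (hN ▸ card_prime_of_simple_comm h)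

/-- Small indices do not occur. -/
theorem lt_index_of_not_dvd [IsSimpleGroup G] (hG : ¬ IsMulCommutative G) {H : Subgroup G}
    (hH : H ≠ ⊤) {b : ℕ} (hb : ¬ 2 * Nat.card G ∣ b.factorial) : b < H.index := by
  by_contra h
  push Not at h
  exact hb ((two_mul_card_dvd_factorial_index hG H hH).trans (Nat.factorial_dvd_factorial h))

/-- The centraliser of a nontrivial element of a nonabelian simple group is proper. -/
theorem centralizer_singleton_ne_top [IsSimpleGroup G] (hG : ¬ IsMulCommutative G) {t : G}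
    (ht : t ≠ 1) : Subgroup.centralizer ({t} : Set G) ≠ ⊤ := fun h => by
  have := centralizer_singleton_eq_top_iff.1 h
  rw [center_eq_bot_of_simple hG, Subgroup.mem_bot] at this
  exact ht this

/-- The centraliser of a generator. -/
theorem centralizer_singleton_eq_of_prime {p : ℕ} [Fact p.Prime] {P : Subgroup G}
    (hP : Nat.card P = p) {a : G} (ha : a ∈ P) (ha1 : a ≠ 1) :
    Subgroup.centralizer ({a} : Set G) = Subgroup.centralizer (P : Set G) := by
  refine le_antisymm (fun x hx => ?_) (Subgroup.centralizer_le (by simpa using ha))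
  exact mem_centralizer_of_commute_prime hP ha ha1 (Subgroup.mem_centralizer_singleton_iff.1 hx)

/-- `|C(P)| · [N(P) : C(P)] = |N(P)|`. -/
theorem card_centralizer_mul_relIndex (P : Subgroup G) :
    Nat.card (Subgroup.centralizer (P : Set G)) *
      (Subgroup.centralizer (P : Set G)).relIndex (Subgroup.normalizer (P : Set G))
      = Nat.card (Subgroup.normalizer (P : Set G)) := by
  have h := Subgroup.card_mul_index ((Subgroup.centralizer (P : Set G)).subgroupOf
    (Subgroup.normalizer (P : Set G)))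
  rwa [Nat.card_congr (Subgroup.subgroupOfEquivOfLe
    (Subgroup.centralizer_le_normalizer (P : Set G))).toEquiv] at h

/-- In a nonabelian simple group `[N(P) : C(P)]` is a nontrivial common divisor of `p - 1` and
`|N(P)|`, for `|P| = p`. -/
theorem relIndex_centralizer_mem [IsSimpleGroup G] (hG : ¬ IsMulCommutative G) {p n : ℕ}
    [Fact p.Prime] (P : Sylow p G) (hP : Nat.card (P : Subgroup G) = p)
    (hn : Nat.card (Subgroup.normalizer ((P : Subgroup G) : Set G)) = n) :
    (Subgroup.centralizer ((P : Subgroup G) : Set G)).relIndex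
      (Subgroup.normalizer ((P : Subgroup G) : Set G))
      ∈ (Nat.divisors (p - 1)).filter (fun e => e ∣ n ∧ e ≠ 1) := by
  have hp := (Fact.out : p.Prime).two_le
  refine Finset.mem_filter.2 ⟨Nat.mem_divisors.2 ⟨relIndex_centralizer_dvd_pred hP, by omega⟩,
    hn ▸ Dvd.intro_left _ (card_centralizer_mul_relIndex _), fun h => ?_⟩
  exact not_normalizer_le_centralizer hG (hP ▸ Subgroup.card_subgroup_dvd_card _) P
    (Subgroup.relIndex_eq_one.1 h)

/-- If a 2-subgroup `K` of `C(P)` has order not dividing `[N(P) : C(P)]` and `n_p` is even, an involution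
of `K` centralises two Sylow `p`-subgroups. -/
theorem exists_invol_centralizing_two' {p : ℕ} [Fact p.Prime] (P : Sylow p G) {K : Subgroup G}
    (hK : IsPGroup 2 K) (hKC : K ≤ Subgroup.centralizer ((P : Subgroup G) : Set G))
    (hnd : ¬ Nat.card K ∣ (Subgroup.centralizer ((P : Subgroup G) : Set G)).relIndex
      (Subgroup.normalizer ((P : Subgroup G) : Set G)))
    (heven : 2 ∣ Nat.card (Sylow p G)) :
    ∃ t : G, t ∈ K ∧ orderOf t = 2 ∧ ∃ Q : Sylow p G, Q ≠ P ∧
      (Q : Subgroup G) ≤ Subgroup.centralizer ({t} : Set G) := by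
  set N := Subgroup.normalizer ((P : Subgroup G) : Set G)
  set C := Subgroup.centralizer ((P : Subgroup G) : Set G)
  have hCN : C ≤ N := Subgroup.centralizer_le_normalizer _
  obtain ⟨g, hg, hgK⟩ := exists_conj_le_of_dvd_index hK (hKC.trans hCN)
    (P.card_eq_index_normalizer ▸ heven)
  let K' : Subgroup G := K.map (MulAut.conj g⁻¹).toMonoidHom
  have hK'N : K' ≤ N := by
    rintro _ ⟨k, hk, rfl⟩
    simpa using hgK k hk
  have hcard : Nat.card K' = Nat.card K :=
    (Nat.card_congr (K.equivMapOfInjective _ (MulAut.conj g⁻¹).injective).toEquiv).symm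
  obtain ⟨s, hs1, hsK, hsC⟩ := exists_ne_one_mem_centralizer_of_not_dvd hK'N (hcard.symm ▸ hnd)
  obtain ⟨k, hk, rfl⟩ := hsK
  let D : Subgroup G := K ⊓ C.map (MulAut.conj g).toMonoidHom
  have hkD : k ∈ D := ⟨hk, ⟨_, hsC, by simp [mul_assoc]⟩⟩
  have hk1 : k ≠ 1 := fun h => hs1 (by simp [h])
  haveI : Nontrivial ↥D := ⟨⟨⟨k, hkD⟩, 1, fun h => hk1 (congrArg Subtype.val h)⟩⟩
  haveI : Fact (Nat.Prime 2) := ⟨Nat.prime_two⟩
  have hD : IsPGroup 2 ↥D := hK.to_le inf_le_left
  have h2 : 2 ∣ Nat.card ↥D := by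
    obtain ⟨n, hn, he⟩ := hD.nontrivial_iff_card.1 inferInstance
    rw [he]; exact dvd_pow_self 2 hn.ne'
  obtain ⟨t, ht⟩ := exists_prime_orderOf_dvd_card' (G := ↥D) 2 h2
  refine ⟨t, t.2.1, by rw [Subgroup.orderOf_coe]; exact ht, g • P, ?_, ?_⟩
  · exact fun h => hg (Sylow.smul_eq_iff_mem_normalizer.1 h)
  · intro a ha
    obtain ⟨c, hc, hct⟩ := t.2.2
    rw [Sylow.coe_subgroup_smul, Subgroup.mem_pointwise_smul_iff_inv_smul_mem, ← map_inv] at ha
    simp only [MulAut.smul_def, MulAut.conj_apply, inv_inv] at ha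
    rw [Subgroup.mem_centralizer_singleton_iff, ← hct]
    show a * (g * c * g⁻¹) = g * c * g⁻¹ * a
    have h := Subgroup.mem_centralizer_iff.1 hc _ ha
    calc a * (g * c * g⁻¹) = g * ((g⁻¹ * a * g) * c) * g⁻¹ := by group
      _ = g * (c * (g⁻¹ * a * g)) * g⁻¹ := by rw [h]
      _ = g * c * g⁻¹ * a := by group

/-- The special case where `K` is larger than `[N(P) : C(P)]`. -/
theorem exists_invol_centralizing_two {p : ℕ} [Fact p.Prime] (P : Sylow p G) {K : Subgroup G}
    (hK : IsPGroup 2 K) (hKC : K ≤ Subgroup.centralizer ((P : Subgroup G) : Set G))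
    (hlt : (Subgroup.centralizer ((P : Subgroup G) : Set G)).relIndex
      (Subgroup.normalizer ((P : Subgroup G) : Set G)) < Nat.card K)
    (heven : 2 ∣ Nat.card (Sylow p G)) :
    ∃ t : G, t ∈ K ∧ orderOf t = 2 ∧ ∃ Q : Sylow p G, Q ≠ P ∧
      (Q : Subgroup G) ≤ Subgroup.centralizer ({t} : Set G) :=
  exists_invol_centralizing_two' P hK hKC
    (fun h => (Nat.le_of_dvd (Nat.pos_of_ne_zero Subgroup.FiniteIndex.index_ne_zero) h).not_gt hlt)
    heven

/-- Two Sylow subgroups centralised by `t` force a large centraliser. -/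
theorem card_centralizer_of_two_sylows {p : ℕ} [Fact p.Prime] (P : Sylow p G) {t : G}
    {K : Subgroup G} (htK : t ∈ K) (hKC : K ≤ Subgroup.centralizer ((P : Subgroup G) : Set G))
    (hKab : K ≤ Subgroup.centralizer ({t} : Set G))
    (hQ : ∃ Q : Sylow p G, Q ≠ P ∧ (Q : Subgroup G) ≤ Subgroup.centralizer ({t} : Set G)) :
    ∃ n k : ℕ, n % p = 1 ∧ n ≠ 1 ∧ k ∣ Nat.card (Subgroup.normalizer ((P : Subgroup G) : Set G)) ∧
      Nat.card K ∣ k ∧ Nat.card (P : Subgroup G) ∣ k ∧
      Nat.card (Subgroup.centralizer ({t} : Set G)) = n * k := by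
  obtain ⟨n, hn, hc, h1⟩ :=
    exists_card_eq_mul_normalizer P (sylow_le_centralizer_singleton P (hKC htK))
  exact ⟨n, _, hn, h1 hQ, Subgroup.card_dvd_of_le inf_le_left,
    Subgroup.card_dvd_of_le (le_inf (hKC.trans (Subgroup.centralizer_le_normalizer _)) hKab),
    Subgroup.card_dvd_of_le (le_inf Subgroup.le_normalizer (sylow_le_centralizer_singleton P (hKC htK))),
    hc⟩

/-- A group of order `p ^ 2` commutes with each of its elements. -/
theorem le_centralizer_of_card_sq {p : ℕ} [Fact p.Prime] {K : Subgroup G}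
    (hK : Nat.card K = p ^ 2) {t : G} (ht : t ∈ K) :
    K ≤ Subgroup.centralizer ({t} : Set G) := fun x hx => by
  have h := (IsPGroup.isMulCommutative_of_card_eq_prime_sq hK).is_comm.comm
    (⟨x, hx⟩ : ↥K) ⟨t, ht⟩
  exact Subgroup.mem_centralizer_singleton_iff.2 (congrArg Subtype.val h)

/-- A Sylow `2`-subgroup of the centraliser, as a subgroup of `G`. -/
theorem exists_two_subgroup_le {H : Subgroup G} {k : ℕ} (h : 2 ^ k ∣ Nat.card H) :
    ∃ K : Subgroup G, K ≤ H ∧ Nat.card K = 2 ^ k := by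
  haveI : Fact (Nat.Prime 2) := ⟨Nat.prime_two⟩
  obtain ⟨K, hK⟩ := Sylow.exists_subgroup_card_pow_prime (G := ↥H) 2 h
  exact ⟨K.map H.subtype, Subgroup.map_subtype_le K,
    (Nat.card_congr (K.equivMapOfInjective _ H.subtype_injective).toEquiv).symm.trans hK⟩

end CfsgLib.Small
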