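import Mathlib.GroupTheory.SpecificGroups.Cyclic
import Mathlib.GroupTheory.Sylow
import Mathlib.GroupTheory.Nilpotent
import Mathlib.Tactic
import Cfsg.Agent.Small.Dihedral

/-!
# Normal four-groups in 2-groups containing an elementary abelian group of order eight
-/

namespace CfsgLib.Small

variable {G : Type*} [Group G] [Finite G]

/-- A nontrivial normal subgroup of a finite 2-group contains a central involution. -/
theorem exists_central_invol_mem (hG : IsPGroup 2 G) (N : Subgroup G) [N.Normal] (hN : N ≠ ⊥) :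
    ∃ z ∈ N, z ∈ Subgroup.center G ∧ orderOf z = 2 := by
  haveI : Fact (Nat.Prime 2) := ⟨Nat.prime_two⟩
  haveI : Group.IsNilpotent G := hG.isNilpotent
  haveI : Nontrivial N := (Subgroup.nontrivial_iff_ne_bot N).2 hN
  have hne : N ⊓ Subgroup.center G ≠ ⊥ := by
    intro h
    -- action of `G` on `N` by conjugation has one fixed point only
    have hfix := (hG.of_equiv ConjAct.toConjAct).card_modEq_card_fixedPoints (α := N)
    have hsub : MulAction.fixedPoints (ConjAct G) N = {1} := by
      ext ⟨x, hx⟩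
      simp only [MulAction.mem_fixedPoints, Set.mem_singleton_iff]
      constructor
      · intro hall
        have hxc : x ∈ Subgroup.center G := by
          rw [Subgroup.mem_center_iff]
          intro g
          have := congrArg Subtype.val (hall (ConjAct.toConjAct g))
          rw [ConjAct.Subgroup.val_conj_smul, ConjAct.toConjAct_smul] at this
          exact mul_inv_eq_iff_eq_mul.1 this
        exact Subtype.ext ((Subgroup.disjoint_def.1 (disjoint_iff.2 h)) hx hxc)
      · intro hx1 g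
        rw [hx1, smul_one]
    rw [hsub, Nat.card_unique (α := ({1} : Set N))] at hfix
    obtain ⟨n, hn⟩ := IsPGroup.iff_card.1 (hG.to_subgroup N)
    have hn0 : n ≠ 0 := by rintro rfl; exact absurd hn (Finite.one_lt_card (α := N)).ne'
    rw [hn] at hfix
    unfold Nat.ModEq at hfix
    rw [Nat.mod_eq_zero_of_dvd (dvd_pow_self 2 hn0)] at hfix
    norm_num at hfix
  haveI : Nontrivial ↥(N ⊓ Subgroup.center G) := (Subgroup.nontrivial_iff_ne_bot _).2 hne
  obtain ⟨m, hm⟩ := IsPGroup.iff_card.1 (hG.to_subgroup (N ⊓ Subgroup.center G))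
  have hm0 : m ≠ 0 := by
    rintro rfl
    exact absurd hm (Finite.one_lt_card (α := ↥(N ⊓ Subgroup.center G))).ne'
  obtain ⟨z, hz⟩ := exists_prime_orderOf_dvd_card' (G := ↥(N ⊓ Subgroup.center G)) 2
    (hm ▸ dvd_pow_self 2 hm0)
  exact ⟨z, z.2.1, z.2.2, by rw [Subgroup.orderOf_coe]; exact hz⟩

/-- An abelian 2-group with at most one involution is cyclic. -/
theorem isCyclic_of_unique_invol {A : Type*} [Group A] [Finite A] (hA : IsPGroup 2 A)
    (hc : ∀ x y : A, x * y = y * x)
    (h : ∀ x y : A, orderOf x = 2 → orderOf y = 2 → x = y) : IsCyclic A := by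
  classical
  haveI : Fact (Nat.Prime 2) := ⟨Nat.prime_two⟩
  obtain ⟨a, ha⟩ := Finite.exists_max (orderOf (G := A))
  refine ⟨⟨a, fun b => ?_⟩⟩
  haveI hn : (Subgroup.zpowers a).Normal :=
    ⟨fun x hx g => by rw [hc g x, mul_inv_cancel_right]; exact hx⟩
  by_contra hb
  haveI : Nontrivial (A ⧸ Subgroup.zpowers a) :=
    ⟨⟨(b : A ⧸ Subgroup.zpowers a), 1, fun he => hb ((QuotientGroup.eq_one_iff b).1 he)⟩⟩
  obtain ⟨k, hk⟩ := IsPGroup.iff_card.1 (hA.to_quotient (Subgroup.zpowers a))
  have hk0 : k ≠ 0 := by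
    rintro rfl; exact absurd hk (Finite.one_lt_card (α := A ⧸ Subgroup.zpowers a)).ne'
  obtain ⟨q, hq⟩ := exists_prime_orderOf_dvd_card' (G := A ⧸ Subgroup.zpowers a) 2
    (hk ▸ dvd_pow_self 2 hk0)
  obtain ⟨c, rfl⟩ := QuotientGroup.mk_surjective q
  have hcA : c ∉ Subgroup.zpowers a := fun hm => by
    rw [(QuotientGroup.eq_one_iff c).2 hm, orderOf_one] at hq; omega
  have hc2 : c ^ 2 ∈ Subgroup.zpowers a := (QuotientGroup.eq_one_iff _).1 (by
    rw [QuotientGroup.mk_pow, ← hq, pow_orderOf_eq_one])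
  obtain ⟨j, hj : a ^ j = c ^ 2⟩ := hc2
  rcases Int.even_or_odd j with ⟨i, rfl⟩ | hjo
  · -- `c * a ^ (-i)` is an involution outside `⟨a⟩`
    set d := c * (a ^ i)⁻¹ with hd
    have hd2 : d * d = 1 := by
      rw [hd, (show Commute (a ^ i)⁻¹ c from hc _ _).mul_mul_mul_comm, ← sq, ← hj, zpow_add]
      group
    have hdA : d ∉ Subgroup.zpowers a := fun hm => hcA (by
      simpa [hd] using mul_mem hm (Subgroup.zpow_mem_zpowers a i))
    have hdo : orderOf d = 2 :=
      orderOf_eq_two_iff_sq.2 ⟨fun h1 => hdA (h1 ▸ one_mem _), hd2⟩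
    have ha1 : a ≠ 1 := by
      intro h1
      have := ha d
      rw [h1, orderOf_one, hdo] at this
      omega
    obtain ⟨l, hl⟩ := IsPGroup.iff_card.1 (hA.to_subgroup (Subgroup.zpowers a))
    rw [Nat.card_zpowers] at hl
    have hl0 : l ≠ 0 := by
      rintro rfl
      exact ha1 (orderOf_eq_one_iff.1 (by simpa using hl))
    have hw : orderOf (a ^ 2 ^ (l - 1)) = 2 := by
      obtain ⟨m, rfl⟩ := Nat.exists_eq_succ_of_ne_zero hl0
      rw [orderOf_pow' _ (by positivity), hl, Nat.succ_sub_one, pow_succ,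
        Nat.gcd_eq_right (dvd_mul_right _ 2), Nat.mul_div_cancel_left _ (by positivity)]
    exact hdA (h _ d hw hdo ▸ Subgroup.npow_mem_zpowers a _)
  · obtain ⟨l, hl⟩ := IsPGroup.iff_card.1 (hA.to_subgroup (Subgroup.zpowers a))
    rw [Nat.card_zpowers] at hl
    have hzp : Subgroup.zpowers (c ^ 2) = Subgroup.zpowers a := by
      apply le_antisymm
      · rw [← hj, Subgroup.zpowers_le]; exact Subgroup.zpow_mem_zpowers a j
      · rw [Subgroup.zpowers_le, ← hj]
        have hcop : IsCoprime j ((2 : ℤ) ^ l) :=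
          IsCoprime.pow_right (Int.isCoprime_iff_gcd_eq_one.2 (by
            obtain ⟨r, rfl⟩ := hjo; simp [Int.gcd_eq_natAbs]))
        obtain ⟨u, v, huv⟩ := hcop
        refine ⟨u, ?_⟩
        show (a ^ j) ^ u = a
        have h1 : a ^ ((2 : ℤ) ^ l) = 1 := by
          rw [show (2 : ℤ) ^ l = ((orderOf a : ℕ) : ℤ) by rw [hl]; push_cast; rfl,
            zpow_natCast, pow_orderOf_eq_one]
        calc (a ^ j) ^ u = a ^ (u * j) * a ^ (v * 2 ^ l) := by
              rw [← zpow_mul, mul_comm j, mul_comm v, zpow_mul a ((2 : ℤ) ^ l), h1, one_zpow,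
                mul_one]
          _ = a := by rw [← zpow_add, huv, zpow_one]
    have h1 := congrArg (fun S : Subgroup A => Nat.card S) hzp
    simp only [Nat.card_zpowers] at h1
    have h2 : orderOf c ≤ orderOf a := ha c
    rw [← h1, orderOf_pow' c two_ne_zero] at h2
    have hg := (Nat.dvd_prime Nat.prime_two).1 (Nat.gcd_dvd_right (orderOf c) 2)
    rcases hg with hg | hg
    · -- `c` has odd order, so it is trivial
      obtain ⟨i, hi⟩ := IsPGroup.iff_card.1 (hA.to_subgroup (Subgroup.zpowers c))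
      rw [Nat.card_zpowers] at hi
      rcases i with _ | i
      · exact hcA (orderOf_eq_one_iff.1 (by simpa using hi) ▸ one_mem _)
      · rw [hi, pow_succ] at hg
        simp at hg
    · rw [hg] at h2
      have := orderOf_pos c
      omega

/-- A maximal abelian normal subgroup of a 2-group is self-centralising. -/
theorem exists_normal_abelian_selfCentralizing (hG : IsPGroup 2 G) :
    ∃ A : Subgroup G, A.Normal ∧ (∀ x ∈ A, ∀ y ∈ A, x * y = y * x) ∧
      Subgroup.centralizer (A : Set G) ≤ A := by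
  haveI : Fact (Nat.Prime 2) := ⟨Nat.prime_two⟩
  let T : Set (Subgroup G) := {A | A.Normal ∧ ∀ x ∈ A, ∀ y ∈ A, x * y = y * x}
  obtain ⟨A, ⟨hAn, hAc⟩, hmax⟩ := (Set.toFinite T).exists_maximal
    ⟨⊥, inferInstance, fun x hx y hy => by rw [Subgroup.mem_bot.1 hx, Subgroup.mem_bot.1 hy]⟩
  refine ⟨A, hAn, hAc, ?_⟩
  by_contra hle
  haveI := hAn
  haveI : (Subgroup.centralizer (A : Set G)).Normal := inferInstance
  let q := QuotientGroup.mk' A
  have hne : (Subgroup.centralizer (A : Set G)).map q ≠ ⊥ := fun h => hle (by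
    have h' := Subgroup.map_eq_bot_iff _ |>.1 h
    rwa [QuotientGroup.ker_mk'] at h')
  haveI : ((Subgroup.centralizer (A : Set G)).map q).Normal :=
    Subgroup.Normal.map inferInstance q (QuotientGroup.mk'_surjective A)
  obtain ⟨z, hzm, hzc, hzo⟩ := exists_central_invol_mem (hG.to_quotient A) _ hne
  obtain ⟨x, hxC, hxz⟩ := hzm
  have hBn : (A ⊔ Subgroup.zpowers x).Normal := by
    have hcomap : A ⊔ Subgroup.zpowers x = (Subgroup.zpowers z).comap q := by
      rw [← hxz, ← MonoidHom.map_zpowers, Subgroup.comap_map_eq, QuotientGroup.ker_mk', sup_comm]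
    rw [hcomap]
    haveI : (Subgroup.zpowers z).Normal := ⟨fun a ha g => by
      obtain ⟨k, rfl⟩ := ha
      rw [Subgroup.mem_center_iff.1 (zpow_mem hzc k) g, mul_inv_cancel_right]
      exact Subgroup.zpow_mem_zpowers _ k⟩
    infer_instance
  have hBc : ∀ u ∈ A ⊔ Subgroup.zpowers x, ∀ v ∈ A ⊔ Subgroup.zpowers x, u * v = v * u := by
    have h1 : A ⊔ Subgroup.zpowers x ≤ Subgroup.centralizer ((A ⊔ Subgroup.zpowers x : Subgroup G) : Set G) := by
      have hxA : ∀ a ∈ A, a * x = x * a := fun a ha => Subgroup.mem_centralizer_iff.1 hxC a ha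
      rw [sup_le_iff]
      constructor
      · rw [Subgroup.le_centralizer_iff, sup_le_iff, Subgroup.zpowers_le]
        exact ⟨fun a ha => Subgroup.mem_centralizer_iff.2 fun b hb => hAc b hb a ha, hxC⟩
      · rw [Subgroup.le_centralizer_iff, sup_le_iff]
        refine ⟨fun a ha => Subgroup.mem_centralizer_iff.2 fun b hb => ?_,
          fun b hb => Subgroup.mem_centralizer_iff.2 fun c hc => ?_⟩
        · obtain ⟨k, rfl⟩ := hb
          exact ((show Commute a x from hxA a ha).zpow_right k).symm.eq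
        · obtain ⟨k, rfl⟩ := hb
          obtain ⟨l, rfl⟩ := hc
          exact ((Commute.refl x).zpow_zpow l k).eq
    intro u hu v hv
    exact (Subgroup.mem_centralizer_iff.1 (h1 hu) v hv).symm
  have hB : A ⊔ Subgroup.zpowers x ≤ A := hmax ⟨hBn, hBc⟩ le_sup_left
  have hxA : x ∈ A := hB (Subgroup.mem_sup_right (Subgroup.mem_zpowers x))
  rw [← hxz, show q x = 1 from (QuotientGroup.eq_one_iff x).2 hxA, orderOf_one] at hzo
  omega

/-- A 2-group containing an elementary abelian subgroup of order eight has a normal subgroup of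
order four and exponent two. -/
theorem exists_normal_four (hG : IsPGroup 2 G) {E : Subgroup G} (hE : Nat.card E = 8)
    (hE2 : ∀ e ∈ E, e ^ 2 = 1) :
    ∃ U : Subgroup G, U.Normal ∧ Nat.card U = 4 ∧ ∀ u ∈ U, u ^ 2 = 1 := by
  classical
  haveI : Fact (Nat.Prime 2) := ⟨Nat.prime_two⟩
  -- it suffices to find a central involution `z` and an involution `e` with `[G, e] ⊆ ⟨z⟩`
  suffices h : ∃ z e : G, z ∈ Subgroup.center G ∧ orderOf z = 2 ∧ orderOf e = 2 ∧ e ≠ z ∧
      ∀ g : G, g * e * g⁻¹ = e ∨ g * e * g⁻¹ = e * z by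
    obtain ⟨z, e, hzc, hz, he, hne, hconj⟩ := h
    have hzcomm : ∀ g : G, g * z = z * g := Subgroup.mem_center_iff.1 hzc
    have hz2 := mul_self_of_orderOf_two hz
    have he2 := mul_self_of_orderOf_two he
    have hz2' : ∀ x : G, z * (z * x) = x := fun x => by rw [← mul_assoc, hz2, one_mul]
    have he2' : ∀ x : G, e * (e * x) = x := fun x => by rw [← mul_assoc, he2, one_mul]
    have hze : z * e = e * z := (hzcomm e).symm
    have hze' : ∀ x : G, z * (e * x) = e * (z * x) := fun x => by
      rw [← mul_assoc, hze, mul_assoc]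
    have hzi := inv_eq_self_of_orderOf_two hz
    have hei := inv_eq_self_of_orderOf_two he
    let U : Subgroup G :=
      { carrier := {1, z, e, e * z}
        one_mem' := by simp
        mul_mem' := by
          intro a b ha hb
          simp only [Set.mem_insert_iff, Set.mem_singleton_iff] at ha hb ⊢
          rcases ha with ha | ha | ha | ha <;> rcases hb with hb | hb | hb | hb <;>
            simp [ha, hb, mul_assoc, hz2, he2, hz2', he2', hze, hze']
        inv_mem' := by
          intro a ha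
          simp only [Set.mem_insert_iff, Set.mem_singleton_iff] at ha ⊢
          rcases ha with ha | ha | ha | ha <;>
            simp [ha, hzi, hei, hze] }
    have hmem : ∀ a : G, a ∈ U ↔ a = 1 ∨ a = z ∨ a = e ∨ a = e * z := fun a => by
      show a ∈ ({1, z, e, e * z} : Set G) ↔ _
      simp
    refine ⟨U, ⟨fun a ha g => ?_⟩, ?_, fun u hu => ?_⟩
    · rcases (hmem a).1 ha with rfl | rfl | rfl | rfl
      · simp
      · rw [hzcomm g, mul_inv_cancel_right]; exact (hmem _).2 (Or.inr (Or.inl rfl))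
      · rcases hconj g with h' | h' <;> rw [h'] <;> exact (hmem _).2 (by simp)
      · rw [← conj_mul, hzcomm g, mul_inv_cancel_right]
        refine mul_mem ?_ ((hmem _).2 (Or.inr (Or.inl rfl)))
        rcases hconj g with h' | h' <;> rw [h'] <;> exact (hmem _).2 (by simp)
    · show Nat.card ({1, z, e, e * z} : Set G) = 4
      have hz1 := ne_one_of_orderOf_two hz
      have he1 := ne_one_of_orderOf_two he
      have hez : e * z ≠ 1 := fun h => hne (by
        rw [eq_inv_of_mul_eq_one_left h, inv_eq_self_of_orderOf_two hz])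
      have hez2 : e * z ≠ z := fun h => he1 (mul_eq_right.1 h)
      have hez3 : e * z ≠ e := fun h => hz1 (mul_eq_left.1 h)
      rw [Nat.card_coe_set_eq, Set.ncard_insert_of_notMem, Set.ncard_insert_of_notMem,
        Set.ncard_pair hez3.symm] <;> simp [hz1.symm, he1.symm, hez.symm, hne.symm, hez2.symm]
    · rw [sq]
      rcases (hmem u).1 hu with rfl | rfl | rfl | rfl
      · simp
      · exact hz2
      · exact he2
      · rw [(show Commute z e from (hzcomm e).symm).mul_mul_mul_comm, he2, hz2, one_mul]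
  obtain ⟨A, hAn, hAc, hAself⟩ := exists_normal_abelian_selfCentralizing hG
  haveI := hAn
  have hAne : A ≠ ⊥ := by
    rintro rfl
    have h : ∀ g : G, g = 1 := fun g => Subgroup.mem_bot.1
      (hAself (Subgroup.mem_centralizer_iff.2 fun b hb => by
        rw [Subgroup.mem_bot.1 hb, one_mul, mul_one]))
    have : Subsingleton E := ⟨fun a b => Subtype.ext ((h a).trans (h b).symm)⟩
    have := Nat.card_unique (α := E)
    omega
  obtain ⟨z, hzA, hzc, hz⟩ := exists_central_invol_mem hG A hAne
  by_cases huniq : ∀ x ∈ A, orderOf x = 2 → x = z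
  swap
  · -- the involutions of `A` form a normal subgroup mapping onto a nontrivial quotient by `⟨z⟩`
    push Not at huniq
    obtain ⟨x, hxA, hx, hxz⟩ := huniq
    let Ω : Subgroup G :=
      { carrier := {a | a ∈ A ∧ a * a = 1}
        one_mem' := ⟨one_mem A, one_mul 1⟩
        mul_mem' := fun {a b} ha hb => ⟨mul_mem ha.1 hb.1, by
          rw [(show Commute b a from hAc _ hb.1 _ ha.1).mul_mul_mul_comm, ha.2, hb.2, one_mul]⟩
        inv_mem' := fun {a} ha => ⟨inv_mem ha.1, by rw [← mul_inv_rev, ha.2, inv_one]⟩ }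
    haveI : Ω.Normal := ⟨fun a ha g => ⟨hAn.conj_mem a ha.1 g, by
      rw [show g * a * g⁻¹ * (g * a * g⁻¹) = g * (a * a) * g⁻¹ by group, ha.2]; group⟩⟩
    haveI : (Subgroup.zpowers z).Normal := ⟨fun a ha g => by
      obtain ⟨k, rfl⟩ := ha
      rw [Subgroup.mem_center_iff.1 (zpow_mem hzc k) g, mul_inv_cancel_right]
      exact Subgroup.zpow_mem_zpowers _ k⟩
    let q := QuotientGroup.mk' (Subgroup.zpowers z)
    have hq : ∀ y : G, q y = 1 ↔ y = 1 ∨ y = z := by
      intro y
      rw [QuotientGroup.mk'_apply, QuotientGroup.eq_one_iff]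
      constructor
      · rintro ⟨k, rfl⟩
        rcases Int.even_or_odd k with ⟨m, rfl⟩ | ⟨m, rfl⟩
        · left; show z ^ (m + m) = 1; rw [← two_mul, zpow_mul, zpow_two, mul_self_of_orderOf_two hz, one_zpow]
        · right; show z ^ (2 * m + 1) = z
          rw [zpow_add, zpow_mul, zpow_two, mul_self_of_orderOf_two hz, one_zpow, one_mul, zpow_one]
      · rintro (rfl | rfl)
        · exact one_mem _
        · exact Subgroup.mem_zpowers _
    haveI : (Ω.map q).Normal := Subgroup.Normal.map inferInstance q (QuotientGroup.mk'_surjective _)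
    obtain ⟨y, ⟨e, ⟨heA, he2⟩, rfl⟩, hyc, hy⟩ := exists_central_invol_mem
      (hG.to_quotient (Subgroup.zpowers z)) (Ω.map q) (by
        intro h
        have : q x ∈ Ω.map q := ⟨x, ⟨hxA, mul_self_of_orderOf_two hx⟩, rfl⟩
        rw [h, Subgroup.mem_bot, hq] at this
        rcases this with h1 | h1
        · exact ne_one_of_orderOf_two hx h1
        · exact hxz h1)
    have hne : e ≠ 1 ∧ e ≠ z := ⟨fun h => ne_one_of_orderOf_two hy ((hq e).2 (Or.inl h)),
      fun h => ne_one_of_orderOf_two hy ((hq e).2 (Or.inr h))⟩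
    refine ⟨z, e, hzc, hz, orderOf_eq_two_iff_sq.2 ⟨hne.1, he2⟩, hne.2, fun g => ?_⟩
    have h1 : q (e⁻¹ * (g * e * g⁻¹)) = 1 := by
      rw [map_mul, map_mul, map_mul, map_inv, map_inv, Subgroup.mem_center_iff.1 hyc (q g)]
      group
    rcases (hq _).1 h1 with h1 | h1
    · exact Or.inl (inv_mul_eq_one.1 h1).symm
    · exact Or.inr (inv_mul_eq_iff_eq_mul.1 h1)
  · -- `A` is cyclic
    obtain ⟨n, hn⟩ := IsPGroup.iff_card.1 (hG.to_subgroup A)
    obtain ⟨⟨a, haA⟩, hgen⟩ := (isCyclic_of_unique_invol (hG.to_subgroup A)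
      (fun u v => Subtype.ext (hAc u u.2 v v.2))
      (fun u v hu hv => Subtype.ext ((huniq u u.2 (by rwa [Subgroup.orderOf_coe])).trans
        (huniq v v.2 (by rwa [Subgroup.orderOf_coe])).symm))).exists_generator
    have hgen' : ∀ b ∈ A, ∃ k : ℤ, a ^ k = b := by
      intro b hb
      obtain ⟨k, hk⟩ := hgen ⟨b, hb⟩
      exact ⟨k, by simpa using congrArg Subtype.val hk⟩
    have ha : orderOf a = 2 ^ n := by
      rw [← Subgroup.orderOf_mk a haA, orderOf_eq_card_of_forall_mem_zpowers hgen, hn]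
    obtain ⟨m, rfl⟩ : ∃ m, n = m + 1 := ⟨n - 1, by
      rcases n with _ | n
      · have h1 := Subgroup.orderOf_dvd_natCard A hzA
        rw [hn, hz] at h1; norm_num at h1
      · rfl⟩
    have hz_eq : a ^ ((2 : ℤ) ^ m) = z := by
      refine huniq _ (zpow_mem haA _) ?_
      rw [show ((2 : ℤ) ^ m) = ((2 ^ m : ℕ) : ℤ) by push_cast; rfl, zpow_natCast,
        orderOf_pow' _ (by positivity), ha, pow_succ, Nat.gcd_eq_right (dvd_mul_right _ 2),
        Nat.mul_div_cancel_left _ (by positivity)]
    have hmem1 : ∀ b ∈ A, b * b = 1 → b = 1 ∨ b = z := by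
      intro b hb h
      by_cases h1 : b = 1
      · exact Or.inl h1
      · exact Or.inr (huniq b hb (orderOf_eq_two_iff_sq.2 ⟨h1, h⟩))
    have hperiod : ∀ i j : ℤ, a ^ i = a ^ j ↔ (2 : ℤ) ^ (m + 1) ∣ j - i := by
      intro i j
      rw [zpow_eq_zpow_iff_modEq, Int.modEq_iff_dvd, ha]; push_cast; rfl
    have hzA2 : ∀ i : ℤ, (2 : ℤ) ^ m ∣ i → a ^ i = 1 ∨ a ^ i = z := by
      rintro i ⟨r, rfl⟩
      refine hmem1 _ (zpow_mem haA _) ?_
      rw [← zpow_add, ← zpow_zero a, hperiod]
      exact ⟨-r, by rw [pow_succ]; ring⟩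
    -- the four possible images of `a` under an involution
    have hval : ∀ e ∈ E, e * a * e⁻¹ ∈ ({a, a * z, a⁻¹, a⁻¹ * z} : Finset G) := by
      intro e heE
      obtain ⟨i, hi⟩ := hgen' _ (hAn.conj_mem a haA e)
      have hee : e * e = 1 := by rw [← sq]; exact hE2 e heE
      have hii : a ^ (i * i) = a ^ (1 : ℤ) := by
        rw [zpow_one, zpow_mul, hi, conj_zpow, hi, inv_eq_of_mul_eq_one_right hee]
        calc e * (e * a * e) * e = (e * e) * a * (e * e) := by group
          _ = a := by rw [hee]; group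
      obtain ⟨c, hc⟩ := (hperiod _ _).1 hii
      simp only [Finset.mem_insert, Finset.mem_singleton, ← hi]
      have hodd : Odd i := by
        by_contra h
        obtain ⟨r, rfl⟩ := Int.not_odd_iff_even.1 h
        have h1 : (2 : ℤ) ∣ 1 - (r + r) * (r + r) := hc ▸ ⟨2 ^ m * c, by rw [pow_succ]; ring⟩
        have h2 : (r + r) * (r + r) = 2 * (2 * r * r) := by ring
        omega
      obtain ⟨r, rfl⟩ := hodd
      have key : (2 : ℤ) ^ m ∣ 2 * r * (r + 1) := ⟨-c, by
        rw [pow_succ] at hc; nlinarith [hc]⟩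
      have hcase : (2 : ℤ) ^ m ∣ 2 * r ∨ (2 : ℤ) ^ m ∣ 2 * (r + 1) := by
        have hcop : ∀ s : ℤ, Odd s → IsCoprime ((2 : ℤ) ^ m) s := by
          rintro s ⟨t, rfl⟩
          exact IsCoprime.pow_left ⟨-t, 1, by ring⟩
        rcases Int.even_or_odd r with h | h
        · left; exact (hcop (r + 1) h.add_one).dvd_of_dvd_mul_right key
        · right
          refine (hcop r h).dvd_of_dvd_mul_right ?_
          rwa [show 2 * (r + 1) * r = 2 * r * (r + 1) by ring]
      rcases hcase with h | h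
      · rw [show (2 * r + 1) = 1 + 2 * r by ring, zpow_add, zpow_one]
        rcases hzA2 _ h with h' | h' <;> rw [h'] <;> simp
      · rw [show (2 * r + 1) = -1 + 2 * (r + 1) by ring, zpow_add, zpow_neg_one]
        rcases hzA2 _ h with h' | h' <;> rw [h'] <;> simp
    -- fibres have at most two elements
    have hfib : ∀ e ∈ E, ∀ e' ∈ E, e * a * e⁻¹ = e' * a * e'⁻¹ → e' = e ∨ e' = e * z := by
      intro e heE e' he'E h
      have hcA : e⁻¹ * e' ∈ A := by
        refine hAself (Subgroup.mem_centralizer_iff.2 fun b hb => ?_)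
        obtain ⟨k, rfl⟩ := hgen' b hb
        have hc : Commute (e⁻¹ * e') a := by
          show e⁻¹ * e' * a = a * (e⁻¹ * e')
          calc e⁻¹ * e' * a = e⁻¹ * (e' * a * e'⁻¹) * e' := by group
            _ = a * (e⁻¹ * e') := by rw [← h]; group
        exact ((hc.zpow_right k).eq).symm
      have h2 := hE2 _ (mul_mem (inv_mem heE) he'E)
      rcases hmem1 _ hcA (by rwa [← sq]) with h1 | h1
      · exact Or.inl (inv_mul_eq_one.1 h1).symm
      · exact Or.inr (inv_mul_eq_iff_eq_mul.1 h1)
    haveI := Fintype.ofFinite G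
    set Ef : Finset G := Finset.univ.filter fun e => e ∈ E with hEf
    have hEf8 : Ef.card = 8 := by
      rw [← hE, Nat.card_eq_fintype_card, Fintype.card_subtype]
    set V : Finset G := Ef.image fun e => e * a * e⁻¹ with hV
    have hV4 : 4 ≤ V.card := by
      have h := Finset.card_le_mul_card_image (f := fun e => e * a * e⁻¹) Ef 2 (fun b hb => by
        obtain ⟨e, he, rfl⟩ := Finset.mem_image.1 hb
        refine le_trans (Finset.card_le_card (t := {e, e * z}) fun e' he' => ?_) Finset.card_le_two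
        rw [Finset.mem_filter] at he'
        simp only [Finset.mem_insert, Finset.mem_singleton]
        exact hfib e (Finset.mem_filter.1 he).2 e' (Finset.mem_filter.1 he'.1).2 he'.2.symm)
      rw [hEf8, ← hV] at h
      omega
    have hsub : V ⊆ ({a, a * z, a⁻¹, a⁻¹ * z} : Finset G) := fun b hb => by
      obtain ⟨e, he, rfl⟩ := Finset.mem_image.1 hb
      exact hval e (Finset.mem_filter.1 he).2
    have h4 : ({a, a * z, a⁻¹, a⁻¹ * z} : Finset G).card = 4 :=
      le_antisymm Finset.card_le_four (hV4.trans (Finset.card_le_card hsub))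
    have hVeq := Finset.eq_of_subset_of_card_le hsub (by omega)
    have hazV : a * z ∈ V := by rw [hVeq]; simp
    obtain ⟨e, heE, hea⟩ := Finset.mem_image.1 hazV
    have heE : e ∈ E := (Finset.mem_filter.1 heE).2
    -- `m ≥ 2`
    have hne' : a * z ≠ a⁻¹ := by
      intro h
      rw [h] at h4
      have : ({a, a⁻¹, a⁻¹, a⁻¹ * z} : Finset G).card ≤ 3 :=
        le_trans (Finset.card_le_card (t := {a, a⁻¹, a⁻¹ * z}) (by simp [Finset.subset_iff]))
          Finset.card_le_three
      omega
    have hm2 : 2 ≤ m := by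
      by_contra hlt
      rcases m with _ | _ | m
      · -- `a = z` is then central, contradicting `e a e⁻¹ = a z`
        have haz : a = z := by simpa using hz_eq
        rw [haz, Subgroup.mem_center_iff.1 hzc e, mul_inv_cancel_right] at hea
        exact ne_one_of_orderOf_two hz (mul_eq_left.1 hea.symm)
      · apply hne'
        rw [← hz_eq, ← zpow_one_add, ← zpow_neg_one, hperiod]
        norm_num
      · omega
    have he1 : e ≠ 1 := by
      rintro rfl
      have := ne_one_of_orderOf_two hz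
      simp at hea; exact this hea
    have heo : orderOf e = 2 := orderOf_eq_two_iff_sq.2 ⟨he1, by rw [← sq]; exact hE2 e heE⟩
    have hzcomm := Subgroup.mem_center_iff.1 hzc
    have hezne : e ≠ z := by
      rintro rfl
      rw [← hzcomm a, mul_inv_cancel_right] at hea
      exact ne_one_of_orderOf_two hz (mul_eq_left.1 hea.symm)
    refine ⟨z, e, hzc, hz, heo, hezne, fun g => ?_⟩
    -- `c = g e g⁻¹ e⁻¹` lies in `A`
    obtain ⟨w, hw⟩ := hgen' _ (hAn.conj_mem a haA g⁻¹)
    rw [inv_inv] at hw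
    have hge : (g * e * g⁻¹) * a * (g * e * g⁻¹)⁻¹ = e * a * e⁻¹ := by
      have hgw : g * a ^ w * g⁻¹ = a := by rw [hw]; group
      calc (g * e * g⁻¹) * a * (g * e * g⁻¹)⁻¹ = g * (e * (g⁻¹ * a * g) * e⁻¹) * g⁻¹ := by group
        _ = g * ((a * z) ^ w) * g⁻¹ := by rw [← hw, ← conj_zpow, hea]
        _ = a * z ^ w := by
          rw [(show Commute a z from hzcomm a).mul_zpow, ← mul_assoc, mul_assoc (g * a ^ w),
            ← Subgroup.mem_center_iff.1 (zpow_mem hzc w) g⁻¹, ← mul_assoc, hgw]
        _ = e * a * e⁻¹ := by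
          rw [hea]
          congr 1
          have hwodd : Odd w := by
            by_contra h
            obtain ⟨r, rfl⟩ := Int.not_odd_iff_even.1 h
            -- then `g⁻¹ a g` would be a square in `A`
            have h1 : (a ^ (r + r)) ^ ((2 : ℤ) ^ m) = 1 := by
              rw [← zpow_mul, ← zpow_zero a, hperiod]
              exact ⟨-r, by rw [pow_succ]; ring⟩
            rw [hw, show g⁻¹ * a * g = g⁻¹ * a * (g⁻¹)⁻¹ by rw [inv_inv], conj_zpow, hz_eq,
              hzcomm g⁻¹, mul_inv_cancel_right] at h1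
            exact ne_one_of_orderOf_two hz h1
          obtain ⟨r, rfl⟩ := hwodd
          rw [zpow_add, zpow_mul, zpow_two, mul_self_of_orderOf_two hz, one_zpow, one_mul, zpow_one]
    have hcA : e⁻¹ * (g * e * g⁻¹) ∈ A := by
      refine hAself (Subgroup.mem_centralizer_iff.2 fun b hb => ?_)
      obtain ⟨k, rfl⟩ := hgen' b hb
      have hc : Commute (e⁻¹ * (g * e * g⁻¹)) a := by
        show e⁻¹ * (g * e * g⁻¹) * a = a * (e⁻¹ * (g * e * g⁻¹))
        calc e⁻¹ * (g * e * g⁻¹) * a
            = e⁻¹ * ((g * e * g⁻¹) * a * (g * e * g⁻¹)⁻¹) * (g * e * g⁻¹) := by group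
          _ = a * (e⁻¹ * (g * e * g⁻¹)) := by rw [hge]; group
      exact ((hc.zpow_right k).eq).symm
    obtain ⟨i, hi⟩ := hgen' _ hcA
    -- `e * a ^ i` is an involution
    have hconj2 : (e * a ^ i) * (e * a ^ i) = 1 := by
      rw [hi, mul_inv_cancel_left]
      calc g * e * g⁻¹ * (g * e * g⁻¹) = g * (e * e) * g⁻¹ := by group
        _ = 1 := by rw [mul_self_of_orderOf_two heo]; group
    have hsq : (a * z) ^ i * a ^ i = 1 := by
      rw [← hea, conj_zpow, inv_eq_self_of_orderOf_two heo]
      rw [← mul_assoc] at hconj2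
      exact hconj2
    have hdvd : (2 : ℤ) ^ m ∣ i := by
      rw [(show Commute a z from hzcomm a).mul_zpow, ← hz_eq, ← zpow_mul, ← zpow_add, ← zpow_add,
        ← zpow_zero a, hperiod] at hsq
      obtain ⟨q, hq⟩ := hsq
      obtain ⟨p, rfl⟩ : ∃ p, m = p + 1 := ⟨m - 1, by omega⟩
      obtain ⟨p', rfl⟩ : ∃ p', p = p' + 1 := ⟨p - 1, by omega⟩
      have h1 : (2 : ℤ) ^ (p' + 1 + 1) ∣ i * (1 + 2 ^ (p' + 1)) := ⟨-q, by
        simp only [pow_succ] at hq ⊢; linarith [hq]⟩
      have hcop : IsCoprime (2 : ℤ) (1 + 2 ^ (p' + 1)) := ⟨-(2 ^ p'), 1, by rw [pow_succ]; ring⟩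
      exact hcop.pow_left.dvd_of_dvd_mul_right h1
    rcases hzA2 i hdvd with h | h
    · left; rw [h] at hi; exact (inv_mul_eq_one.1 hi.symm).symm
    · right; rw [h] at hi; exact inv_mul_eq_iff_eq_mul.1 hi.symm

end CfsgLib.Small
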