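import Cfsg.Prelude.Def_Involutions
import Mathlib.GroupTheory.Sylow
import Mathlib.GroupTheory.Perm.Cycle.Type
import Mathlib.Tactic
import Cfsg.Agent.Small.Dihedral

/-!
# Strongly embedded subgroups
-/

namespace CfsgLib.Small

variable {G : Type*} [Group G] [Finite G]

/-- An element of order two exists in any subgroup of even order. -/
theorem exists_invol_mem {K : Subgroup G} (h : Even (Nat.card K)) :
    ∃ t ∈ K, orderOf t = 2 := by
  haveI : Fact (Nat.Prime 2) := ⟨Nat.prime_two⟩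
  obtain ⟨t, ht⟩ := exists_prime_orderOf_dvd_card' (G := K) 2 (even_iff_two_dvd.1 h)
  exact ⟨t, t.2, by rw [Subgroup.orderOf_coe]; exact ht⟩

/-- Pointwise form of strong embedding. -/
theorem isStronglyEmbedded_iff {H : Subgroup G} (hH : H ≠ ⊤) (heven : Even (Nat.card H)) :
    Cfsg.IsStronglyEmbedded H ↔
      ∀ t ∈ H, orderOf t = 2 → ∀ g : G, g⁻¹ * t * g ∈ H → g ∈ H := by
  constructor
  · intro h t ht ho g hg
    by_contra hgH
    have hmem : t ∈ H ⊓ H.map (MulAut.conj g).toMonoidHom :=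
      ⟨ht, ⟨g⁻¹ * t * g, hg, by simp [mul_assoc]⟩⟩
    exact absurd ((h.2.2 g hgH).of_dvd_nat (ho ▸ Subgroup.orderOf_dvd_natCard _ hmem)) (by decide)
  · intro h
    refine ⟨hH, heven, fun g hg => ?_⟩
    by_contra hodd
    obtain ⟨t, ⟨ht, y, hy, hyt⟩, ho⟩ := exists_invol_mem (Nat.not_odd_iff_even.1 hodd)
    refine hg (h t ht ho g ?_)
    rw [show g⁻¹ * t * g = y by rw [← hyt]; simp [mul_assoc]]
    exact hy

/-- The characterisation by centralisers and fusion. -/
theorem isStronglyEmbedded_iff_centralizer {H : Subgroup G} (hH : H ≠ ⊤)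
    (heven : Even (Nat.card H)) :
    Cfsg.IsStronglyEmbedded H ↔
      ((∀ t ∈ H, orderOf t = 2 → Subgroup.centralizer ({t} : Set G) ≤ H) ∧
      (∀ t ∈ H, ∀ s ∈ H, orderOf t = 2 → orderOf s = 2 → IsConj t s →
        ∃ h ∈ H, h * t * h⁻¹ = s)) := by
  rw [isStronglyEmbedded_iff hH heven]
  constructor
  · refine fun h => ⟨fun t ht ho g hg => h t ht ho g ?_, fun t ht s hs hot hos hconj => ?_⟩
    · rw [Subgroup.mem_centralizer_singleton_iff] at hg
      rw [mul_assoc, ← hg, inv_mul_cancel_left]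
      exact ht
    · obtain ⟨g, hg⟩ := isConj_iff.1 hconj
      exact ⟨g, h s hs hos g (by rw [← hg]; simpa [mul_assoc] using ht), hg⟩
  · rintro ⟨hC, hF⟩ t ht ho g hg
    have ho' : orderOf (g⁻¹ * t * g) = 2 := by
      have := orderOf_conj_eq g⁻¹ t
      rw [inv_inv, ho] at this
      exact this
    obtain ⟨h, hh, he⟩ := hF _ hg t ht ho' ho (isConj_iff.2 ⟨g, by simp [mul_assoc]⟩)
    have hc : g * h⁻¹ ∈ Subgroup.centralizer ({t} : Set G) := by
      rw [Subgroup.mem_centralizer_singleton_iff]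
      have : h * (g⁻¹ * t * g) = t * h := mul_inv_eq_iff_eq_mul.1 he
      calc g * h⁻¹ * t = g * h⁻¹ * (t * h) * h⁻¹ := by group
        _ = g * h⁻¹ * (h * (g⁻¹ * t * g)) * h⁻¹ := by rw [this]
        _ = t * (g * h⁻¹) := by group
    simpa using mul_mem (hC t ht ho hc) hh

end CfsgLib.Small
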