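import Mathlib.GroupTheory.Sylow
import Mathlib.GroupTheory.Nilpotent
import Mathlib.Tactic
import Cfsg.Agent.Small.Dihedral

/-!
# The Baer–Suzuki theorem
-/

open scoped Pointwise

namespace CfsgLib.Small

variable {G : Type*} [Group G] [Finite G] {p : ℕ}

/-- A proper subgroup of a finite `p`-subgroup is properly contained in its normaliser there. -/
theorem lt_inf_normalizer_of_pGroup [Fact p.Prime] {R P : Subgroup G} (hP : IsPGroup p P)
    (hlt : R < P) : R < P ⊓ Subgroup.normalizer (R : Set G) := by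
  haveI : Group.IsNilpotent P := hP.isNilpotent
  have hlt' : R.subgroupOf P < ⊤ := by
    rw [lt_top_iff_ne_top]
    intro h
    exact absurd (Subgroup.subgroupOf_eq_top.1 h) (not_le_of_gt hlt)
  obtain ⟨x, hx, hxR⟩ :=
    SetLike.exists_of_lt (Group.normalizerCondition_of_isNilpotent (R.subgroupOf P) hlt')
  refine lt_of_le_of_ne (le_inf hlt.le Subgroup.le_normalizer) ?_
  intro heq
  apply hxR
  rw [Subgroup.mem_subgroupOf, heq]
  refine ⟨x.2, Subgroup.mem_normalizer_iff.2 fun z => ?_⟩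
  rw [Subgroup.mem_normalizer_iff] at hx
  constructor
  · intro hz
    have := (hx ⟨z, hlt.le hz⟩).1 (Subgroup.mem_subgroupOf.2 hz)
    simpa [Subgroup.mem_subgroupOf] using this
  · intro hz
    have hzP : z ∈ P := by
      have := mul_mem (mul_mem (inv_mem x.2) (hlt.le hz)) x.2
      simpa [mul_assoc] using this
    exact Subgroup.mem_subgroupOf.1
      ((hx ⟨z, hzP⟩).2 (by simpa [Subgroup.mem_subgroupOf] using hz))

/-- **Baer–Suzuki**, for a conjugation-invariant family of subgroups, any two of which generate a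
`p`-group: all of them lie in one normal `p`-subgroup. -/
theorem baerSuzuki_family [Fact p.Prime] (C : Set (Subgroup G))
    (hconj : ∀ g : G, ∀ X ∈ C, MulAut.conj g • X ∈ C)
    (hpair : ∀ X ∈ C, ∀ Y ∈ C, IsPGroup p ↥(X ⊔ Y)) :
    ∃ N : Subgroup G, N.Normal ∧ IsPGroup p N ∧ ∀ X ∈ C, X ≤ N := by
  classical
  -- the members of `C` inside a subgroup
  let c : Subgroup G → Set (Subgroup G) := fun P => {X | X ∈ C ∧ X ≤ P}
  have hsingle : ∀ X ∈ C, IsPGroup p X := fun X hX => by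
    exact (hpair X hX X hX).to_le le_sup_left
  by_cases hall : ∀ P R : Sylow p G, c P = c R
  · let P : Sylow p G := Classical.arbitrary _
    have hle : ∀ X ∈ C, X ≤ (P : Subgroup G) := by
      intro X hX
      obtain ⟨Q, hQ⟩ := (hsingle X hX).exists_le_sylow
      have : X ∈ c P := hall Q P ▸ (⟨hX, hQ⟩ : X ∈ c Q)
      exact this.2
    refine ⟨⨆ X ∈ C, X, ?_, P.isPGroup'.to_le (iSup₂_le hle), fun X hX => le_biSup (fun X => X) hX⟩
    constructor
    intro n hn g
    have hmap : (⨆ X ∈ C, X).map (MulAut.conj g).toMonoidHom ≤ ⨆ X ∈ C, X := by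
      simp only [Subgroup.map_iSup]
      exact iSup₂_le fun X hX => le_biSup (fun X => X) (hconj g X hX)
    exact hmap ⟨n, hn, rfl⟩
  exfalso
  push Not at hall
  -- a pair of Sylow subgroups with different traces on `C` and the largest possible common trace
  let S : Set (Sylow p G × Sylow p G) := {q | c q.1 ≠ c q.2}
  have hS : S.Nonempty := by
    obtain ⟨P, R, h⟩ := hall
    exact ⟨(P, R), h⟩
  obtain ⟨⟨P, R⟩, hne, hmax⟩ :=
    Set.exists_max_image S (fun q => (c q.1 ∩ c q.2).ncard) (Set.toFinite S) hS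
  let I : Set (Subgroup G) := c P ∩ c R
  have hcard : ∀ A B : Sylow p G, (c A).ncard = (c B).ncard := by
    intro A B
    obtain ⟨g, rfl⟩ := MulAction.exists_smul_eq G A B
    have himg : c (g • A : Sylow p G) = (fun X => MulAut.conj g • X) '' c A := by
      ext X
      constructor
      · rintro ⟨hX, hXA⟩
        refine ⟨(MulAut.conj g)⁻¹ • X, ⟨?_, ?_⟩, smul_inv_smul _ _⟩
        · rw [← map_inv]; exact hconj _ X hX
        · rw [Sylow.coe_subgroup_smul, Subgroup.subset_pointwise_smul_iff] at hXA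
          exact hXA
      · rintro ⟨Y, ⟨hY, hYA⟩, rfl⟩
        refine ⟨hconj g Y hY, ?_⟩
        rw [Sylow.coe_subgroup_smul]
        exact Subgroup.pointwise_smul_le_pointwise_smul_iff.2 hYA
    rw [himg, Set.ncard_image_of_injective _ (MulAction.injective (MulAut.conj g))]
  -- each of `P`, `R` has a new member normalising the common trace
  have key : ∀ A : Sylow p G, c A ≠ I → I ⊆ c A →
      ∃ X ∈ c A, X ∉ I ∧ ∀ x ∈ X, ∀ Y ∈ I, MulAut.conj x • Y ∈ I := by
    intro A hA hIA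
    have hQA : sSup I ≤ (A : Subgroup G) := sSup_le fun Y hY => (hIA hY).2
    have hIQ : c (sSup I) = I := by
      refine Set.Subset.antisymm ?_ fun Y hY => ⟨hY.1.1, le_sSup hY⟩
      rintro Y ⟨hY, hYQ⟩
      exact ⟨⟨hY, hYQ.trans (sSup_le fun Z hZ => hZ.1.2)⟩,
        ⟨hY, hYQ.trans (sSup_le fun Z hZ => hZ.2.2)⟩⟩
    let T : Set (Subgroup G) := {K | sSup I ≤ K ∧ K ≤ (A : Subgroup G) ∧ c K = I}
    obtain ⟨K, ⟨hQK, hKA, hcK⟩, hKmax⟩ :=
      (Set.toFinite T).exists_maximal ⟨sSup I, le_rfl, hQA, hIQ⟩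
    have hlt : K < (A : Subgroup G) := lt_of_le_of_ne hKA fun h => hA (h ▸ hcK)
    have hN := lt_inf_normalizer_of_pGroup A.isPGroup' hlt
    have hnew : ∃ X ∈ c ((A : Subgroup G) ⊓ Subgroup.normalizer (K : Set G)), X ∉ I := by
      by_contra hcon
      push Not at hcon
      have hmem : (A : Subgroup G) ⊓ Subgroup.normalizer (K : Set G) ∈ T :=
        ⟨hQK.trans hN.le, inf_le_left, Set.Subset.antisymm hcon fun Y hY =>
          ⟨hY.1.1, ((le_sSup hY).trans hQK).trans hN.le⟩⟩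
      exact absurd (hKmax hmem hN.le) (not_le_of_gt hN)
    obtain ⟨X, ⟨hXC, hXle⟩, hXI⟩ := hnew
    refine ⟨X, ⟨hXC, hXle.trans inf_le_left⟩, hXI, fun x hx Y hY => ?_⟩
    rw [← hcK]
    refine ⟨hconj x Y hY.1.1, ?_⟩
    rintro _ ⟨z, hz, rfl⟩
    exact (Subgroup.mem_normalizer_iff.1 (hXle hx).2 z).1
      (hQK (le_sSup (α := Subgroup G) hY hz))
  have hneP : c P ≠ I := fun h => hne (Set.eq_of_subset_of_ncard_le
    (fun X hX => (h ▸ hX : X ∈ I).2) (hcard R P).le (Set.toFinite _))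
  have hneR : c R ≠ I := fun h => hne (Set.eq_of_subset_of_ncard_le
    (fun X hX => (h ▸ hX : X ∈ I).1) (hcard P R).le (Set.toFinite _)).symm
  obtain ⟨X, hXP, hXI, hXn⟩ := key P hneP Set.inter_subset_left
  obtain ⟨Y, hYR, hYI, hYn⟩ := key R hneR Set.inter_subset_right
  -- `Q = ⟨I⟩` is normalised by `X` and `Y`
  have hnorm : ∀ Z : Subgroup G, (∀ z ∈ Z, ∀ W ∈ I, MulAut.conj z • W ∈ I) →
      Z ≤ Subgroup.normalizer (sSup I : Subgroup G) := by
    intro Z hZ z hz
    have hfwd : ∀ w ∈ Z, ∀ v ∈ (sSup I : Subgroup G), w * v * w⁻¹ ∈ (sSup I : Subgroup G) := by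
      intro w hw v hv
      have hmap : (sSup I : Subgroup G).map (MulAut.conj w).toMonoidHom ≤ sSup I := by
        simp only [sSup_eq_iSup, Subgroup.map_iSup]
        exact iSup₂_le fun W hW => le_biSup (fun W => W) (hZ w hw W hW)
      exact hmap (Subgroup.mem_map_of_mem _ hv)
    refine Subgroup.mem_normalizer_iff.2 fun v => ⟨hfwd z hz v, fun hv => ?_⟩
    simpa [mul_assoc] using hfwd z⁻¹ (inv_mem hz) _ hv
  have hQp : IsPGroup p ↥(sSup I : Subgroup G) :=
    P.isPGroup'.to_le (sSup_le fun W hW => hW.1.2)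
  have hXYQ : IsPGroup p ↥((X ⊔ Y) ⊔ (sSup I : Subgroup G)) :=
    IsPGroup.to_sup_of_normal_right' (hpair X hXP.1 Y hYR.1) hQp
      (sup_le (hnorm X hXn) (hnorm Y hYn))
  obtain ⟨F, hF⟩ := hXYQ.exists_le_sylow
  have hXF : X ∈ c F := ⟨hXP.1, (le_sup_left.trans le_sup_left).trans hF⟩
  have hYF : Y ∈ c F := ⟨hYR.1, (le_sup_right.trans le_sup_left).trans hF⟩
  have hIF : ∀ W ∈ I, W ∈ c F := fun W hW =>
    ⟨hW.1.1, ((le_sSup hW).trans le_sup_right).trans hF⟩
  have hcPF : c P ≠ c F := fun h => hYI (show Y ∈ c P ∩ c R from ⟨h.symm ▸ hYF, hYR⟩)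
  have hlt : (c P ∩ c R).ncard < (c P ∩ c F).ncard := by
    have hsub : c P ∩ c R ⊆ c P ∩ c F := fun W hW => ⟨hW.1, hIF W hW⟩
    exact Set.ncard_lt_ncard
      ((Set.ssubset_iff_of_subset hsub).2 ⟨X, Set.mem_inter hXP hXF, hXI⟩) (Set.toFinite _)
  exact absurd (hmax (P, F) hcPF) (not_le_of_gt hlt)

/-- **Baer–Suzuki theorem** for a subgroup. -/
theorem baerSuzuki_subgroup [Fact p.Prime] (X : Subgroup G)
    (h : ∀ g : G, IsPGroup p ↥(X ⊔ MulAut.conj g • X)) :
    ∃ N : Subgroup G, N.Normal ∧ IsPGroup p N ∧ X ≤ N := by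
  obtain ⟨N, hN, hNp, hle⟩ := baerSuzuki_family (p := p) (Set.range fun g : G => MulAut.conj g • X)
    (by
      rintro g _ ⟨a, rfl⟩
      exact ⟨g * a, by simp [mul_smul]⟩)
    (by
      rintro _ ⟨a, rfl⟩ _ ⟨b, rfl⟩
      have h1 : MulAut.conj a • (X ⊔ MulAut.conj (a⁻¹ * b) • X)
          = MulAut.conj a • X ⊔ MulAut.conj b • X := by
        rw [Subgroup.smul_sup, smul_smul, ← map_mul, mul_inv_cancel_left]
      show IsPGroup p ↥(MulAut.conj a • X ⊔ MulAut.conj b • X)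
      rw [← h1]
      exact (h (a⁻¹ * b)).of_equiv (Subgroup.equivSMul _ _))
  exact ⟨N, hN, hNp, hle X ⟨1, by simp⟩⟩

/-- **Baer–Suzuki theorem** for an element. -/
theorem baerSuzuki_elem [Fact p.Prime] (x : G)
    (h : ∀ g : G, IsPGroup p ↥(Subgroup.closure ({x, g * x * g⁻¹} : Set G))) :
    ∃ N : Subgroup G, N.Normal ∧ IsPGroup p N ∧ x ∈ N := by
  obtain ⟨N, hN, hNp, hle⟩ := baerSuzuki_subgroup (p := p) (Subgroup.zpowers x) (fun g => by
    refine (h g).to_le (sup_le (Subgroup.zpowers_le.2 (Subgroup.subset_closure (by simp))) ?_)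
    rintro _ ⟨z, ⟨k, rfl⟩, rfl⟩
    show g * x ^ k * g⁻¹ ∈ _
    rw [← conj_zpow]
    exact zpow_mem (Subgroup.subset_closure (by simp)) k)
  exact ⟨N, hN, hNp, hle (Subgroup.mem_zpowers x)⟩

end CfsgLib.Small
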