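import Mathlib.GroupTheory.OrderOfElement
import Mathlib.Tactic
import Cfsg.Agent.Small.Counting

/-!
# The Thompson order formula
-/

namespace CfsgLib.Small

variable {G : Type*} [Group G]

/-- An involution in `⟨w⟩` is the half power of `w`. -/
theorem invol_mem_zpowers_eq [Finite G] {z w : G} (hz : orderOf z = 2)
    (h : z ∈ Subgroup.zpowers w) : z = w ^ (orderOf w / 2) := by
  obtain ⟨k, hk : w ^ k = z⟩ := h
  obtain ⟨r, hr⟩ : Even (orderOf w) := by
    rw [even_iff_two_dvd, ← hz, ← hk]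
    exact orderOf_dvd_iff_pow_eq_one.2 (by rw [← zpow_natCast, ← zpow_mul, mul_comm, zpow_mul,
      zpow_natCast, pow_orderOf_eq_one, one_zpow])
  have hk2 : w ^ (k + k) = w ^ (0 : ℤ) := by
    rw [zpow_add, hk, mul_self_of_orderOf_two hz, zpow_zero]
  rw [zpow_eq_zpow_iff_modEq, Int.modEq_zero_iff_dvd, hr] at hk2
  push_cast at hk2
  obtain ⟨c, hc⟩ := hk2
  have hkc : k = r * c := by linarith
  rw [show orderOf w / 2 = r by omega]
  rcases Int.even_or_odd c with ⟨d, rfl⟩ | ⟨d, rfl⟩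
  · exfalso
    apply ne_one_of_orderOf_two hz
    rw [← hk, hkc, show (r : ℤ) * (d + d) = ((orderOf w : ℕ) : ℤ) * d by rw [hr]; push_cast; ring,
      zpow_mul, zpow_natCast, pow_orderOf_eq_one, one_zpow]
  · rw [← hk, hkc,
      show (r : ℤ) * (2 * d + 1) = ((orderOf w : ℕ) : ℤ) * d + r by rw [hr]; push_cast; ring,
      zpow_add, zpow_mul, zpow_natCast, zpow_natCast, pow_orderOf_eq_one, one_zpow, one_mul]

theorem half_pow_mem (w : G) (k : ℕ) : w ^ k ∈ Subgroup.zpowers w :=
  Subgroup.npow_mem_zpowers w k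

/-- The number of pairs from two classes having `z` in the group generated by the product depends
only on the class of `z`. -/
theorem card_pairs_conj (x₁ x₂ : G) {z z' : G} (h : IsConj z z') :
    Nat.card {p : G × G // IsConj x₁ p.1 ∧ IsConj x₂ p.2 ∧ z ∈ Subgroup.zpowers (p.1 * p.2)}
      = Nat.card {p : G × G // IsConj x₁ p.1 ∧ IsConj x₂ p.2 ∧
          z' ∈ Subgroup.zpowers (p.1 * p.2)} := by
  obtain ⟨g, rfl⟩ := isConj_iff.1 h
  refine Nat.card_congr (((MulAut.conj g).toEquiv.prodCongr (MulAut.conj g).toEquiv).subtypeEquiv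
    fun p => ?_)
  have hc : ∀ a b : G, IsConj a (g * b * g⁻¹) ↔ IsConj a b := fun a b =>
    ⟨fun h => h.trans (isConj_iff.2 ⟨g, rfl⟩).symm, fun h => h.trans (isConj_iff.2 ⟨g, rfl⟩)⟩
  show _ ↔ IsConj x₁ (g * p.1 * g⁻¹) ∧ IsConj x₂ (g * p.2 * g⁻¹) ∧
    g * z * g⁻¹ ∈ Subgroup.zpowers (g * p.1 * g⁻¹ * (g * p.2 * g⁻¹))
  rw [hc, hc, conj_mul]
  constructor
  · rintro ⟨h1, h2, k, hk⟩
    exact ⟨h1, h2, k, by simp only at hk ⊢; rw [conj_zpow, hk]⟩
  · rintro ⟨h1, h2, k, hk⟩
    refine ⟨h1, h2, k, ?_⟩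
    simp only at hk ⊢
    rw [conj_zpow] at hk
    exact mul_left_cancel (mul_right_cancel hk)

/-- **Thompson order formula.** -/
theorem thompson_order [Finite G] (x₁ x₂ : G) (h₁ : orderOf x₁ = 2) (h₂ : orderOf x₂ = 2)
    (hnc : ¬ IsConj x₁ x₂) (hall : ∀ t : G, orderOf t = 2 → IsConj x₁ t ∨ IsConj x₂ t) :
    Nat.card G =
      Nat.card (Subgroup.centralizer ({x₂} : Set G)) *
        Nat.card {p : G × G // IsConj x₁ p.1 ∧ IsConj x₂ p.2 ∧ x₁ ∈ Subgroup.zpowers (p.1 * p.2)} +
      Nat.card (Subgroup.centralizer ({x₁} : Set G)) *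
        Nat.card {p : G × G // IsConj x₁ p.1 ∧ IsConj x₂ p.2 ∧
          x₂ ∈ Subgroup.zpowers (p.1 * p.2)} := by
  classical
  haveI := Fintype.ofFinite G
  have hord : ∀ x a : G, orderOf x = 2 → IsConj x a → orderOf a = 2 := by
    intro x a hx h
    obtain ⟨c, rfl⟩ := isConj_iff.1 h
    rw [orderOf_conj_eq, hx]
  have heven : ∀ u v : G, IsConj x₁ u → IsConj x₂ v → Even (orderOf (u * v)) := by
    intro u v hu hv
    by_contra h
    obtain ⟨k, hk⟩ := conj_pow_eq_of_odd (hord _ _ h₁ hu) (hord _ _ h₂ hv)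
      (Nat.not_even_iff_odd.1 h)
    exact hnc ((hu.trans (isConj_iff.2 ⟨_, hk⟩)).trans hv.symm)
  -- each pair has exactly one involution in the group generated by its product
  let F : G → Type _ := fun z =>
    {p : G × G // IsConj x₁ p.1 ∧ IsConj x₂ p.2 ∧ z ∈ Subgroup.zpowers (p.1 * p.2)}
  let e : ({u : G // IsConj x₁ u} × {v : G // IsConj x₂ v}) ≃
      Σ z : {z : G // orderOf z = 2}, F z.1 :=
    { toFun := fun q => ⟨⟨(q.1.1 * q.2.1) ^ (orderOf (q.1.1 * q.2.1) / 2),
          (half_pow_spec (hord _ _ h₁ q.1.2) (hord _ _ h₂ q.2.2) (heven _ _ q.1.2 q.2.2)).1⟩,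
        ⟨(q.1.1, q.2.1), q.1.2, q.2.2, half_pow_mem _ _⟩⟩
      invFun := fun s => (⟨s.2.1.1, s.2.2.1⟩, ⟨s.2.1.2, s.2.2.2.1⟩)
      left_inv := fun q => rfl
      right_inv := by
        rintro ⟨⟨z, hz⟩, ⟨p, hu, hv, hmem⟩⟩
        obtain rfl := invol_mem_zpowers_eq hz hmem
        rfl }
  have hprod := Nat.card_congr e
  rw [Nat.card_prod, Nat.card_sigma] at hprod
  have hsplit : ∀ f : G → ℕ, (∀ z z', IsConj z z' → f z = f z') →
      ∑ z : {z : G // orderOf z = 2}, f z.1
        = Nat.card {u : G // IsConj x₁ u} * f x₁ + Nat.card {v : G // IsConj x₂ v} * f x₂ := by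
    intro f hf
    rw [← Finset.sum_subtype (Finset.univ.filter fun z : G => orderOf z = 2) (by simp) f,
      ← Finset.sum_filter_add_sum_filter_not _ (fun z => IsConj x₁ z),
      Finset.filter_filter, Finset.filter_filter]
    congr 1
    · rw [Finset.sum_congr rfl (g := fun _ => f x₁) (fun z hz => by
        simp only [Finset.mem_filter] at hz; exact (hf _ _ hz.2.2).symm),
        Finset.sum_const, smul_eq_mul, Nat.card_eq_fintype_card, Fintype.card_subtype]
      congr 1
      refine congrArg Finset.card (Finset.ext fun z => ?_)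
      simp only [Finset.mem_filter, Finset.mem_univ, true_and]
      exact ⟨fun h => h.2, fun h => ⟨hord _ _ h₁ h, h⟩⟩
    · rw [Finset.sum_congr rfl (g := fun _ => f x₂) (fun z hz => by
        simp only [Finset.mem_filter] at hz
        exact (hf _ _ ((hall z hz.2.1).resolve_left hz.2.2)).symm),
        Finset.sum_const, smul_eq_mul, Nat.card_eq_fintype_card, Fintype.card_subtype]
      congr 1
      refine congrArg Finset.card (Finset.ext fun z => ?_)
      simp only [Finset.mem_filter, Finset.mem_univ, true_and]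
      exact ⟨fun h => (hall z h.1).resolve_left h.2,
        fun h => ⟨hord _ _ h₂ h, fun h' => hnc (h'.trans h.symm)⟩⟩
  have h3 : Nat.card {u : G // IsConj x₁ u} * Nat.card {v : G // IsConj x₂ v}
      = Nat.card {u : G // IsConj x₁ u} * Nat.card (F x₁)
        + Nat.card {v : G // IsConj x₂ v} * Nat.card (F x₂) :=
    hprod.trans (hsplit (fun z => Nat.card (F z)) fun z z' h => card_pairs_conj x₁ x₂ h)
  have hc1 := card_conjugates_mul_card_centralizer (G := G) x₁
  have hc2 := card_conjugates_mul_card_centralizer (G := G) x₂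
  set N := Nat.card G
  set c1 := Nat.card (Subgroup.centralizer ({x₁} : Set G))
  set c2 := Nat.card (Subgroup.centralizer ({x₂} : Set G))
  set a1 := Nat.card {u : G // IsConj x₁ u}
  set a2 := Nat.card {v : G // IsConj x₂ v}
  refine Nat.eq_of_mul_eq_mul_left (show 0 < N from Nat.card_pos) ?_
  show N * N = N * (c2 * Nat.card (F x₁) + c1 * Nat.card (F x₂))
  calc N * N = (a1 * a2) * (c1 * c2) := by rw [mul_mul_mul_comm, hc1, hc2]
    _ = (a1 * c1) * (c2 * Nat.card (F x₁)) + (a2 * c2) * (c1 * Nat.card (F x₂)) := by rw [h3]; ring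
    _ = _ := by rw [hc1, hc2]; ring

end CfsgLib.Small
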