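import Mathlib.GroupTheory.SpecificGroups.KleinFour
import Mathlib.GroupTheory.Transfer
import Mathlib.Tactic
import Cfsg.Agent.Small.Counting

/-!
# Klein four Sylow 2-subgroups
-/

namespace CfsgLib.Small

variable {G : Type*} [Group G]

theorem kleinFour_mul_self {P : Subgroup G} (hP : IsKleinFour P) {a : G} (ha : a ∈ P) :
    a * a = 1 :=
  congrArg Subtype.val (IsKleinFour.mul_self (G := P) ⟨a, ha⟩)

theorem kleinFour_comm {P : Subgroup G} (hP : IsKleinFour P) {a b : G} (ha : a ∈ P)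
    (hb : b ∈ P) : a * b = b * a :=
  congrArg Subtype.val ((IsKleinFour.isMulCommutative (G := P)).is_comm.comm ⟨a, ha⟩ ⟨b, hb⟩)

theorem kleinFour_cases {P : Subgroup G} (hP : IsKleinFour P) {a b c : G} (ha : a ∈ P)
    (hb : b ∈ P) (hc : c ∈ P) (ha1 : a ≠ 1) (hb1 : b ≠ 1) (hab : a ≠ b) :
    c = 1 ∨ c = a ∨ c = b ∨ c = a * b := by
  classical
  haveI : Finite P := Nat.finite_of_card_ne_zero (by rw [IsKleinFour.card_four (G := P)]; norm_num)
  haveI := Fintype.ofFinite P
  have h := IsKleinFour.eq_finset_univ (G := P) (x := ⟨a, ha⟩) (y := ⟨b, hb⟩)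
    (fun h => ha1 (congrArg Subtype.val h)) (fun h => hb1 (congrArg Subtype.val h))
    (fun h => hab (congrArg Subtype.val h))
  have hm : (⟨c, hc⟩ : P) ∈ (Finset.univ : Finset P) := Finset.mem_univ _
  rw [← h] at hm
  simp only [Finset.mem_insert, Finset.mem_singleton, Subtype.ext_iff] at hm
  push_cast at hm
  tauto

variable [Finite G]

/-- An element of `N(P)` fixing one involution of the Klein four Sylow subgroup centralises it. -/
theorem mem_centralizer_of_fix_one (P : Sylow 2 G) (hP : IsKleinFour (P : Subgroup G)) {n a : G}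
    (hn : n ∈ Subgroup.normalizer ((P : Subgroup G) : Set G)) (ha : a ∈ (P : Subgroup G))
    (ha1 : a ≠ 1) (hna : n * a * n⁻¹ = a) :
    n ∈ Subgroup.centralizer ((P : Subgroup G) : Set G) := by
  haveI : Fact (Nat.Prime 2) := ⟨Nat.prime_two⟩
  set S := (P : Subgroup G) with hS
  rw [Subgroup.mem_centralizer_iff]
  intro b hb
  refine (eq_comm.1 (mul_inv_eq_iff_eq_mul.1 (?_ : n * b * n⁻¹ = b)))
  by_cases hb1 : b = 1
  · subst hb1; simp
  by_cases hba : a = b
  · rw [← hba, hna]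
  by_contra hne
  -- `n` interchanges `b` and `a * b`
  have hmem : ∀ m ∈ Subgroup.normalizer (S : Set G), ∀ c ∈ S, m * c * m⁻¹ ∈ S := fun m hm c hc =>
    (Subgroup.mem_normalizer_iff.1 hm c).1 hc
  have hnb : n * b * n⁻¹ = a * b := by
    rcases kleinFour_cases hP ha hb (hmem n hn b hb) ha1 hb1 hba with h | h | h | h
    · exact absurd (by simpa using h) hb1
    · exact absurd (mul_left_cancel (mul_right_cancel (hna.trans h.symm))) hba
    · exact absurd h hne
    · exact h
  have hn2b : n ^ 2 * b * (n ^ 2)⁻¹ = b := by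
    calc n ^ 2 * b * (n ^ 2)⁻¹ = n * (n * b * n⁻¹) * n⁻¹ := by
          rw [sq, mul_inv_rev]; simp only [mul_assoc]
      _ = (n * a * n⁻¹) * (n * b * n⁻¹) := by
          conv_lhs => rw [hnb]
          group
      _ = b := by rw [hna, hnb, ← mul_assoc, kleinFour_mul_self hP ha, one_mul]
  obtain ⟨k, m, ⟨j, rfl⟩, hkm⟩ := Nat.exists_eq_two_pow_mul_odd (orderOf_pos n).ne'
  set t := n ^ (2 * j + 1) with ht
  have ht2 : IsPGroup 2 ↥(Subgroup.zpowers t) := by
    have h1 : t ^ 2 ^ k = 1 := by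
      rw [ht, ← pow_mul, mul_comm, ← hkm, pow_orderOf_eq_one]
    obtain ⟨i, -, hi⟩ := (Nat.dvd_prime_pow Nat.prime_two).1 (orderOf_dvd_of_pow_eq_one h1)
    exact IsPGroup.of_card (n := i) (by rw [Nat.card_zpowers, hi])
  have htN : t ∈ Subgroup.normalizer (S : Set G) := pow_mem hn _
  have htS : t ∈ S := by
    have hp := IsPGroup.to_sup_of_normal_right' ht2 P.isPGroup' (Subgroup.zpowers_le.2 htN)
    have he := P.is_maximal' hp le_sup_right
    exact he.le (Subgroup.mem_sup_left (Subgroup.mem_zpowers t))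
  have hcomm : t * b * t⁻¹ = b := by
    rw [kleinFour_comm hP htS hb, mul_inv_cancel_right]
  have hpow : ∀ i : ℕ, (n ^ 2) ^ i * b * ((n ^ 2) ^ i)⁻¹ = b := by
    intro i
    have : Commute (n ^ 2) b := mul_inv_eq_iff_eq_mul.1 hn2b
    rw [(this.pow_left i).eq, mul_inv_cancel_right]
  apply hne
  calc n * b * n⁻¹ = n * ((n ^ 2) ^ j * b * ((n ^ 2) ^ j)⁻¹) * n⁻¹ := by rw [hpow]
    _ = t * b * t⁻¹ := by
        rw [ht, pow_succ' n (2 * j), pow_mul, mul_inv_rev]; simp only [mul_assoc]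
    _ = b := hcomm

/-- With Klein four Sylow subgroup `P`, either `N(P)` centralises `P`, or it permutes the
involutions of `P` transitively with `N(P)/C(P)` of order three. -/
theorem kleinFour_normalizer_dichotomy (P : Sylow 2 G) (hP : IsKleinFour (P : Subgroup G)) :
    Subgroup.normalizer ((P : Subgroup G) : Set G)
        ≤ Subgroup.centralizer ((P : Subgroup G) : Set G) ∨
      ((∀ a ∈ (P : Subgroup G), ∀ b ∈ (P : Subgroup G), a ≠ 1 → b ≠ 1 →
          ∃ n ∈ Subgroup.normalizer ((P : Subgroup G) : Set G), n * a * n⁻¹ = b) ∧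
        (Subgroup.centralizer ((P : Subgroup G) : Set G)).relIndex
          (Subgroup.normalizer ((P : Subgroup G) : Set G)) = 3) := by
  classical
  set S := (P : Subgroup G) with hS
  refine or_iff_not_imp_left.2 fun hle => ?_
  obtain ⟨g, hgN, hgC⟩ := SetLike.not_le_iff_exists.1 hle
  have hmem : ∀ m ∈ Subgroup.normalizer (S : Set G), ∀ c ∈ S, m * c * m⁻¹ ∈ S := fun m hm c hc =>
    (Subgroup.mem_normalizer_iff.1 hm c).1 hc
  have hfix : ∀ m ∈ Subgroup.normalizer (S : Set G), ∀ c ∈ S, c ≠ 1 → m * c * m⁻¹ = c →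
      m ∈ Subgroup.centralizer (S : Set G) := fun m hm c hc h1 h2 =>
    mem_centralizer_of_fix_one P hP hm hc h1 h2
  have htrans : ∀ a ∈ S, a ≠ 1 → ∀ b ∈ S, b ≠ 1 →
      ∃ n ∈ Subgroup.normalizer (S : Set G), n * a * n⁻¹ = b := by
    intro a ha ha1 b hb hb1
    by_cases hab : a = b
    · exact ⟨1, one_mem _, by simpa using hab⟩
    set a' := g * a * g⁻¹ with ha'
    have ha'S : a' ∈ S := hmem g hgN a ha
    have ha'1 : a' ≠ 1 := by simpa [ha'] using ha1
    have hne : a ≠ a' := fun h => hgC (hfix g hgN a ha ha1 h.symm)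
    set a'' := g * a' * g⁻¹ with ha''
    have ha''S : a'' ∈ S := hmem g hgN a' ha'S
    have ha''1 : a'' ≠ 1 := by simpa [ha''] using ha'1
    have hne' : a' ≠ a'' := fun h => hgC (hfix g hgN a' ha'S ha'1 h.symm)
    have hne'' : a'' ≠ a := by
      intro h
      -- otherwise `g` fixes `a * a'`
      refine hgC (hfix g hgN (a * a') (mul_mem ha ha'S) (fun h1 => hne ?_) ?_)
      · exact (eq_inv_of_mul_eq_one_left h1).trans (inv_eq_iff_mul_eq_one.2
          (kleinFour_mul_self hP ha'S))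
      · calc g * (a * a') * g⁻¹ = (g * a * g⁻¹) * (g * a' * g⁻¹) := by group
          _ = a' * a'' := rfl
          _ = a * a' := by rw [h, kleinFour_comm hP ha'S ha]
    have hthird : a'' = a * a' := by
      rcases kleinFour_cases hP ha ha'S ha''S ha1 ha'1 hne with h | h | h | h
      · exact absurd h ha''1
      · exact absurd h hne''
      · exact absurd h hne'.symm
      · exact h
    rcases kleinFour_cases hP ha ha'S hb ha1 ha'1 hne with h | h | h | h
    · exact absurd h hb1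
    · exact absurd h.symm hab
    · exact ⟨g, hgN, h.symm⟩
    · refine ⟨g * g, mul_mem hgN hgN, ?_⟩
      rw [h, ← hthird, ha'', ha']
      group
  refine ⟨fun a ha b hb ha1 hb1 => htrans a ha ha1 b hb hb1, ?_⟩
  obtain ⟨⟨a, ha⟩, ha1'⟩ : ∃ a : S, a ≠ 1 := Subgroup.ne_bot_iff_exists_ne_one.1 (by
    intro hbot
    have h4 := IsKleinFour.card_four (G := S)
    rw [hbot, Subgroup.card_bot] at h4
    norm_num at h4)
  have ha1 : a ≠ 1 := fun h => ha1' (Subtype.ext h)
  -- orbit of `a`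
  set N := Subgroup.normalizer (S : Set G)
  let C' := (Subgroup.centralizer (S : Set G)).subgroupOf N
  have hker : ∀ m n : N, (m : N ⧸ C') = n ↔ (m : G) * a * (m : G)⁻¹ = n * a * (n : G)⁻¹ := by
    intro m n
    rw [QuotientGroup.eq, Subgroup.mem_subgroupOf]
    constructor
    · intro h
      have h' := Subgroup.mem_centralizer_iff.1 h a ha
      push_cast at h'
      calc (m : G) * a * (m : G)⁻¹ = m * (a * ((m : G)⁻¹ * n)) * (n : G)⁻¹ := by group
        _ = n * a * (n : G)⁻¹ := by rw [h']; group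
    · intro h
      refine hfix _ (SetLike.coe_mem (m⁻¹ * n)) a ha ha1 ?_
      push_cast
      calc (m : G)⁻¹ * n * a * ((m : G)⁻¹ * n)⁻¹
          = (m : G)⁻¹ * ((n : G) * a * (n : G)⁻¹) * m := by group
        _ = a := by rw [← h]; group
  let f : N ⧸ C' → {b : S // b ≠ 1} := fun q =>
    q.liftOn' (fun m => ⟨⟨(m : G) * a * (m : G)⁻¹, hmem m m.2 a ha⟩,
      fun h => ha1 (by simpa using congrArg Subtype.val h)⟩)
      (fun m n h => by
        have := (hker m n).1 (Quotient.sound h)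
        exact Subtype.ext (Subtype.ext this))
  have hf : Function.Bijective f := by
    constructor
    · intro q q'
      induction q using QuotientGroup.induction_on with
      | _ m =>
        induction q' using QuotientGroup.induction_on with
        | _ n => exact fun h => (hker m n).2 (congrArg Subtype.val (congrArg Subtype.val h))
    · rintro ⟨⟨b, hb⟩, hb1⟩
      obtain ⟨n, hn, he⟩ := htrans a ha ha1 b hb (fun h => hb1 (Subtype.ext h))
      exact ⟨((⟨n, hn⟩ : N) : N ⧸ C'), Subtype.ext (Subtype.ext he)⟩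
  show C'.index = 3
  haveI := Fintype.ofFinite S
  rw [Subgroup.index_eq_card, Nat.card_congr (Equiv.ofBijective f hf), Nat.card_eq_fintype_card,
    Fintype.card_subtype_compl, Fintype.card_subtype_eq, ← Nat.card_eq_fintype_card,
    IsKleinFour.card_four (G := S)]

/-- Involutions of `G` up to conjugacy are covered by those of a Sylow subgroup. -/
theorem exists_conj_mem_sylow (P : Sylow 2 G) {t : G} (ht : orderOf t = 2) :
    ∃ g : G, g * t * g⁻¹ ∈ (P : Subgroup G) := by
  haveI : Fact (Nat.Prime 2) := ⟨Nat.prime_two⟩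
  obtain ⟨Q, hQ⟩ := (IsPGroup.of_card (n := 1)
    (by rw [Nat.card_zpowers, ht, pow_one]) : IsPGroup 2 ↥(Subgroup.zpowers t)).exists_le_sylow
  obtain ⟨c, hc⟩ := MulAction.exists_smul_eq G Q P
  refine ⟨c, ?_⟩
  have h : MulAut.conj c t ∈ c • (Q : Sylow 2 G) := ⟨t, hQ (Subgroup.mem_zpowers t), rfl⟩
  rw [hc] at h
  exact h

/-- The involution classes for a Klein four Sylow subgroup. -/
theorem kleinFour_classes (P : Sylow 2 G) (hP : IsKleinFour (P : Subgroup G)) :
    (Nat.card {C : ConjClasses G // ∃ t : G, orderOf t = 2 ∧ ConjClasses.mk t = C} = 3 ∧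
      ∃ N : Subgroup G, N.Normal ∧ Subgroup.IsComplement' N (P : Subgroup G)) ∨
    (Nat.card {C : ConjClasses G // ∃ t : G, orderOf t = 2 ∧ ConjClasses.mk t = C} = 1 ∧
      ¬ ∃ N : Subgroup G, N.Normal ∧ Subgroup.IsComplement' N (P : Subgroup G)) := by
  classical
  haveI : Fact (Nat.Prime 2) := ⟨Nat.prime_two⟩
  set S := (P : Subgroup G) with hS
  haveI := Fintype.ofFinite S
  have hord : ∀ a ∈ S, a ≠ 1 → orderOf a = 2 := fun a ha ha1 =>
    orderOf_eq_two_iff_sq.2 ⟨ha1, kleinFour_mul_self hP ha⟩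
  have hSc : Fintype.card {a : S // a ≠ 1} = 3 := by
    rw [Fintype.card_subtype_compl, Fintype.card_subtype_eq, ← Nat.card_eq_fintype_card,
      IsKleinFour.card_four (G := S)]
  let cl : {a : S // a ≠ 1} → {C : ConjClasses G // ∃ t : G, orderOf t = 2 ∧ ConjClasses.mk t = C} :=
    fun a => ⟨ConjClasses.mk (a.1 : G), a.1, hord _ a.1.2 (fun h => a.2 (Subtype.ext h)), rfl⟩
  have hsurj : Function.Surjective cl := by
    rintro ⟨C, t, ht, rfl⟩
    obtain ⟨g, hg⟩ := exists_conj_mem_sylow P ht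
    exact ⟨⟨⟨_, hg⟩, fun h => ne_one_of_orderOf_two ht
      (conj_eq_one_iff.1 (congrArg Subtype.val h))⟩,
      Subtype.ext (ConjClasses.mk_eq_mk_iff_isConj.2 (isConj_iff.2 ⟨g, rfl⟩).symm)⟩
  haveI hcomm : IsMulCommutative S := IsKleinFour.isMulCommutative
  have hfusion : ∀ a ∈ S, ∀ b ∈ S, IsConj a b →
      ∃ n ∈ Subgroup.normalizer (S : Set G), n * a * n⁻¹ = b := by
    intro a ha b hb hab
    obtain ⟨g, hg⟩ := isConj_iff.1 hab
    obtain ⟨n, hn, he⟩ := P.conj_eq_normalizer_conj_of_mem (_hP := hcomm) a g⁻¹ ha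
      (by rw [inv_inv, hg]; exact hb)
    refine ⟨n⁻¹, inv_mem hn, ?_⟩
    rw [inv_inv, ← he, inv_inv, hg]
  rcases kleinFour_normalizer_dichotomy P hP with hle | ⟨htr, hrel⟩
  · left
    have hinj : Function.Injective cl := by
      intro a b h
      obtain ⟨n, hn, he⟩ := hfusion _ a.1.2 _ b.1.2
        (ConjClasses.mk_eq_mk_iff_isConj.1 (congrArg Subtype.val h))
      rw [← Subgroup.mem_centralizer_iff.1 (hle hn) _ a.1.2, mul_inv_cancel_right] at he
      exact Subtype.ext (Subtype.ext he)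
    refine ⟨?_, ⟨_, inferInstance, MonoidHom.ker_transferSylow_isComplement' P hle⟩⟩
    rw [← Nat.card_congr (Equiv.ofBijective cl ⟨hinj, hsurj⟩), Nat.card_eq_fintype_card, hSc]
  · right
    obtain ⟨a₀⟩ : Nonempty {a : S // a ≠ 1} := Fintype.card_pos_iff.1 (by omega)
    refine ⟨Nat.card_eq_one_iff_unique.2 ⟨⟨fun C D => ?_⟩, ⟨cl a₀⟩⟩, ?_⟩
    · obtain ⟨a, rfl⟩ := hsurj C
      obtain ⟨b, rfl⟩ := hsurj D
      obtain ⟨n, -, he⟩ := htr _ a.1.2 _ b.1.2 (fun h => a.2 (Subtype.ext h))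
        (fun h => b.2 (Subtype.ext h))
      exact Subtype.ext (ConjClasses.mk_eq_mk_iff_isConj.2 (isConj_iff.2 ⟨n, he⟩))
    · rintro ⟨N, hN, hc⟩
      obtain ⟨b, hb⟩ := Fintype.exists_ne_of_one_lt_card (by omega : 1 < Fintype.card {a : S // a ≠ 1}) a₀
      obtain ⟨n, -, he⟩ := htr _ a₀.1.2 _ b.1.2 (fun h => a₀.2 (Subtype.ext h))
        (fun h => b.2 (Subtype.ext h))
      obtain ⟨⟨m, q⟩, hmq⟩ := hc.2 n
      apply hb
      have hcq : (q : G) * a₀.1 * (q : G)⁻¹ = a₀.1 := by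
        rw [kleinFour_comm hP q.2 a₀.1.2, mul_inv_cancel_right]
      have hconj : (m : G) * a₀.1 * (m : G)⁻¹ = b.1 := by
        have hmq' : (m : G) * q = n := hmq
        calc (m : G) * a₀.1 * (m : G)⁻¹
            = (m : G) * ((q : G) * a₀.1 * (q : G)⁻¹) * (m : G)⁻¹ := by rw [hcq]
          _ = n * a₀.1 * n⁻¹ := by rw [← hmq']; group
          _ = b.1 := he
      have h1 : (a₀.1 : G)⁻¹ * b.1 ∈ N := by
        rw [← hconj]
        have h2 : (a₀.1 : G)⁻¹ * m * ((a₀.1 : G)⁻¹)⁻¹ ∈ N := hN.conj_mem _ m.2 _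
        rw [inv_inv] at h2
        simpa [mul_assoc] using mul_mem h2 (inv_mem m.2)
      have h3 : (a₀.1 : G)⁻¹ * b.1 ∈ S := mul_mem (inv_mem a₀.1.2) b.1.2
      exact Subtype.ext (Subtype.ext (inv_mul_eq_one.1 (Subgroup.disjoint_def.1 hc.disjoint h1 h3))).symm
end CfsgLib.Small
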