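import Mathlib.Tactic
import Mathlib.Algebra.BigOperators.Ring.Finset

/-!
# The combinatorics of exceptional characters

Integer vectors with inner products `e + δ`, all of degree zero, are a common vector plus or minus
distinct unit vectors.
-/

namespace CfsgLib.Small.Exceptional

variable {I O : Type*} [Fintype I] [DecidableEq I]

/-- An integer vector of norm two and degree zero, all degrees being positive, is a difference of
two unit vectors. -/
theorem exists_eq_single_sub_single (D : I → ℤ) (d : I → ℕ) (hd : ∀ i, 0 < d i)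
    (h2 : ∑ i, D i * D i = 2) (h0 : ∑ i, D i * (d i : ℤ) = 0) :
    ∃ i j : I, i ≠ j ∧ D = Pi.single i 1 - Pi.single j 1 := by
  have hb : ∀ i, -1 ≤ D i ∧ D i ≤ 1 := fun i => by
    have h : D i * D i ≤ 2 :=
      h2 ▸ Finset.single_le_sum (f := fun i => D i * D i) (fun i _ => mul_self_nonneg _)
        (Finset.mem_univ i)
    constructor <;> nlinarith
  obtain ⟨i, hi⟩ : ∃ i, D i = 1 := by
    by_contra hcon
    push Not at hcon
    have hle : ∀ i, D i * (d i : ℤ) ≤ 0 := fun i => by
      have := hb i; have := hcon i; have := hd i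
      rcases (show D i = -1 ∨ D i = 0 by omega) with h | h <;> rw [h] <;> simp
    have hz : ∀ i ∈ Finset.univ, D i * (d i : ℤ) = 0 :=
      (Finset.sum_eq_zero_iff_of_nonpos fun i _ => hle i).1 h0
    have hD : D = 0 := funext fun i => by
      rcases mul_eq_zero.1 (hz i (Finset.mem_univ i)) with h | h
      · exact h
      · exact absurd h (by exact_mod_cast (hd i).ne')
    simp [hD] at h2
  obtain ⟨j, hj⟩ : ∃ j, D j = -1 := by
    by_contra hcon
    push Not at hcon
    have hle : ∀ i, 0 ≤ D i * (d i : ℤ) := fun i => by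
      have := hb i; have := hcon i
      rcases (show D i = 0 ∨ D i = 1 by omega) with h | h <;> rw [h] <;> simp
    have := (Finset.sum_eq_zero_iff_of_nonneg fun i _ => hle i).1 h0 i (Finset.mem_univ i)
    rw [hi, one_mul] at this
    exact absurd this (by exact_mod_cast (hd i).ne')
  have hij : i ≠ j := fun h => by rw [h, hj] at hi; omega
  refine ⟨i, j, hij, funext fun l => ?_⟩
  by_cases hli : l = i
  · subst hli; simp [hi, hij]
  by_cases hlj : l = j
  · subst hlj; simp [hj, hli]
  simp only [Pi.sub_apply, Pi.single_eq_of_ne hli, Pi.single_eq_of_ne hlj, sub_zero]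
  by_contra hne
  have h3 : D i * D i + (D j * D j + D l * D l) ≤ ∑ i, D i * D i := by
    refine le_trans (le_of_eq ?_) (Finset.sum_le_sum_of_subset_of_nonneg
      (Finset.subset_univ ({i, j, l} : Finset I)) fun x _ _ => mul_self_nonneg _)
    rw [Finset.sum_insert (by simp [hij, Ne.symm hli]), Finset.sum_insert (by simp [Ne.symm hlj]),
      Finset.sum_singleton]
  have hl : 1 ≤ D l * D l := by have := mul_self_pos.2 hne; omega
  rw [hi, hj, h2] at h3
  omega

/-- Inner product of two differences of unit vectors. -/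
theorem sum_single_sub_mul (P M P' M' : I) :
    ∑ l, (Pi.single P (1 : ℤ) - Pi.single M 1 : I → ℤ) l * (Pi.single P' (1 : ℤ) - Pi.single M' 1 : I → ℤ) l
      = (if P = P' then 1 else 0) - (if P = M' then 1 else 0) - (if M = P' then 1 else 0)
        + (if M = M' then 1 else 0) := by
  simp only [Pi.sub_apply, sub_mul, mul_sub, Finset.sum_sub_distrib]
  simp [Pi.single_apply, eq_comm]
  ring

variable [Fintype O] [DecidableEq O]

/-- **The exceptional family.** -/
theorem exists_family (v : O → I → ℤ) (d : I → ℕ) (e : ℤ) (hd : ∀ i, 0 < d i)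
    (hG : ∀ o o', ∑ i, v o i * v o' i = e + if o = o' then 1 else 0)
    (hdeg : ∀ o, ∑ i, v o i * (d i : ℤ) = 0) (i₀ : I) (hi₀ : ∀ o, v o i₀ = 1)
    (hO : 2 ≤ Fintype.card O) :
    ∃ (b : I → ℤ) (σ β : ℤ) (x : O → I), (σ = 1 ∨ σ = -1) ∧ Function.Injective x ∧
      (∀ o i, v o i = b i + if i = x o then σ else 0) ∧ (∀ o, b (x o) = β) ∧
      (∑ i, b i * b i = e - 2 * σ * β) ∧ (∀ o, x o ≠ i₀) ∧ (∀ o o', d (x o) = d (x o')) := by
  obtain ⟨o₁⟩ : Nonempty O := Fintype.card_pos_iff.1 (by omega)
  have hD : ∀ o, ∃ p : I × I, p.1 ≠ p.2 ∧ (o ≠ o₁ →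
      v o - v o₁ = Pi.single p.1 1 - Pi.single p.2 1) := by
    intro o
    by_cases h : o = o₁
    · obtain ⟨o', ho'⟩ := Fintype.exists_ne_of_one_lt_card (by omega) o₁
      obtain ⟨i, j, hij, -⟩ := exists_eq_single_sub_single (v o' - v o₁) d hd
        (by simp only [Pi.sub_apply, sub_mul, mul_sub, Finset.sum_sub_distrib, hG]
            simp [ho', ho'.symm])
        (by simp only [Pi.sub_apply, sub_mul, Finset.sum_sub_distrib, hdeg, sub_zero])
      exact ⟨(i, j), hij, fun h' => absurd h h'⟩
    · obtain ⟨i, j, hij, he⟩ := exists_eq_single_sub_single (v o - v o₁) d hd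
        (by simp only [Pi.sub_apply, sub_mul, mul_sub, Finset.sum_sub_distrib, hG]
            simp [h, Ne.symm h])
        (by simp only [Pi.sub_apply, sub_mul, Finset.sum_sub_distrib, hdeg, sub_zero])
      exact ⟨(i, j), hij, fun _ => he⟩
  choose q hq hqv using hD
  have hinner : ∀ o o', o ≠ o₁ → o' ≠ o₁ → o ≠ o' →
      ((q o).1 = (q o').1 ∧ (q o).2 ≠ (q o').2) ∨ ((q o).1 ≠ (q o').1 ∧ (q o).2 = (q o').2) := by
    intro o o' h h' hne
    have h1 := sum_single_sub_mul (q o).1 (q o).2 (q o').1 (q o').2
    rw [← hqv o h, ← hqv o' h'] at h1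
    simp only [Pi.sub_apply, sub_mul, mul_sub, Finset.sum_sub_distrib, hG] at h1
    simp only [hne, h, Ne.symm h', if_false, if_true] at h1
    have := hq o; have := hq o'
    split_ifs at h1 <;> first
      | omega
      | exact Or.inl ⟨‹_›, ‹_›⟩
      | exact Or.inr ⟨‹_›, ‹_›⟩
      | simp_all
  have hcases : (∀ o o', o ≠ o₁ → o' ≠ o₁ → (q o).1 = (q o').1) ∨
      (∀ o o', o ≠ o₁ → o' ≠ o₁ → (q o).2 = (q o').2) := by
    by_contra hcon
    push Not at hcon
    obtain ⟨⟨a, a', ha, ha', hA⟩, b, b', hb, hb', hB⟩ := hcon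
    have hA2 : (q a).2 = (q a').2 := by
      rcases hinner a a' ha ha' (fun h => hA (by rw [h])) with ⟨h, -⟩ | ⟨-, h⟩
      · exact absurd h hA
      · exact h
    have hall : ∀ c, c ≠ o₁ → (q c).2 = (q a).2 := by
      intro c hc
      by_contra hne
      have h1 : (q c).1 = (q a).1 := by
        rcases hinner c a hc ha (fun h => hne (by rw [h])) with ⟨h, -⟩ | ⟨-, h⟩
        · exact h
        · exact absurd h hne
      have h2 : (q c).1 = (q a').1 := by
        rcases hinner c a' hc ha' (fun h => hne (by rw [h, hA2])) with ⟨h, -⟩ | ⟨-, h⟩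
        · exact h
        · exact absurd (h.trans hA2.symm) hne
      exact hA (h1.symm.trans h2)
    exact hB ((hall b hb).trans (hall b' hb').symm)
  obtain ⟨o₂, ho₂⟩ := Fintype.exists_ne_of_one_lt_card (by omega) o₁
  suffices key : ∃ (b : I → ℤ) (σ : ℤ) (x : O → I), (σ = 1 ∨ σ = -1) ∧ Function.Injective x ∧
      ∀ o, v o = b + Pi.single (x o) σ by
    obtain ⟨b, σ, x, hσ, hx, hv⟩ := key
    have hσ2 : σ * σ = 1 := by rcases hσ with rfl | rfl <;> norm_num
    have hsum : ∀ o o', (∑ i, b i * b i) + σ * b (x o) + σ * b (x o')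
        + (if o = o' then 1 else 0) = e + if o = o' then 1 else 0 := by
      intro o o'
      rw [← hG o o']
      simp only [hv, Pi.add_apply, add_mul, mul_add, Finset.sum_add_distrib]
      simp [Pi.single_apply, hx.eq_iff, eq_comm, hσ2]
      split_ifs <;> ring
    have hconst : ∀ o, b (x o) = b (x o₁) := fun o => by
      by_cases h : o = o₁
      · rw [h]
      · have h1 := hsum o o; have h2 := hsum o o₁; have h3 := hsum o₁ o₁
        simp only [h, if_false, if_true] at h1 h2 h3
        rcases hσ with rfl | rfl <;> omega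
    have hv' : ∀ o i, v o i = b i + if i = x o then σ else 0 := fun o i => by
      rw [hv, Pi.add_apply, Pi.single_apply]
    refine ⟨b, σ, b (x o₁), x, hσ, hx, hv', hconst, ?_, ?_, ?_⟩
    · have h1 := hsum o₁ o₁; simp only [if_true] at h1; linarith
    · intro o ho
      obtain ⟨o', ho'⟩ := Fintype.exists_ne_of_one_lt_card (by omega) o
      have h1 := hi₀ o; have h2 := hi₀ o'
      rw [hv', if_pos ho.symm] at h1
      rw [hv', if_neg (fun h => ho' (hx (ho.trans h)).symm)] at h2
      rcases hσ with rfl | rfl <;> omega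
    · intro o o'
      have h1 := hdeg o; have h2 := hdeg o'
      simp only [hv', add_mul, Finset.sum_add_distrib, ite_mul, zero_mul,
        Finset.sum_ite_eq', Finset.mem_univ, if_true] at h1 h2
      have h3 : σ * (d (x o) : ℤ) = σ * (d (x o') : ℤ) := by linarith
      rcases hσ with rfl | rfl <;> simpa using h3
  rcases hcases with hc | hc
  · refine ⟨v o₁ + Pi.single (q o₂).1 1, -1,
      fun o => if o = o₁ then (q o₂).1 else (q o).2, Or.inr rfl, ?_, fun o => ?_⟩
    · intro a b hab
      dsimp only at hab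
      split_ifs at hab with ha hb hb
      · rw [ha, hb]
      · exact absurd ((hc b o₂ hb ho₂).trans hab) (hq b)
      · exact absurd ((hc a o₂ ha ho₂).trans hab.symm) (hq a)
      · by_contra hne
        rcases hinner a b ha hb hne with ⟨-, h⟩ | ⟨h, -⟩
        · exact h hab
        · exact h (hc a b ha hb)
    · by_cases h : o = o₁
      · subst h; simp only [if_true]; rw [add_assoc, ← Pi.single_add]; simp
      · simp only [h, if_false]
        rw [show v o = v o₁ + (v o - v o₁) by abel, hqv o h, hc o o₂ h ho₂,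
          show Pi.single (q o).2 (-1 : ℤ) = -(Pi.single (q o).2 1 : I → ℤ) from Pi.single_neg _ _]
        abel
  · refine ⟨v o₁ - Pi.single (q o₂).2 1, 1,
      fun o => if o = o₁ then (q o₂).2 else (q o).1, Or.inl rfl, ?_, fun o => ?_⟩
    · intro a b hab
      dsimp only at hab
      split_ifs at hab with ha hb hb
      · rw [ha, hb]
      · exact absurd (hab.symm.trans (hc b o₂ hb ho₂).symm) (hq b)
      · exact absurd (hab.trans (hc a o₂ ha ho₂).symm) (hq a)
      · by_contra hne
        rcases hinner a b ha hb hne with ⟨-, h⟩ | ⟨h, -⟩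
        · exact h (hc a b ha hb)
        · exact h hab
    · by_cases h : o = o₁
      · subst h; simp
      · simp only [h, if_false]
        rw [show v o = v o₁ + (v o - v o₁) by abel, hqv o h, hc o o₂ h ho₂]
        abel

end CfsgLib.Small.Exceptional
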