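import Mathlib.GroupTheory.Sylow
import Mathlib.GroupTheory.Perm.Basic
import Mathlib.Tactic
import Cfsg.Agent.Small.SimpleTools
import Cfsg.Agent.Small.Counting

/-!
# Groups of order 24 without elements of order 6
-/

namespace CfsgLib.Small

variable {G : Type*} [Group G] [Finite G]

/-- A nontrivial finite subgroup contains an element of prime order. -/
theorem exists_prime_order_mem {K : Subgroup G} (hK : K ≠ ⊥) :
    ∃ r, r.Prime ∧ r ∣ Nat.card K ∧ ∃ g ∈ K, orderOf g = r := by
  have h1 : Nat.card K ≠ 1 := fun h => hK (Subgroup.eq_bot_of_card_eq _ h)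
  have hr := Nat.minFac_prime h1
  haveI : Fact (Nat.card K).minFac.Prime := ⟨hr⟩
  obtain ⟨g, hg⟩ := exists_prime_orderOf_dvd_card' (G := K) _ (Nat.minFac_dvd (Nat.card K))
  exact ⟨_, hr, Nat.minFac_dvd _, g, g.2, by rw [Subgroup.orderOf_coe, hg]⟩

/-- A group of order 24 without elements of order 6 has four Sylow 3-subgroups. -/
theorem card_sylow_three_of_order24 (h : Nat.card G = 24) (h6 : ∀ g : G, orderOf g ≠ 6) :
    haveI : Fact (Nat.Prime 3) := ⟨Nat.prime_three⟩
    Nat.card (Sylow 3 G) = 4 := by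
  haveI : Fact (Nat.Prime 3) := ⟨Nat.prime_three⟩
  haveI : Fact (Nat.Prime 2) := ⟨Nat.prime_two⟩
  have hN : Nat.card G = 3 ^ 1 * 8 := by rw [h]; rfl
  have hmem : Nat.card (Sylow 3 G) ∈ Nat.divisors 8 :=
    Nat.mem_divisors.2 ⟨card_sylow_dvd hN (by norm_num), by norm_num⟩
  have hmod := card_sylow_mod (G := G) 3
  rw [show Nat.divisors 8 = {1, 2, 4, 8} by decide] at hmem
  simp only [Finset.mem_insert, Finset.mem_singleton] at hmem
  rcases hmem with h1 | h1 | h1 | h1
  · exfalso
    obtain ⟨P⟩ : Nonempty (Sylow 3 G) := inferInstance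
    have hPc : Nat.card (P : Subgroup G) = 3 := by simpa using card_sylow_eq hN (by norm_num) P
    have hN' : Nat.card (Subgroup.normalizer ((P : Subgroup G) : Set G)) = 24 := by
      have h2 := card_sylow_mul_card_normalizer P
      rw [h1, one_mul, h] at h2
      exact h2
    set N := Subgroup.normalizer ((P : Subgroup G) : Set G)
    set C := Subgroup.centralizer ((P : Subgroup G) : Set G)
    have hd : C.relIndex N ∣ 2 := relIndex_centralizer_dvd_pred hPc
    have hm := Subgroup.card_mul_index (C.subgroupOf N)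
    have hd2 : (C.subgroupOf N).index ∣ 2 := hd
    rw [hN'] at hm
    have h2C : 2 ∣ Nat.card (C.subgroupOf N) := by
      rcases (Nat.dvd_prime Nat.prime_two).1 hd2 with hh | hh <;> rw [hh] at hm <;> omega
    obtain ⟨⟨⟨u, huN⟩, huC⟩, hu⟩ := exists_prime_orderOf_dvd_card' (G := C.subgroupOf N) 2 h2C
    rw [Subgroup.orderOf_mk, Subgroup.orderOf_mk] at hu
    obtain ⟨a, ha⟩ := exists_prime_orderOf_dvd_card' (G := ↥(P : Subgroup G)) 3 (by rw [hPc])
    have hc : Commute u (a : G) :=
      (Subgroup.mem_centralizer_iff.1 (Subgroup.mem_subgroupOf.1 huC) _ a.2).symm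
    apply h6 (u * a)
    rw [hc.orderOf_mul_eq_mul_orderOf_of_coprime (by rw [Subgroup.orderOf_coe, hu, ha]; norm_num),
      Subgroup.orderOf_coe, hu, ha]
  · rw [h1] at hmod; norm_num at hmod
  · exact h1
  · rw [h1] at hmod; norm_num at hmod

/-- A group of order 24 without elements of order 6 is `S₄`. -/
theorem equiv_perm_four_of_order24 (h : Nat.card G = 24) (h6 : ∀ g : G, orderOf g ≠ 6) :
    Nonempty (G ≃* Equiv.Perm (Fin 4)) := by
  classical
  haveI : Fact (Nat.Prime 3) := ⟨Nat.prime_three⟩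
  haveI : Fact (Nat.Prime 2) := ⟨Nat.prime_two⟩
  have h4 : Nat.card (Sylow 3 G) = 4 := card_sylow_three_of_order24 h h6
  have hN : Nat.card G = 3 ^ 1 * 8 := by rw [h]; rfl
  haveI := Fintype.ofFinite (Sylow 3 G)
  have hPc : ∀ P : Sylow 3 G, Nat.card (P : Subgroup G) = 3 := fun P => by
    simpa using card_sylow_eq hN (by norm_num) P
  let f := MulAction.toPermHom G (Sylow 3 G)
  have hf : Function.Injective f := by
    rw [← MonoidHom.ker_eq_bot_iff]
    by_contra hK
    obtain ⟨r, hr, hrd, g, hg, hgo⟩ := exists_prime_order_mem hK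
    have hfix : ∀ Q : Sylow 3 G, g ∈ Subgroup.normalizer ((Q : Subgroup G) : Set G) := fun Q =>
      Sylow.smul_eq_iff_mem_normalizer.1 (Equiv.congr_fun (MonoidHom.mem_ker.1 hg) Q)
    have hr24 : r ∣ 24 := h ▸ hrd.trans (Subgroup.card_subgroup_dvd_card _)
    have hr' : r = 2 ∨ r = 3 := by
      have h24 : r ∣ 2 ^ 3 * 3 := hr24
      rcases hr.dvd_mul.1 h24 with h1 | h1
      · exact Or.inl ((Nat.prime_dvd_prime_iff_eq hr Nat.prime_two).1 (hr.dvd_of_dvd_pow h1))
      · exact Or.inr ((Nat.prime_dvd_prime_iff_eq hr Nat.prime_three).1 h1)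
    haveI : Nontrivial (Sylow 3 G) := Finite.one_lt_card_iff_nontrivial.1 (by omega)
    obtain ⟨Q, R, hQR⟩ := exists_pair_ne (Sylow 3 G)
    rcases hr' with rfl | rfl
    · obtain ⟨a, ha⟩ := exists_prime_orderOf_dvd_card' (G := ↥(Q : Subgroup G)) 3 (by rw [hPc])
      -- `[g, a]` lies in `Q` and in the kernel
      have h1 : g * a * g⁻¹ * (a : G)⁻¹ ∈ (Q : Subgroup G) :=
        mul_mem ((Subgroup.mem_normalizer_iff.1 (hfix Q) a).1 a.2) (inv_mem a.2)
      have h2 : g * a * g⁻¹ * (a : G)⁻¹ ∈ f.ker := by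
        rw [show g * a * g⁻¹ * (a : G)⁻¹ = g * ((a : G) * g⁻¹ * (a : G)⁻¹) by group]
        exact mul_mem hg ((MonoidHom.normal_ker f).conj_mem _ (inv_mem hg) _)
      have h3 : g * a * g⁻¹ * (a : G)⁻¹ = 1 := by
        by_contra hne
        have hgen := eq_zpowers_of_mem_prime (hPc Q) h1 hne
        have hall : ∀ S : Sylow 3 G, (Q : Subgroup G) ≤ (S : Subgroup G) := fun S b hb => by
          have hbN : b ∈ Subgroup.normalizer ((S : Subgroup G) : Set G) :=
            Sylow.smul_eq_iff_mem_normalizer.1 (Equiv.congr_fun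
              (MonoidHom.mem_ker.1 (Subgroup.zpowers_le.2 h2 (hgen.symm ▸ hb))) S)
          exact ((Q.isPGroup'.inf_normalizer_sylow S).le ⟨hb, hbN⟩).2
        exact hQR (Sylow.ext (Subgroup.eq_of_le_of_card_ge (hall R) (by rw [hPc, hPc])))
      have hc : Commute g (a : G) := mul_inv_eq_iff_eq_mul.1 (mul_inv_eq_one.1 h3)
      apply h6 (g * a)
      rw [hc.orderOf_mul_eq_mul_orderOf_of_coprime (by rw [Subgroup.orderOf_coe, hgo, ha]; norm_num),
        Subgroup.orderOf_coe, hgo, ha]
    · have hg1 : g ≠ 1 := fun h1 => by rw [h1, orderOf_one] at hgo; omega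
      have hp : IsPGroup 3 ↥(Subgroup.zpowers g) :=
        IsPGroup.of_card (n := 1) (by rw [Nat.card_zpowers, hgo, pow_one])
      have hall : ∀ S : Sylow 3 G, g ∈ (S : Subgroup G) := fun S =>
        ((hp.inf_normalizer_sylow S).le ⟨Subgroup.mem_zpowers g, hfix S⟩).2
      exact hQR (Sylow.ext ((eq_zpowers_of_mem_prime (hPc Q) (hall Q) hg1).symm.trans
        (eq_zpowers_of_mem_prime (hPc R) (hall R) hg1)))
  let e : Sylow 3 G ≃ Fin 4 := Finite.equivFinOfCardEq h4
  let F : G →* Equiv.Perm (Fin 4) := e.permCongrHom.toMonoidHom.comp f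
  have hF : Function.Injective F := e.permCongrHom.injective.comp hf
  have hb : Function.Bijective F := (Nat.bijective_iff_injective_and_card F).2
    ⟨hF, by rw [h, Nat.card_perm, Nat.card_fin]; rfl⟩
  exact ⟨MulEquiv.ofBijective F hb⟩

end CfsgLib.Small
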