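import Mathlib.GroupTheory.SpecificGroups.Dihedral
import Mathlib.GroupTheory.SpecificGroups.KleinFour
import Mathlib.Tactic
import Cfsg.Agent.Small.Order24
import Cfsg.Agent.Small.KleinSylow
import Cfsg.Agent.Small.ThompsonTransfer
import Cfsg.Agent.Small.ThompsonOrder

/-!
# Simple groups of order 168

Sylow numbers, centralisers, classes.
-/

namespace CfsgLib.Small.Order168

open CfsgLib.Small

variable {G : Type*} [Group G] [Finite G] [IsSimpleGroup G] (h : Nat.card G = 168)

include h

theorem not_comm : ¬ IsMulCommutative G := by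
  intro hc
  have := card_prime_of_simple_comm hc
  rw [h] at this
  norm_num at this

theorem seven_le_index {H : Subgroup G} (hH : H ≠ ⊤) : 7 ≤ H.index := by
  by_contra hlt
  have hd := two_mul_card_dvd_factorial_index (not_comm h) H hH
  rw [h] at hd
  have := hd.trans (Nat.factorial_dvd_factorial (show H.index ≤ 6 by omega))
  norm_num [Nat.factorial] at this

theorem card_le_24 {H : Subgroup G} (hH : H ≠ ⊤) : Nat.card H ≤ 24 := by
  have := seven_le_index h hH
  have hm := Subgroup.card_mul_index H
  rw [h] at hm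
  nlinarith

theorem card_sylow7 [Fact (Nat.Prime 7)] : Nat.card (Sylow 7 G) = 8 := by
  have hmem := card_sylow_mem (not_comm h) (p := 7) (k := 1) (m := 24) (by rw [h]; rfl) one_ne_zero
    (by norm_num)
  rwa [show (Nat.divisors 24).filter (fun d => d % 7 = 1 ∧ d ≠ 1) = {8} by decide,
    Finset.mem_singleton] at hmem

theorem card_P7 [Fact (Nat.Prime 7)] (P : Sylow 7 G) : Nat.card (P : Subgroup G) = 7 := by
  simpa using card_sylow_eq (k := 1) (m := 24) (by rw [h]; rfl) (by norm_num) P

theorem card_P3 [Fact (Nat.Prime 3)] (P : Sylow 3 G) : Nat.card (P : Subgroup G) = 3 := by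
  simpa using card_sylow_eq (k := 1) (m := 56) (by rw [h]; rfl) (by norm_num) P

theorem card_T [Fact (Nat.Prime 2)] (T : Sylow 2 G) : Nat.card (T : Subgroup G) = 8 := by
  simpa using card_sylow_eq (k := 3) (m := 21) (by rw [h]; rfl) (by norm_num) T

theorem card_N7 [Fact (Nat.Prime 7)] (P : Sylow 7 G) :
    Nat.card (Subgroup.normalizer ((P : Subgroup G) : Set G)) = 21 := by
  have h1 := card_sylow_mul_card_normalizer P
  rw [card_sylow7 h, h] at h1
  omega

/-- The centraliser of a Sylow 7-subgroup is that subgroup. -/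
theorem centralizer_P7 [Fact (Nat.Prime 7)] (P : Sylow 7 G) :
    Subgroup.centralizer ((P : Subgroup G) : Set G) = P := by
  have hle : (P : Subgroup G) ≤ Subgroup.centralizer ((P : Subgroup G) : Set G) := by
    haveI : IsCyclic ↥(P : Subgroup G) := isCyclic_of_prime_card (card_P7 h P)
    intro a ha
    exact Subgroup.mem_centralizer_iff.2 fun b hb =>
      congrArg Subtype.val (mul_comm' (⟨b, hb⟩ : ↥(P : Subgroup G)) ⟨a, ha⟩)
  refine (Subgroup.eq_of_le_of_card_ge hle ?_).symm
  rw [card_P7 h]
  have hCN := Subgroup.card_dvd_of_le (Subgroup.centralizer_le_normalizer ((P : Subgroup G) : Set G))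
  rw [card_N7 h] at hCN
  have h7 := Subgroup.card_dvd_of_le hle
  rw [card_P7 h] at h7
  have hne : Nat.card (Subgroup.centralizer ((P : Subgroup G) : Set G)) ≠ 21 := fun he =>
    not_normalizer_le_centralizer (not_comm h) (by rw [h]; norm_num) P
      (Subgroup.eq_of_le_of_card_ge (Subgroup.centralizer_le_normalizer _) (by rw [card_N7 h, he])).ge
  have := Nat.le_of_dvd (by norm_num) hCN
  obtain ⟨c, hc⟩ := h7
  obtain ⟨d, hd⟩ := hCN
  have hc3 : c ≤ 3 := by omega
  rw [hc] at hd hne ⊢
  interval_cases c <;> omega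

theorem card_centralizer_seven {x : G} (hx : orderOf x = 7) :
    Nat.card (Subgroup.centralizer ({x} : Set G)) = 7 := by
  haveI : Fact (Nat.Prime 7) := ⟨by norm_num⟩
  obtain ⟨P, hP⟩ := (IsPGroup.of_card (n := 1) (by rw [Nat.card_zpowers, hx, pow_one]) :
    IsPGroup 7 ↥(Subgroup.zpowers x)).exists_le_sylow
  have hx1 : x ≠ 1 := fun h1 => by rw [h1, orderOf_one] at hx; omega
  have hgen := eq_zpowers_of_mem_prime (card_P7 h P) (hP (Subgroup.mem_zpowers x)) hx1
  rw [← Subgroup.centralizer_closure, ← Subgroup.zpowers_eq_closure, hgen, centralizer_P7 h P,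
    card_P7 h]

omit [Finite G] [IsSimpleGroup G] h in
theorem centralizer_singleton_eq {x : G} :
    Subgroup.centralizer ({x} : Set G) = Subgroup.centralizer (Subgroup.zpowers x : Set G) := by
  rw [Subgroup.zpowers_eq_closure, Subgroup.centralizer_closure]

/-- There are 28 Sylow 3-subgroups. -/
theorem card_sylow3 [Fact (Nat.Prime 3)] : Nat.card (Sylow 3 G) = 28 := by
  classical
  haveI : Fact (Nat.Prime 7) := ⟨by norm_num⟩
  haveI : Fact (Nat.Prime 2) := ⟨Nat.prime_two⟩
  have hmem := card_sylow_mem (not_comm h) (p := 3) (k := 1) (m := 56) (by rw [h]; rfl) one_ne_zero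
    (by norm_num)
  rw [show (Nat.divisors 56).filter (fun d => d % 3 = 1 ∧ d ≠ 1) = {4, 7, 28} by decide] at hmem
  simp only [Finset.mem_insert, Finset.mem_singleton] at hmem
  rcases hmem with h1 | h1 | h1
  · exfalso
    have hd := two_mul_card_dvd_factorial_sylow (not_comm h) (p := 3) (by rw [h]; norm_num)
    rw [h1, h] at hd
    norm_num [Nat.factorial] at hd
  · exfalso
    -- an element `x` of order three normalising a Sylow 7-subgroup
    obtain ⟨P7⟩ : Nonempty (Sylow 7 G) := inferInstance
    obtain ⟨⟨x, hxN⟩, hx⟩ := exists_prime_orderOf_dvd_card'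
      (G := Subgroup.normalizer ((P7 : Subgroup G) : Set G)) 3 (by rw [card_N7 h]; norm_num)
    rw [Subgroup.orderOf_mk] at hx
    have hx1 : x ≠ 1 := fun e => by rw [e, orderOf_one] at hx; omega
    obtain ⟨Q, hQ⟩ := (IsPGroup.of_card (n := 1) (by rw [Nat.card_zpowers, hx, pow_one]) :
      IsPGroup 3 ↥(Subgroup.zpowers x)).exists_le_sylow
    have hgen := eq_zpowers_of_mem_prime (card_P3 h Q) (hQ (Subgroup.mem_zpowers x)) hx1
    have hN24 : Nat.card (Subgroup.normalizer ((Q : Subgroup G) : Set G)) = 24 := by
      have := card_sylow_mul_card_normalizer Q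
      rw [h1, h] at this
      omega
    -- the centraliser of `x` has order at least 12
    set C := Subgroup.centralizer ({x} : Set G) with hC
    have hC12 : 12 ≤ Nat.card C := by
      have hd := relIndex_centralizer_dvd_pred (card_P3 h Q)
      have hm := Subgroup.card_mul_index ((Subgroup.centralizer ((Q : Subgroup G) : Set G)).subgroupOf
        (Subgroup.normalizer ((Q : Subgroup G) : Set G)))
      rw [hN24, Nat.card_congr (Subgroup.subgroupOfEquivOfLe
        (Subgroup.centralizer_le_normalizer _)).toEquiv] at hm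
      change _ * (Subgroup.centralizer ((Q : Subgroup G) : Set G)).relIndex _ = 24 at hm
      have hCQ : C = Subgroup.centralizer ((Q : Subgroup G) : Set G) := by
        rw [hC, centralizer_singleton_eq, hgen]
      rw [hCQ]
      have := Nat.le_of_dvd two_pos hd
      nlinarith
    -- `C(x)` permutes the at most two fixed points of `x` on the Sylow 7-subgroups
    have hxC7 : x ∉ Subgroup.centralizer ((P7 : Subgroup G) : Set G) := by
      rw [centralizer_P7 h]
      intro hm
      have := card_P7 h P7 ▸ Subgroup.orderOf_dvd_natCard _ hm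
      rw [hx] at this
      norm_num at this
    haveI := Fintype.ofFinite (Sylow 7 G)
    have hfix : Nat.card (MulAction.fixedBy (Sylow 7 G) x) ≤ 2 := by
      refine le_trans (card_fixedBy_le_card_orbits (card_P7 h P7) hxN hxC7) ?_
      haveI := Fintype.ofFinite (MulAction.orbitRel.Quotient ↥(P7 : Subgroup G) (Sylow 7 G))
      have hsum := Nat.card_congr (MulAction.selfEquivSigmaOrbits ↥(P7 : Subgroup G) (Sylow 7 G))
      rw [Nat.card_sigma, card_sylow7 h, ← Finset.add_sum_erase _ _ (Finset.mem_univ
        (Quotient.mk'' P7 : MulAction.orbitRel.Quotient ↥(P7 : Subgroup G) (Sylow 7 G)))] at hsum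
      have hbig : ∀ q ∈ Finset.univ.erase
          (Quotient.mk'' P7 : MulAction.orbitRel.Quotient ↥(P7 : Subgroup G) (Sylow 7 G)),
          7 ≤ Nat.card (MulAction.orbit ↥(P7 : Subgroup G) (Quotient.out q)) := by
        intro q hq
        rw [Nat.card_coe_set_eq, ← MulAction.index_stabilizer]
        have hd : (MulAction.stabilizer ↥(P7 : Subgroup G) (Quotient.out q)).index ∣ 7 :=
          (Subgroup.index_dvd_card _).trans (dvd_of_eq (card_P7 h P7))
        rcases (Nat.dvd_prime (Fact.out : Nat.Prime 7)).1 hd with h' | h'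
        · exfalso
          have hin := P7.isPGroup'.inf_normalizer_sylow (Quotient.out q)
          have hle : (P7 : Subgroup G) ≤ (Quotient.out q : Sylow 7 G) := fun a ha => by
            have hs : (⟨a, ha⟩ : ↥(P7 : Subgroup G)) ∈
                MulAction.stabilizer ↥(P7 : Subgroup G) (Quotient.out q) :=
              (Subgroup.index_eq_one.1 h').symm ▸ Subgroup.mem_top _
            exact (hin.le ⟨ha, Sylow.smul_eq_iff_mem_normalizer.1 hs⟩).2
          have hqP : Quotient.out q = P7 :=
            (Sylow.ext (Subgroup.eq_of_le_of_card_ge hle (by rw [card_P7 h, card_P7 h]))).symm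
          exact Finset.ne_of_mem_erase hq (by rw [← Quotient.out_eq' q, hqP])
        · omega
      have h2 := Finset.card_nsmul_le_sum _ _ 7 hbig
      rw [Finset.card_erase_of_mem (Finset.mem_univ _), Finset.card_univ,
        ← Nat.card_eq_fintype_card, smul_eq_mul] at h2
      change (Nat.card (MulAction.orbitRel.Quotient ↥(P7 : Subgroup G) (Sylow 7 G)) - 1) * 7 ≤ _ at h2
      haveI : Nonempty (MulAction.orbit ↥(P7 : Subgroup G) (Quotient.out
          (Quotient.mk'' P7 : MulAction.orbitRel.Quotient ↥(P7 : Subgroup G) (Sylow 7 G)))) :=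
        ⟨⟨_, MulAction.mem_orbit_self _⟩⟩
      have hpos := Nat.card_pos (α := MulAction.orbit ↥(P7 : Subgroup G) (Quotient.out
          (Quotient.mk'' P7 : MulAction.orbitRel.Quotient ↥(P7 : Subgroup G) (Sylow 7 G))))
      omega
    have hPfix : x • P7 = P7 := Sylow.smul_eq_iff_mem_normalizer.2 hxN
    have horb : Nat.card (MulAction.orbit C P7) ≤ 2 := by
      refine le_trans (Nat.card_le_card_of_injective
        (fun q => (⟨q.1, ?_⟩ : MulAction.fixedBy (Sylow 7 G) x))
        fun a b hab => Subtype.ext (congrArg Subtype.val hab :)) hfix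
      obtain ⟨⟨c, hc⟩, hq⟩ := q.2
      show x • q.1 = q.1
      have hq' : q.1 = c • P7 := hq.symm
      rw [hq', smul_smul, ← Subgroup.mem_centralizer_singleton_iff.1 hc, mul_smul, hPfix]
    -- stabiliser inside `N(P₇)` has order 3
    have hstab : Nat.card (MulAction.stabilizer C P7) ≤ 3 := by
      have hinj : Nat.card (MulAction.stabilizer C P7) =
          Nat.card ↥((MulAction.stabilizer C P7).map C.subtype) :=
        Nat.card_congr ((MulAction.stabilizer C P7).equivMapOfInjective _ C.subtype_injective).toEquiv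
      set S := (MulAction.stabilizer C P7).map C.subtype with hS
      have hSN : S ≤ Subgroup.normalizer ((P7 : Subgroup G) : Set G) := by
        rintro _ ⟨c, hc, rfl⟩
        exact Sylow.smul_eq_iff_mem_normalizer.1 hc
      have hd := Subgroup.card_dvd_of_le hSN
      rw [card_N7 h] at hd
      have h7 : ¬ 7 ∣ Nat.card S := by
        intro h7
        obtain ⟨⟨a, ha⟩, hao⟩ := exists_prime_orderOf_dvd_card' (G := S) 7 h7
        rw [Subgroup.orderOf_mk] at hao
        obtain ⟨c, -, rfl⟩ := ha
        have hxa : x ∈ Subgroup.centralizer ({(c : G)} : Set G) :=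
          Subgroup.mem_centralizer_singleton_iff.2 (Subgroup.mem_centralizer_singleton_iff.1 c.2).symm
        have h37 := Subgroup.orderOf_dvd_natCard _ hxa
        have hao' : orderOf (c : G) = 7 := hao
        rw [hx, card_centralizer_seven h hao'] at h37
        norm_num at h37
      rw [hinj]
      have hle := Nat.le_of_dvd (by norm_num) hd
      obtain ⟨d, hd⟩ := hd
      by_contra hlt
      push Not at hlt
      interval_cases hh : Nat.card S <;> omega
    have hos := Nat.card_congr (MulAction.orbitProdStabilizerEquivGroup C P7)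
    rw [Nat.card_prod] at hos
    nlinarith
  · exact h1

theorem card_N3 [Fact (Nat.Prime 3)] (P : Sylow 3 G) :
    Nat.card (Subgroup.normalizer ((P : Subgroup G) : Set G)) = 6 := by
  have h1 := card_sylow_mul_card_normalizer P
  rw [card_sylow3 h, h] at h1
  omega

theorem centralizer_P3 [Fact (Nat.Prime 3)] (P : Sylow 3 G) :
    Subgroup.centralizer ((P : Subgroup G) : Set G) = P := by
  have hle : (P : Subgroup G) ≤ Subgroup.centralizer ((P : Subgroup G) : Set G) := by
    haveI : IsCyclic ↥(P : Subgroup G) := isCyclic_of_prime_card (card_P3 h P)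
    intro a ha
    exact Subgroup.mem_centralizer_iff.2 fun b hb =>
      congrArg Subtype.val (mul_comm' (⟨b, hb⟩ : ↥(P : Subgroup G)) ⟨a, ha⟩)
  refine (Subgroup.eq_of_le_of_card_ge hle ?_).symm
  rw [card_P3 h]
  have hCN := Subgroup.card_dvd_of_le (Subgroup.centralizer_le_normalizer ((P : Subgroup G) : Set G))
  rw [card_N3 h] at hCN
  have h3 := Subgroup.card_dvd_of_le hle
  rw [card_P3 h] at h3
  have hne : Nat.card (Subgroup.centralizer ((P : Subgroup G) : Set G)) ≠ 6 := fun he =>
    not_normalizer_le_centralizer (not_comm h) (by rw [h]; norm_num) P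
      (Subgroup.eq_of_le_of_card_ge (Subgroup.centralizer_le_normalizer _) (by rw [card_N3 h, he])).ge
  have := Nat.le_of_dvd (by norm_num) hCN
  obtain ⟨c, hc⟩ := h3
  omega

theorem card_centralizer_three {x : G} (hx : orderOf x = 3) :
    Nat.card (Subgroup.centralizer ({x} : Set G)) = 3 := by
  haveI : Fact (Nat.Prime 3) := ⟨Nat.prime_three⟩
  obtain ⟨P, hP⟩ := (IsPGroup.of_card (n := 1) (by rw [Nat.card_zpowers, hx, pow_one]) :
    IsPGroup 3 ↥(Subgroup.zpowers x)).exists_le_sylow
  have hx1 : x ≠ 1 := fun h1 => by rw [h1, orderOf_one] at hx; omega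
  have hgen := eq_zpowers_of_mem_prime (card_P3 h P) (hP (Subgroup.mem_zpowers x)) hx1
  rw [centralizer_singleton_eq, hgen, centralizer_P3 h P, card_P3 h]

/-- Elements of order 3 and 7 generate their centralisers: no orders `6`, `14`, `21`. -/
theorem orderOf_ne {g : G} {r s : ℕ} (hr : r = 3 ∨ r = 7) (hs : 1 < s) : orderOf g ≠ r * s := by
  intro hg
  have hgr : orderOf (g ^ s) = r := by
    rw [orderOf_pow' g (by omega), hg, Nat.gcd_eq_right (dvd_mul_left s r),
      Nat.mul_div_cancel _ (by omega)]
  have hmem : g ∈ Subgroup.centralizer ({g ^ s} : Set G) :=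
    Subgroup.mem_centralizer_singleton_iff.2 ((Commute.refl g).pow_right s).eq
  have hd := Subgroup.orderOf_dvd_natCard _ hmem
  have hc : Nat.card (Subgroup.centralizer ({g ^ s} : Set G)) = r := by
    rcases hr with rfl | rfl
    · exact card_centralizer_three h hgr
    · exact card_centralizer_seven h hgr
  rw [hc, hg] at hd
  have hle := Nat.le_of_dvd (by rcases hr with rfl | rfl <;> norm_num) hd
  rcases hr with rfl | rfl <;> omega

theorem orderOf_ne_six (g : G) : orderOf g ≠ 6 := orderOf_ne h (r := 3) (s := 2) (Or.inl rfl) (by norm_num)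

/-- There are 21 Sylow 2-subgroups. -/
theorem card_sylow2 [Fact (Nat.Prime 2)] : Nat.card (Sylow 2 G) = 21 := by
  haveI : Fact (Nat.Prime 3) := ⟨Nat.prime_three⟩
  have hmem := card_sylow_mem (not_comm h) (p := 2) (k := 3) (m := 21) (by rw [h]; rfl) (by norm_num)
    (by norm_num)
  rw [show (Nat.divisors 21).filter (fun d => d % 2 = 1 ∧ d ≠ 1) = {3, 7, 21} by decide] at hmem
  simp only [Finset.mem_insert, Finset.mem_singleton] at hmem
  rcases hmem with h1 | h1 | h1
  · exfalso
    have hd := two_mul_card_dvd_factorial_sylow (not_comm h) (p := 2) (by rw [h]; norm_num)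
    rw [h1, h] at hd
    norm_num [Nat.factorial] at hd
  · exfalso
    obtain ⟨T⟩ : Nonempty (Sylow 2 G) := inferInstance
    set N := Subgroup.normalizer ((T : Subgroup G) : Set G)
    have hN : Nat.card N = 24 := by
      have h2 : Nat.card (Sylow 2 G) * Nat.card N = Nat.card G := card_sylow_mul_card_normalizer T
      rw [h1, h] at h2
      omega
    have h6 : ∀ g : N, orderOf g ≠ 6 := fun g => by
      rw [← Subgroup.orderOf_coe]; exact orderOf_ne_six h _
    obtain ⟨e⟩ := equiv_perm_four_of_order24 hN h6
    haveI hn : ((T : Subgroup G).subgroupOf N).Normal := Subgroup.normal_in_normalizer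
    let K : Subgroup (Equiv.Perm (Fin 4)) := ((T : Subgroup G).subgroupOf N).map e.toMonoidHom
    haveI hK : K.Normal := hn.map _ e.surjective
    have hKc : Nat.card K = 8 := by
      rw [← Nat.card_congr (((T : Subgroup G).subgroupOf N).equivMapOfInjective _ e.injective).toEquiv,
        Nat.card_congr (Subgroup.subgroupOfEquivOfLe Subgroup.le_normalizer).toEquiv]
      exact card_T h T
    -- every element of 2-power order lies in the normal subgroup `K`, but transpositions generate
    have hswap : ∀ σ : Equiv.Perm (Fin 4), σ.IsSwap → σ ∈ K := by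
      intro σ hσ
      have ho : orderOf σ = 2 := hσ.orderOf
      have hp : IsPGroup 2 ↥(Subgroup.zpowers σ) :=
        IsPGroup.of_card (n := 1) (by rw [Nat.card_zpowers, ho, pow_one])
      have hKp : IsPGroup 2 K := IsPGroup.of_card (n := 3) (by rw [hKc]; rfl)
      have hsup := hKp.to_sup_of_normal_left hp
      obtain ⟨k, hk⟩ := IsPGroup.iff_card.1 hsup
      have hd := Subgroup.card_subgroup_dvd_card (K ⊔ Subgroup.zpowers σ)
      rw [hk, Nat.card_perm, Nat.card_fin] at hd
      have hk3 : k ≤ 3 := by
        by_contra h4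
        have h16 : 2 ^ 4 ∣ Nat.factorial 4 := (pow_dvd_pow 2 (show 4 ≤ k by omega)).trans hd
        norm_num [Nat.factorial] at h16
      have heq := Subgroup.eq_of_le_of_card_ge (le_sup_left : K ≤ K ⊔ Subgroup.zpowers σ)
        (by rw [hk, hKc]; exact le_trans (Nat.pow_le_pow_right two_pos hk3) le_rfl)
      exact heq.ge (Subgroup.mem_sup_right (Subgroup.mem_zpowers σ))
    have htop : K = ⊤ := top_le_iff.1 (by
      rw [← Equiv.Perm.closure_isSwap]
      exact (Subgroup.closure_le _).2 hswap)
    rw [htop, Subgroup.card_top, Nat.card_perm, Nat.card_fin] at hKc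
    norm_num [Nat.factorial] at hKc
  · exact h1

theorem normalizer_T [Fact (Nat.Prime 2)] (T : Sylow 2 G) :
    Subgroup.normalizer ((T : Subgroup G) : Set G) = T := by
  refine (Subgroup.eq_of_le_of_card_ge Subgroup.le_normalizer ?_).symm
  rw [card_T h]
  have h1 := card_sylow_mul_card_normalizer T
  rw [card_sylow2 h, h] at h1
  omega

theorem not_comm_T [Fact (Nat.Prime 2)] (T : Sylow 2 G) :
    ¬ IsMulCommutative ↥(T : Subgroup G) := by
  intro hc
  refine not_normalizer_le_centralizer (not_comm h) (by rw [h]; norm_num) T ?_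
  rw [normalizer_T h T]
  intro a ha
  exact Subgroup.mem_centralizer_iff.2 fun b hb =>
    congrArg Subtype.val (hc.is_comm.comm (⟨b, hb⟩ : ↥(T : Subgroup G)) ⟨a, ha⟩)

/-- Element orders. -/
theorem orderOf_mem (g : G) :
    orderOf g = 1 ∨ orderOf g = 2 ∨ orderOf g = 3 ∨ orderOf g = 4 ∨ orderOf g = 7 := by
  haveI : Fact (Nat.Prime 2) := ⟨Nat.prime_two⟩
  have hd : orderOf g ∈ Nat.divisors 168 :=
    Nat.mem_divisors.2 ⟨h ▸ orderOf_dvd_natCard g, by norm_num⟩
  rw [show Nat.divisors 168
    = {1, 2, 3, 4, 6, 7, 8, 12, 14, 21, 24, 28, 42, 56, 84, 168} by decide] at hd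
  simp only [Finset.mem_insert, Finset.mem_singleton] at hd
  have hne := fun r s hr hs => orderOf_ne h (g := g) (r := r) (s := s) hr hs
  rcases hd with e | e | e | e | e | e | e | e | e | e | e | e | e | e | e | e
  · exact Or.inl e
  · exact Or.inr (Or.inl e)
  · exact Or.inr (Or.inr (Or.inl e))
  · exact Or.inr (Or.inr (Or.inr (Or.inl e)))
  · exact absurd e (hne 3 2 (Or.inl rfl) (by norm_num))
  · exact Or.inr (Or.inr (Or.inr (Or.inr e)))
  · exfalso
    obtain ⟨T, hT⟩ := (IsPGroup.of_card (n := 3) (by rw [Nat.card_zpowers, e]; rfl) :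
      IsPGroup 2 ↥(Subgroup.zpowers g)).exists_le_sylow
    haveI : IsCyclic ↥(T : Subgroup G) := by
      rw [← Subgroup.eq_of_le_of_card_ge hT (by rw [card_T h, Nat.card_zpowers, e])]
      infer_instance
    exact not_comm_T h T inferInstance
  · exact absurd e (hne 3 4 (Or.inl rfl) (by norm_num))
  · exact absurd e (hne 7 2 (Or.inr rfl) (by norm_num))
  · exact absurd e (hne 7 3 (Or.inr rfl) (by norm_num))
  · exact absurd e (hne 3 8 (Or.inl rfl) (by norm_num))
  · exact absurd e (hne 7 4 (Or.inr rfl) (by norm_num))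
  · exact absurd e (hne 7 6 (Or.inr rfl) (by norm_num))
  · exact absurd e (hne 7 8 (Or.inr rfl) (by norm_num))
  · exact absurd e (hne 7 12 (Or.inr rfl) (by norm_num))
  · exact absurd e (hne 7 24 (Or.inr rfl) (by norm_num))

/-- A subgroup whose order is a multiple of 8 and which centralises an involution is a Sylow
subgroup. -/
theorem centralizer_eq_of_sylow_le [Fact (Nat.Prime 2)] (T : Sylow 2 G) {z : G}
    (hz : orderOf z = 2) (hT : (T : Subgroup G) ≤ Subgroup.centralizer ({z} : Set G)) :
    Subgroup.centralizer ({z} : Set G) = T := by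
  refine (Subgroup.eq_of_le_of_card_ge hT ?_).symm
  rw [card_T h]
  set C := Subgroup.centralizer ({z} : Set G)
  have hodd : ∀ r, r = 3 ∨ r = 7 → ¬ r ∣ Nat.card C := by
    intro r hr hd
    haveI : Fact r.Prime := ⟨by rcases hr with rfl | rfl <;> norm_num⟩
    obtain ⟨⟨a, ha⟩, hao⟩ := exists_prime_orderOf_dvd_card' (G := C) r hd
    rw [Subgroup.orderOf_mk] at hao
    have hc : Commute a z := Subgroup.mem_centralizer_singleton_iff.1 ha
    refine orderOf_ne h (g := a * z) hr one_lt_two ?_
    rw [hc.orderOf_mul_eq_mul_orderOf_of_coprime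
      (by rw [hao, hz]; rcases hr with rfl | rfl <;> norm_num), hao, hz]
  have hd : Nat.card C ∣ 168 := h ▸ Subgroup.card_subgroup_dvd_card C
  have hcop : Nat.Coprime (Nat.card C) 21 := by
    rw [show 21 = 3 * 7 by rfl]
    exact Nat.Coprime.mul_right
      ((Nat.prime_three.coprime_iff_not_dvd.2 (hodd 3 (Or.inl rfl))).symm)
      (((show Nat.Prime 7 by norm_num).coprime_iff_not_dvd.2 (hodd 7 (Or.inr rfl))).symm)
  exact Nat.le_of_dvd (by norm_num) (hcop.dvd_of_dvd_mul_right (show Nat.card C ∣ 8 * 21 from hd))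

omit h in
/-- The only involution in a cyclic group of order four. -/
theorem invol_zpowers_four {y a : G} (hy : orderOf y = 4) (ha : a ∈ Subgroup.zpowers y)
    (hao : orderOf a = 2) : a = y ^ 2 := by
  rw [invol_mem_zpowers_eq hao ha, hy]

/-- An involution has centraliser of order 8 and every two involutions are conjugate;
a Sylow 2-subgroup is dihedral. -/
theorem exists_dihedral_gens [Fact (Nat.Prime 2)] (T : Sylow 2 G) :
    ∃ y t : G, y ∈ (T : Subgroup G) ∧ t ∈ (T : Subgroup G) ∧ orderOf y = 4 ∧ orderOf t = 2 ∧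
      t ∉ Subgroup.zpowers y ∧ t * y * t⁻¹ = y⁻¹ := by
  classical
  haveI := Fintype.ofFinite G
  set S := (T : Subgroup G)
  -- an element of order four
  obtain ⟨y, hyS, hy⟩ : ∃ y ∈ S, orderOf y = 4 := by
    by_contra hcon
    push Not at hcon
    have hsq : ∀ a ∈ S, a * a = 1 := by
      intro a ha
      have hd : orderOf a ∣ 8 := card_T h T ▸ Subgroup.orderOf_dvd_natCard S ha
      have hne := hcon a ha
      rcases orderOf_mem h a with e | e | e | e | e
      · rw [orderOf_eq_one_iff.1 e, one_mul]
      · exact mul_self_of_orderOf_two e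
      · rw [e] at hd; norm_num at hd
      · exact absurd e hne
      · rw [e] at hd; norm_num at hd
    refine not_comm_T h T ⟨⟨fun a b => ?_⟩⟩
    have ha := inv_eq_of_mul_eq_one_right (hsq a a.2)
    have hb := inv_eq_of_mul_eq_one_right (hsq b b.2)
    have hab := inv_eq_of_mul_eq_one_right (hsq _ (mul_mem a.2 b.2))
    rw [mul_inv_rev, ha, hb] at hab
    exact Subtype.ext hab.symm
  have hzy : orderOf (y ^ 2) = 2 := by rw [orderOf_pow' y two_ne_zero, hy]; rfl
  have hYS : Subgroup.zpowers y ≤ S := Subgroup.zpowers_le.2 hyS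
  have hidx : (Subgroup.zpowers y).relIndex S = 2 := by
    show ((Subgroup.zpowers y).subgroupOf S).index = 2
    have hm := Subgroup.card_mul_index ((Subgroup.zpowers y).subgroupOf S)
    rw [Nat.card_congr (Subgroup.subgroupOfEquivOfLe hYS).toEquiv, Nat.card_zpowers, hy,
      card_T h T] at hm
    omega
  -- every involution is conjugate to `y ^ 2`
  have hconj : ∀ u : G, orderOf u = 2 → IsConj u (y ^ 2) := by
    intro u hu
    obtain ⟨g, hg⟩ := thompson_transfer_sylow (fun H hH => by
      have hH' : H ≠ ⊤ := fun e => by rw [e, Subgroup.index_top] at hH; omega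
      have := seven_le_index h hH'
      omega) T (Subgroup.zpowers y) hYS hidx hu
    have ho : orderOf (g⁻¹ * u * g) = 2 := by
      have := orderOf_conj_eq g⁻¹ u
      rw [inv_inv, hu] at this
      exact this
    refine isConj_iff.2 ⟨g⁻¹, ?_⟩
    rw [inv_inv]
    exact invol_zpowers_four hy hg ho
  -- an involution of `S` outside `⟨y⟩`, by counting elements
  obtain ⟨t, htS, ht, hty⟩ : ∃ t ∈ S, orderOf t = 2 ∧ t ∉ Subgroup.zpowers y := by
    by_contra hcon
    push Not at hcon
    -- then `S` has six elements of order four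
    have hsix : 6 ≤ Nat.card {a : G // a ∈ S ∧ orderOf a = 4} := by
      have hone : ∀ a ∈ S, orderOf a = 2 → a = y ^ 2 := fun a ha hao =>
        invol_zpowers_four hy (hcon a ha hao) hao
      have hsub : Nat.card S ≤ Nat.card ({a : G // a ∈ S ∧ orderOf a = 4} ⊕ ({1, y ^ 2} : Set G)) := by
        let f : S → {a : G // a ∈ S ∧ orderOf a = 4} ⊕ ({1, y ^ 2} : Set G) := fun a =>
          if h4 : orderOf (a : G) = 4 then Sum.inl ⟨a, a.2, h4⟩ else Sum.inr ⟨a, by
            have hd : orderOf (a : G) ∣ 8 := card_T h T ▸ Subgroup.orderOf_dvd_natCard S a.2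
            rcases orderOf_mem h (a : G) with e | e | e | e | e
            · exact Or.inl (orderOf_eq_one_iff.1 e)
            · exact Or.inr (hone a a.2 e)
            · rw [e] at hd; norm_num at hd
            · exact absurd e h4
            · rw [e] at hd; norm_num at hd⟩
        refine Nat.card_le_card_of_injective f fun a b hab => ?_
        apply Subtype.ext
        have hfa : ∀ c : S, Sum.elim (fun d => (d.1 : G)) (fun d => (d.1 : G)) (f c) = c := by
          intro c
          by_cases hc : orderOf (c : G) = 4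
          · simp only [f, dif_pos hc, Sum.elim_inl]
          · simp only [f, dif_neg hc, Sum.elim_inr]
        rw [← hfa a, hab, hfa b]
      rw [Nat.card_sum, card_T h T, Nat.card_coe_set_eq,
        Set.ncard_pair (ne_one_of_orderOf_two hzy).symm] at hsub
      omega
    -- `S = C(y²)`, and the 21 conjugates of `y²` each take six elements of order four
    have hSC : Subgroup.centralizer ({y ^ 2} : Set G) = S := by
      refine centralizer_eq_of_sylow_le h T hzy fun a ha => Subgroup.mem_centralizer_singleton_iff.2 ?_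
      have ho : orderOf (a * y ^ 2 * a⁻¹) = 2 := by rw [orderOf_conj_eq, hzy]
      exact mul_inv_eq_iff_eq_mul.1
        (invol_zpowers_four hy (hcon _ (mul_mem (mul_mem ha (pow_mem hyS 2)) (inv_mem ha)) ho) ho)
    have hclass : Nat.card {g : G // IsConj (y ^ 2) g} * 8 = 168 := by
      have := card_conjugates_mul_card_centralizer (G := G) (y ^ 2)
      rwa [hSC, card_T h T, h] at this
    -- injection of (conjugates of `y²`) × six elements into the elements of order four
    have hbig : Nat.card {g : G // IsConj (y ^ 2) g} * Nat.card {a : G // a ∈ S ∧ orderOf a = 4}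
        ≤ Nat.card {g : G // orderOf g = 4} := by
      rw [← Nat.card_prod]
      have hex : ∀ u : {g : G // IsConj (y ^ 2) g}, ∃ c : G, c * y ^ 2 * c⁻¹ = u.1 := fun u =>
        isConj_iff.1 u.2
      choose c hc using hex
      refine Nat.card_le_card_of_injective
        (fun q => (⟨c q.1 * q.2.1 * (c q.1)⁻¹, by rw [orderOf_conj_eq, q.2.2.2]⟩ :
          {g : G // orderOf g = 4})) ?_
      rintro ⟨u, a⟩ ⟨u', a'⟩ he
      have he' : c u * a.1 * (c u)⁻¹ = c u' * a'.1 * (c u')⁻¹ := congrArg Subtype.val he
      have hsq : ∀ b : {a : G // a ∈ S ∧ orderOf a = 4}, b.1 ^ 2 = y ^ 2 := by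
        intro b
        have hb2 : orderOf (b.1 ^ 2) = 2 := by rw [orderOf_pow' _ two_ne_zero, b.2.2]; rfl
        exact invol_zpowers_four hy (hcon _ (pow_mem b.2.1 2) hb2) hb2
      have hu : u = u' := by
        apply Subtype.ext
        rw [← hc u, ← hc u']
        have := congrArg (· ^ 2) he'
        simp only [conj_pow, hsq] at this
        exact this
      subst hu
      exact Prod.ext rfl (Subtype.ext (mul_left_cancel (mul_right_cancel he')))
    have hsub : Nat.card {g : G // orderOf g = 4} ≤ Nat.card G :=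
      Nat.card_le_card_of_injective Subtype.val Subtype.val_injective
    have h126 : 126 ≤ Nat.card {g : G // orderOf g = 4} := by
      refine le_trans ?_ hbig
      have h21 : Nat.card {g : G // IsConj (y ^ 2) g} = 21 := by omega
      rw [h21]
      omega
    -- but elements of order 3 and 7 take 104
    haveI : Fact (Nat.Prime 3) := ⟨Nat.prime_three⟩
    haveI : Fact (Nat.Prime 7) := ⟨by norm_num⟩
    have e3 := card_orderOf_eq_prime (p := 3) (card_P3 h)
    have e7 := card_orderOf_eq_prime (p := 7) (card_P7 h)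
    rw [card_sylow3 h] at e3
    rw [card_sylow7 h] at e7
    have hall : Nat.card (({g : G // orderOf g = 3} ⊕ {g : G // orderOf g = 7}) ⊕ {g : G // orderOf g = 4})
        ≤ Nat.card G := by
      refine Nat.card_le_card_of_injective (Sum.elim (Sum.elim Subtype.val Subtype.val) Subtype.val) ?_
      refine Function.Injective.sumElim (Function.Injective.sumElim Subtype.val_injective
        Subtype.val_injective fun a b he => ?_) Subtype.val_injective ?_
      · have := a.2; rw [he, b.2] at this; omega
      · rintro (a | a) b he <;>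
        · simp only [Sum.elim_inl, Sum.elim_inr] at he
          have := a.2; rw [he, b.2] at this; omega
    rw [Nat.card_sum, Nat.card_sum, e3, e7, h] at hall
    omega
  refine ⟨y, t, hyS, htS, hy, ht, hty, ?_⟩
  -- conjugation by `t` inverts `y`
  haveI hn : ((Subgroup.zpowers y).subgroupOf S).Normal := Subgroup.normal_of_index_eq_two hidx
  have hmem : t * y * t⁻¹ ∈ Subgroup.zpowers y :=
    Subgroup.mem_subgroupOf.1 (hn.conj_mem ⟨y, hyS⟩ (Subgroup.mem_zpowers y) ⟨t, htS⟩)
  obtain ⟨k, hk : y ^ k = t * y * t⁻¹⟩ := hmem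
  have ho : orderOf (y ^ k) = 4 := by rw [hk, orderOf_conj_eq, hy]
  have hkodd : Odd k := by
    by_contra he
    obtain ⟨m, rfl⟩ := Int.not_odd_iff_even.1 he
    have h1 : (y ^ (m + m)) ^ 2 = 1 := by
      rw [sq, ← zpow_add, ← zpow_zero y, zpow_eq_zpow_iff_modEq, hy, Int.modEq_zero_iff_dvd]
      exact ⟨m, by push_cast; ring⟩
    have := Nat.le_of_dvd two_pos (orderOf_dvd_of_pow_eq_one h1)
    omega
  obtain ⟨m, rfl⟩ := hkodd
  rcases Int.even_or_odd m with ⟨d, rfl⟩ | ⟨d, rfl⟩
  · exfalso
    -- `t` would centralise `y`, making `S` abelian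
    have hty' : t * y * t⁻¹ = y := by
      rw [← hk, show (2 : ℤ) * (d + d) + 1 = ((4 : ℕ) : ℤ) * d + 1 by push_cast; ring, zpow_add,
        zpow_mul, zpow_natCast, ← hy, pow_orderOf_eq_one, one_zpow, one_mul, zpow_one]
    have hc : Commute t y := mul_inv_eq_iff_eq_mul.1 hty'
    have hgen : S = Subgroup.closure {t, y} := by
      refine (Subgroup.eq_of_le_of_card_ge ((Subgroup.closure_le _).2 (by
        rintro a (rfl | rfl)
        · exact htS
        · exact hyS)) ?_).symm
      have hle : Subgroup.zpowers y < Subgroup.closure {t, y} :=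
        lt_of_le_of_ne (Subgroup.zpowers_le.2 (Subgroup.subset_closure (by simp)))
          fun he => hty (he ▸ Subgroup.subset_closure (by simp))
      have h4 := Nat.card_zpowers y
      rw [hy] at h4
      have hlt : 4 < Nat.card (Subgroup.closure ({t, y} : Set G)) :=
        h4 ▸ lt_of_le_of_ne (Subgroup.card_le_of_le hle.le)
          fun he => hle.ne (Subgroup.eq_of_le_of_card_ge hle.le he.ge)
      have hd : Nat.card (Subgroup.closure ({t, y} : Set G)) ∣ 8 :=
        (Subgroup.card_dvd_of_le ((Subgroup.closure_le _).2 (by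
          rintro a (rfl | rfl)
          · exact htS
          · exact hyS))).trans (dvd_of_eq (card_T h T))
      rw [card_T h T]
      obtain ⟨e, he⟩ := hd
      have : e = 1 := by
        rcases e with _ | _ | e
        · omega
        · rfl
        · nlinarith
      subst this
      omega
    refine not_comm_T h T ⟨⟨fun a b => Subtype.ext ?_⟩⟩
    have hcomm : ∀ p ∈ ({t, y} : Set G), ∀ q ∈ ({t, y} : Set G), p * q = q * p := by
      rintro p (rfl | rfl) q (rfl | rfl)
      · rfl
      · exact hc.eq
      · exact hc.eq.symm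
      · rfl
    haveI := Subgroup.isMulCommutative_closure hcomm
    exact (congrArg Subtype.val (mul_comm' (⟨a.1, hgen.le a.2⟩ : Subgroup.closure ({t, y} : Set G))
      ⟨b.1, hgen.le b.2⟩) :)
  · rw [← hk, show (2 : ℤ) * (2 * d + 1) + 1 = ((4 : ℕ) : ℤ) * (d + 1) + (-1) by push_cast; ring,
      zpow_add, zpow_mul, zpow_natCast, ← hy, pow_orderOf_eq_one, one_zpow, one_mul, zpow_neg_one]

end CfsgLib.Small.Order168
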