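import Mathlib.Analysis.SpecialFunctions.Complex.CircleAddChar
import Cfsg.Agent.Characters.Generalized
import Cfsg.Agent.Characters.Induction
import Cfsg.Agent.Characters.Integrality
import Cfsg.Agent.Characters.Linear
import Cfsg.Agent.Small.ExceptionalGram
import Cfsg.Agent.Small.SimpleTools

/-!
# The degree equation for a self-centralising Sylow subgroup of prime order
-/

namespace CfsgLib.Small.Degree

open CfsgLib.Characters
open scoped ComplexConjugate

universe u

variable {G : Type u} [Group G] [Finite G] {p : ℕ} [Fact p.Prime]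

/-- Coordinates on a subgroup of order `p`. -/
noncomputable def coord {P : Subgroup G} (hP : Nat.card P = p) : Multiplicative (ZMod p) ≃* P :=
  mulEquivOfPrimeCardEq (p := p) (by rw [Nat.card_congr Multiplicative.toAdd, Nat.card_zmod]) hP

/-- The element with coordinate `m`. -/
noncomputable def pt {P : Subgroup G} (hP : Nat.card P = p) (m : ZMod p) : G :=
  (coord hP (Multiplicative.ofAdd m) : G)

section
variable {P : Subgroup G} (hP : Nat.card P = p)

theorem pt_mem (m : ZMod p) : pt hP m ∈ P := (coord hP _).2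

theorem pt_zero : pt hP (0 : ZMod p) = 1 := by simp [pt]

theorem pt_add (m n : ZMod p) : pt hP (m + n) = pt hP m * pt hP n := by simp [pt]

theorem pt_injective : Function.Injective (pt hP) := fun m n h =>
  Multiplicative.ofAdd.injective ((coord hP).injective (Subtype.ext h))

theorem pt_ne_one {m : ZMod p} (hm : m ≠ 0) : pt hP m ≠ 1 := fun h =>
  hm (pt_injective hP (h.trans (pt_zero hP).symm))

/-- The coordinate of an element of `P`. -/
noncomputable def crd {g : G} (hg : g ∈ P) : ZMod p := Multiplicative.toAdd ((coord hP).symm ⟨g, hg⟩)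

theorem pt_crd {g : G} (hg : g ∈ P) : pt hP (crd hP hg) = g := by simp [pt, crd]

theorem pt_eq_pow (m : ZMod p) : pt hP m = pt hP 1 ^ m.val := by
  conv_lhs => rw [← ZMod.natCast_zmod_val m]
  induction m.val with
  | zero => simp [pt_zero]
  | succ n ih => rw [Nat.cast_succ, pt_add, ih, pow_succ]

/-- How `n ∈ N(P)` scales coordinates. -/
noncomputable def scale (n : Subgroup.normalizer (P : Set G)) : ZMod p :=
  crd hP ((Subgroup.mem_normalizer_iff.1 n.2 _).1 (pt_mem hP 1))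

theorem conj_pt (n : Subgroup.normalizer (P : Set G)) (m : ZMod p) :
    (n : G) * pt hP m * (n : G)⁻¹ = pt hP (scale hP n * m) := by
  have h1 : (n : G) * pt hP 1 * (n : G)⁻¹ = pt hP (scale hP n) := (pt_crd hP _).symm
  rw [pt_eq_pow hP m, ← conj_pow, h1]
  conv_rhs => rw [← ZMod.natCast_zmod_val m]
  induction m.val with
  | zero => simp [pt_zero]
  | succ k ih => rw [pow_succ, ih, ← pt_add, Nat.cast_succ, mul_add, mul_one]

/-- The action of `N(P)` on `P` as units of `ZMod p`. -/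
noncomputable def scaleHom : Subgroup.normalizer (P : Set G) →* (ZMod p)ˣ :=
  MonoidHom.toHomUnits
    { toFun := scale hP
      map_one' := pt_injective hP (by
        have h := conj_pt hP 1 1
        simpa using h.symm)
      map_mul' := fun a b => pt_injective hP (by
        have h := conj_pt hP (a * b) 1
        rw [mul_one] at h
        rw [← h, ← mul_one (scale hP b), ← conj_pt hP a, ← conj_pt hP b]
        simp [mul_assoc]) }

theorem coe_scaleHom (n : Subgroup.normalizer (P : Set G)) :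
    ((scaleHom hP n : (ZMod p)ˣ) : ZMod p) = scale hP n := rfl

theorem card_ker_scaleHom (hC : Subgroup.centralizer (P : Set G) = P) :
    Nat.card (scaleHom hP).ker = p := by
  have hker : (scaleHom hP).ker = P.subgroupOf (Subgroup.normalizer (P : Set G)) := by
    ext n
    have h1 : (n : G) * pt hP 1 * (n : G)⁻¹ = pt hP 1 ↔ (n : G) ∈ P := by
      constructor
      · intro h
        exact hC.le (mem_centralizer_of_commute_prime hP (pt_mem hP 1) (pt_ne_one hP one_ne_zero)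
          (mul_inv_eq_iff_eq_mul.1 h))
      · intro h
        exact mul_inv_eq_iff_eq_mul.2 (Subgroup.mem_centralizer_iff.1 (hC.ge h) _ (pt_mem hP 1)).symm
    rw [MonoidHom.mem_ker, Subgroup.mem_subgroupOf, ← h1, Units.ext_iff, coe_scaleHom, Units.val_one,
      conj_pt, mul_one]
    exact (pt_injective hP).eq_iff.symm
  rw [hker, Nat.card_congr (Subgroup.subgroupOfEquivOfLe Subgroup.le_normalizer).toEquiv, hP]

/-- The linear character `m ↦ ζ^(j m)` of `P`. -/
noncomputable def lam (j : ZMod p) : P →* ℂˣ :=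
  MonoidHom.toHomUnits
    (((ZMod.stdAddChar (N := p)).mulShift j).toMonoidHom.comp (coord hP).symm.toMonoidHom)

theorem lam_pt (j m : ZMod p) :
    ((lam hP j ⟨pt hP m, pt_mem hP m⟩ : ℂˣ) : ℂ) = ZMod.stdAddChar (j * m) := by
  simp [lam, pt, AddChar.mulShift_apply]

/-- `1 - λ_j`. -/
noncomputable def theta (j : ZMod p) : P → ℂ := (fun _ => (1 : ℂ)) - fun x => ((lam hP j x : ℂˣ) : ℂ)

theorem theta_pt (j m : ZMod p) :
    theta hP j ⟨pt hP m, pt_mem hP m⟩ = 1 - ZMod.stdAddChar (j * m) := by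
  simp [theta, lam_pt]

theorem isGen_theta (j : ZMod p) : Cfsg.IsGeneralizedCharacter P (theta hP j) :=
  isGen_sub isGen_one (isGen_of_isIrr (isIrr_linChar _))

theorem sum_std (c : ZMod p) :
    ∑ m : ZMod p, (ZMod.stdAddChar (c * m) : ℂ) = if c = 0 then (p : ℂ) else 0 := by
  rw [Finset.sum_congr rfl fun m _ => congrArg ZMod.stdAddChar (mul_comm c m),
    AddChar.sum_mulShift c (ZMod.isPrimitive_stdAddChar p)]
  split_ifs <;> simp

theorem sum_eq_sum_pt [Fintype P] (F : P → ℂ) :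
    ∑ x : P, F x = ∑ m : ZMod p, F ⟨pt hP m, pt_mem hP m⟩ :=
  (Fintype.sum_equiv (Multiplicative.ofAdd.trans (coord hP).toEquiv)
    (fun m => F ⟨pt hP m, pt_mem hP m⟩) F (fun _ => rfl)).symm

end

section
variable [Fintype G] {P : Subgroup G} (hP : Nat.card P = p)
  (hC : Subgroup.centralizer (P : Set G) = P)
  [Fintype (Subgroup.normalizer (P : Set G))] [Fintype (scaleHom hP).range]

/-- `Ind (1 - λ_j)`. -/
noncomputable def beta (j : ZMod p) : G → ℂ := Cfsg.indFun P (theta hP j)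

include hC in
theorem beta_pt (j : ZMod p) {m : ZMod p} (hm : m ≠ 0) :
    beta hP j (pt hP m) =
      ∑ u : (scaleHom hP).range, (1 - ZMod.stdAddChar (j * (((u : (ZMod p)ˣ) : ZMod p) * m))) := by
  classical
  let F : (ZMod p)ˣ → ℂ := fun u => 1 - ZMod.stdAddChar (j * ((u : ZMod p) * m))
  have hval : ∀ x : G, Cfsg.extendByZero P (theta hP j) (x⁻¹ * pt hP m * x) =
      if h : x ∈ Subgroup.normalizer (P : Set G) then F (scaleHom hP ⟨x, h⟩⁻¹) else 0 := by
    intro x
    by_cases hx : x ∈ Subgroup.normalizer (P : Set G)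
    · rw [dif_pos hx]
      have h : x⁻¹ * pt hP m * x = pt hP (scale hP ⟨x, hx⟩⁻¹ * m) := by
        rw [← conj_pt hP ⟨x, hx⟩⁻¹ m]; simp
      rw [h, extendByZero_of_mem _ _ (pt_mem hP _), theta_pt]
      rfl
    · rw [dif_neg hx]
      refine extendByZero_of_not_mem _ _ fun hmem => hx ?_
      have h1 : x⁻¹ * pt hP m * x ≠ 1 := fun h => pt_ne_one hP hm (by
        calc pt hP m = x * (x⁻¹ * pt hP m * x) * x⁻¹ := by group
          _ = 1 := by rw [h]; group)
      rw [← inv_mem_iff, Subgroup.mem_normalizer_iff]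
      have key : P.map (MulAut.conj x⁻¹).toMonoidHom = P := by
        have hc : Nat.card (P.map (MulAut.conj x⁻¹).toMonoidHom) = p := by
          rw [← Nat.card_congr (P.equivMapOfInjective _ (MulAut.conj x⁻¹).injective).toEquiv, hP]
        rw [← eq_zpowers_of_mem_prime hc ⟨pt hP m, pt_mem hP m, by simp⟩ h1,
          eq_zpowers_of_mem_prime hP hmem h1]
      intro y
      conv_rhs => rw [← key]
      exact (Subgroup.mem_map_iff_mem (MulAut.conj x⁻¹).injective).symm
  have hfib : ∀ u : (ZMod p)ˣ, u ∈ (scaleHom hP).range →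
      (Finset.univ.filter fun n => scaleHom hP n = u).card = p := by
    rintro u ⟨n₀, rfl⟩
    rw [← Fintype.card_subtype, ← Nat.card_eq_fintype_card]
    refine Eq.trans ?_ (card_ker_scaleHom hP hC)
    exact Nat.card_congr
      { toFun := fun n => ⟨n₀⁻¹ * n.1, by simp [MonoidHom.mem_ker, n.2]⟩
        invFun := fun k => ⟨n₀ * k.1, by simp [MonoidHom.mem_ker.1 k.2]⟩
        left_inv := fun n => Subtype.ext (by simp)
        right_inv := fun k => Subtype.ext (by simp) }
  have e2 : ∑ x : G, Cfsg.extendByZero P (theta hP j) (x⁻¹ * pt hP m * x)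
      = ∑ n : Subgroup.normalizer (P : Set G), F (scaleHom hP n⁻¹) := by
    simp only [hval]
    refine (Finset.sum_bij' (s := (Finset.univ : Finset (Subgroup.normalizer (P : Set G))))
      (t := Finset.univ.filter (· ∈ Subgroup.normalizer (P : Set G))) (fun n _ => (n : G))
      (fun x hx => ⟨x, (Finset.mem_filter.1 hx).2⟩) (fun n _ => by simp) (fun x _ => Finset.mem_univ _)
      (fun n _ => rfl) (fun x _ => rfl)
      (fun n _ => by rw [dif_pos n.2])).trans (Finset.sum_subset (Finset.subset_univ _) ?_) |>.symm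
    intro x _ hx
    exact dif_neg fun h => hx (Finset.mem_filter.2 ⟨Finset.mem_univ _, h⟩)
  have e3 : ∑ n : Subgroup.normalizer (P : Set G), F (scaleHom hP n⁻¹)
      = (p : ℂ) * ∑ u : (scaleHom hP).range, F u := by
    rw [show ∑ n : Subgroup.normalizer (P : Set G), F (scaleHom hP n⁻¹)
        = ∑ n : Subgroup.normalizer (P : Set G), F (scaleHom hP n) from
        Fintype.sum_equiv (Equiv.inv _) _ _ (fun n => rfl),
      Finset.sum_comp F (scaleHom hP), Finset.mul_sum]
    refine (Finset.sum_bij' (fun u hu => (⟨u, by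
        obtain ⟨n, -, rfl⟩ := Finset.mem_image.1 hu; exact ⟨n, rfl⟩⟩ : (scaleHom hP).range))
      (fun u _ => (u : (ZMod p)ˣ)) (fun _ _ => Finset.mem_univ _) (fun u _ => ?_) (fun _ _ => rfl)
      (fun _ _ => rfl) (fun u hu => ?_))
    · obtain ⟨n, hn⟩ := u.2; exact Finset.mem_image.2 ⟨n, Finset.mem_univ _, hn⟩
    · obtain ⟨n, -, rfl⟩ := Finset.mem_image.1 hu
      rw [hfib _ ⟨n, rfl⟩, nsmul_eq_mul]
  rw [beta, Cfsg.indFun, e2, e3, hP, ← mul_assoc,
    inv_mul_cancel₀ (Nat.cast_ne_zero.2 (Fact.out : p.Prime).ne_zero), one_mul]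

include hC in
theorem classInner_beta (i j : ZMod p) (hi : i ≠ 0) (hj : j ≠ 0) :
    Cfsg.classInner (beta hP i) (beta hP j) =
      ∑ u : (scaleHom hP).range, (1 + if i = j * ((u : (ZMod p)ˣ) : ZMod p) then (1 : ℂ) else 0) := by
  classical
  haveI := Fintype.ofFinite P
  have hp0 : (p : ℂ) ≠ 0 := Nat.cast_ne_zero.2 (Fact.out : p.Prime).ne_zero
  have hterm : ∀ u : (scaleHom hP).range, ∑ m : ZMod p,
      (1 - (ZMod.stdAddChar (i * m) : ℂ)) *
        (1 - conj (ZMod.stdAddChar (j * (((u : (ZMod p)ˣ) : ZMod p) * m)) : ℂ))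
      = (p : ℂ) * (1 + if i = j * ((u : (ZMod p)ˣ) : ZMod p) then (1 : ℂ) else 0) := by
    intro u
    set w := ((u : (ZMod p)ˣ) : ZMod p)
    have hw : w ≠ 0 := (u : (ZMod p)ˣ).ne_zero
    have e : ∀ m : ZMod p, (1 - (ZMod.stdAddChar (i * m) : ℂ)) * (1 - conj (ZMod.stdAddChar (j * (w * m)) : ℂ))
        = 1 - ZMod.stdAddChar (i * m) - ZMod.stdAddChar (-(j * w) * m)
          + ZMod.stdAddChar ((i - j * w) * m) := by
      intro m
      rw [← AddChar.map_neg_eq_conj, show -(j * (w * m)) = -(j * w) * m by ring,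
        show (i - j * w) * m = i * m + -(j * w) * m by ring, AddChar.map_add_eq_mul]
      ring
    simp only [e, Finset.sum_add_distrib, Finset.sum_sub_distrib, sum_std, Finset.sum_const,
      Finset.card_univ, ZMod.card, nsmul_eq_mul, mul_one]
    rw [if_neg hi, if_neg (neg_ne_zero.2 (mul_ne_zero hj hw))]
    simp only [sub_eq_zero]
    split_ifs <;> ring
  show Cfsg.classInner (Cfsg.indFun P (theta hP i)) (Cfsg.indFun P (theta hP j)) = _
  rw [classInner_indFun P (theta hP i) (isClassFunction_indFun P _), Cfsg.classInner,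
    sum_eq_sum_pt hP, hP]
  have e : ∀ m : ZMod p, theta hP i ⟨pt hP m, pt_mem hP m⟩ * conj (Cfsg.indFun P (theta hP j) (pt hP m))
      = ∑ u : (scaleHom hP).range, (1 - (ZMod.stdAddChar (i * m) : ℂ)) *
        (1 - conj (ZMod.stdAddChar (j * (((u : (ZMod p)ˣ) : ZMod p) * m)) : ℂ)) := by
    intro m
    rw [theta_pt]
    by_cases hm : m = 0
    · simp [hm]
    · rw [show Cfsg.indFun P (theta hP j) (pt hP m) = beta hP j (pt hP m) from rfl,
        beta_pt hP hC j hm, map_sum, Finset.mul_sum]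
      simp
  simp only [e]
  rw [Finset.sum_comm, Finset.sum_congr rfl fun u _ => hterm u, ← Finset.mul_sum, ← mul_assoc,
    inv_mul_cancel₀ hp0, one_mul]

end

/-- **The exceptional character data** of a self-centralising subgroup `P` of order `p`: signs
`b`, the exceptional characters `X`, the degree congruences, the vanishing relations off `P` and the
sums over `P`. (For `k = 1` an arbitrary nonprincipal character plays the exceptional one.) -/
theorem exists_data [Fintype G] [IsSimpleGroup G] (hG : ¬ IsMulCommutative G) (P : Subgroup G)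
    (hP : Nat.card P = p) (hC : Subgroup.centralizer (P : Set G) = P) (e k : ℕ)
    (he : Nat.card (Subgroup.normalizer (P : Set G)) = p * e) (hk : k * e = p - 1) (h2 : 1 ≤ k) :
    ∃ (b : Cfsg.IrrCharacter G → ℤ) (dg : Cfsg.IrrCharacter G → ℕ)
      (X : Finset (Cfsg.IrrCharacter G)) (χ₀ : Cfsg.IrrCharacter G) (σ β : ℤ) (d : ℕ),
      (σ = 1 ∨ σ = -1) ∧ X.card = k ∧ χ₀ ∉ X ∧ b χ₀ = 1 ∧ (∀ g, (χ₀ : G → ℂ) g = 1) ∧
      (∀ χ : Cfsg.IrrCharacter G, (χ : G → ℂ) 1 = dg χ ∧ dg χ ∣ Nat.card G ∧ (χ ≠ χ₀ → 1 < dg χ) ∧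
        (χ ∉ X → (p : ℤ) ∣ (dg χ : ℤ) - b χ) ∧
        (χ ∈ X → b χ = β ∧ dg χ = d ∧ (p : ℤ) ∣ (dg χ : ℤ) - (β - σ * (e : ℤ)))) ∧
      (∑ χ, b χ * b χ = (e : ℤ) - 2 * σ * β) ∧
      (∑ χ, b χ * (dg χ : ℤ) + σ * (d : ℤ) = 0) ∧
      (∀ t : G, (∀ g : G, g * t * g⁻¹ ∉ P) → ∀ ψ ∈ X,
        ∑ χ, (b χ : ℂ) * (χ : G → ℂ) t + (σ : ℂ) * (ψ : G → ℂ) t = 0) ∧
      ∀ χ : Cfsg.IrrCharacter G, ∀ [DecidablePred (fun g => g ∈ P ∧ g ≠ 1)],
        ∑ g ∈ Finset.univ.filter (fun g => g ∈ P ∧ g ≠ 1), conj ((χ : G → ℂ) g)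
          = (((p : ℤ) - 1) * b χ + (if χ ∈ X then σ * (e : ℤ) else 0) : ℤ) := by
  classical
  haveI := Fintype.ofFinite ↥(Subgroup.normalizer (P : Set G))
  haveI := Fintype.ofFinite ↥(scaleHom hP).range
  haveI := Fintype.ofFinite P
  have hp := (Fact.out : p.Prime)
  set U := (scaleHom hP).range with hU
  have hUe : Fintype.card U = e := by
    have h := Subgroup.card_mul_index (scaleHom hP).ker
    rw [Subgroup.index_ker, card_ker_scaleHom hP hC, he] at h
    rw [← Nat.card_eq_fintype_card]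
    exact Nat.eq_of_mul_eq_mul_left hp.pos h
  have he0 : 0 < e := hUe ▸ Fintype.card_pos
  choose c hc using fun (j : ZMod p) (χ : Cfsg.IrrCharacter G) =>
    classInner_gen (isGen_indFun P (isGen_theta hP j)) (isGen_of_isIrr χ.2)
  choose dg hdg0 hdg using fun χ : Cfsg.IrrCharacter G => exists_degree_pos χ.2
  have hgram : ∀ i j : ZMod p, ((∑ χ, c i χ * c j χ : ℤ) : ℂ) = Cfsg.classInner (beta hP i) (beta hP j) := by
    intro i j
    rw [beta, beta, classInner_eq_sum (isClassFunction_indFun P _)]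
    push_cast
    refine Finset.sum_congr rfl fun χ _ => ?_
    rw [hc, hc]; simp
  have hG' : ∀ i j : ZMod p, i ≠ 0 → j ≠ 0 → ∑ χ, c i χ * c j χ
      = (e : ℤ) + if (∃ u : U, i = j * ((u : (ZMod p)ˣ) : ZMod p)) then 1 else 0 := by
    intro i j hi hj
    have h := (hgram i j).trans (classInner_beta hP hC i j hi hj)
    rw [Finset.sum_add_distrib, Finset.sum_const, Finset.card_univ, hUe, nsmul_eq_mul, mul_one] at h
    split_ifs with hex
    · obtain ⟨u, hu⟩ := hex
      rw [Finset.sum_eq_single u (fun v _ hv => if_neg fun hv' => hv (Subtype.ext (Units.ext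
        (mul_left_cancel₀ hj (hv'.symm.trans hu))))) (by simp), if_pos hu] at h
      exact_mod_cast h
    · rw [Finset.sum_eq_zero (fun v _ => if_neg fun hv => hex ⟨v, hv⟩), add_zero] at h
      rw [add_zero]; exact_mod_cast h
  have hdeg : ∀ j, ∑ χ, c j χ * (dg χ : ℤ) = 0 := by
    intro j
    have h := congrFun (classFunction_expansion (isClassFunction_indFun P (theta hP j))) 1
    rw [indFun_one, show theta hP j 1 = 0 by simp [theta], mul_zero] at h
    simp only [Finset.sum_apply, Pi.smul_apply, smul_eq_mul, hc, hdg] at h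
    exact_mod_cast h.symm
  let χ₀ : Cfsg.IrrCharacter G := ⟨fun _ => 1, isIrr_one⟩
  have hone : ∀ j : ZMod p, j ≠ 0 → c j χ₀ = 1 := by
    intro j hj
    have h := hc j χ₀
    rw [classInner_indFun P (theta hP j) (isClassFunction_of_isIrr χ₀.2), Cfsg.classInner,
      sum_eq_sum_pt hP, hP] at h
    simp only [theta_pt, χ₀, map_one, mul_one, Finset.sum_sub_distrib, sum_std, if_neg hj,
      Finset.sum_const, Finset.card_univ, ZMod.card, nsmul_eq_mul, sub_zero,
      inv_mul_cancel₀ (Nat.cast_ne_zero.2 hp.ne_zero : (p : ℂ) ≠ 0)] at h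
    exact_mod_cast h.symm
  have hcong : ∀ χ : Cfsg.IrrCharacter G, ∃ z : ℤ,
      ∑ m : ZMod p, conj ((χ : G → ℂ) (pt hP m)) = (p : ℂ) * z ∧
      ∑ j : (ZMod p)ˣ, c (j : ZMod p) χ + (dg χ : ℤ) = (p : ℤ) * z := by
    intro χ
    have hres : Cfsg.IsGeneralizedCharacter P (fun x : P => (χ : G → ℂ) x) :=
      isGen_restrict P (isGen_of_isIrr χ.2)
    obtain ⟨z, hz⟩ := classInner_gen (isGen_one (G := P)) hres
    suffices hh : ∑ j : (ZMod p)ˣ, c (j : ZMod p) χ + (dg χ : ℤ) = (p : ℤ) * z by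
      refine ⟨z, ?_, hh⟩
      rw [← hz, Cfsg.classInner, sum_eq_sum_pt hP, hP, ← mul_assoc,
        mul_inv_cancel₀ (Nat.cast_ne_zero.2 hp.ne_zero : (p : ℂ) ≠ 0), one_mul]
      simp
    have hz' : ∑ m : ZMod p, conj ((χ : G → ℂ) (pt hP m)) = (p : ℂ) * z := by
      rw [← hz, Cfsg.classInner, sum_eq_sum_pt hP, hP, ← mul_assoc,
        mul_inv_cancel₀ (Nat.cast_ne_zero.2 hp.ne_zero : (p : ℂ) ≠ 0), one_mul]
      simp
    have hsum : ∑ j : ZMod p, ((c j χ : ℤ) : ℂ) = (p : ℂ) * z - (dg χ : ℂ) := by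
      rw [Finset.sum_congr rfl fun j _ =>
        (hc j χ).symm.trans (classInner_indFun P _ (isClassFunction_of_isIrr χ.2))]
      simp only [Cfsg.classInner, sum_eq_sum_pt hP, hP, theta_pt]
      rw [← Finset.mul_sum, Finset.sum_comm]
      have hflip : ∀ m : ZMod p, ∑ j : ZMod p, (ZMod.stdAddChar (j * m) : ℂ)
          = if m = 0 then (p : ℂ) else 0 := fun m => by
        rw [← sum_std m]
        exact Finset.sum_congr rfl fun j _ => by rw [mul_comm]
      simp only [← Finset.sum_mul, Finset.sum_sub_distrib, hflip, Finset.sum_const, Finset.card_univ,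
        ZMod.card, nsmul_eq_mul, mul_one]
      simp only [sub_mul, ite_mul, zero_mul, Finset.sum_sub_distrib, Finset.sum_ite_eq',
        Finset.mem_univ, if_true, ← Finset.mul_sum, hz', pt_zero, hdg, map_natCast]
      field_simp
      rw [mul_div_cancel_left₀ _ (Nat.cast_ne_zero.2 hp.ne_zero : (p : ℂ) ≠ 0)]
    have h0 : c 0 χ = 0 := by
      have h := hc 0 χ
      rw [show theta hP (0 : ZMod p) = 0 by
        funext x
        simp [theta, lam], indFun_zero, classInner_zero_left] at h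
      exact_mod_cast h.symm
    have hsplit : ∑ j : ZMod p, c j χ = ∑ j : (ZMod p)ˣ, c (j : ZMod p) χ := by
      rw [← Finset.add_sum_erase _ _ (Finset.mem_univ (0 : ZMod p)), h0, zero_add]
      exact (Finset.sum_bij' (fun (j : (ZMod p)ˣ) _ => (j : ZMod p))
        (fun x hx => Units.mk0 x (Finset.ne_of_mem_erase hx))
        (fun j _ => Finset.mem_erase.2 ⟨j.ne_zero, Finset.mem_univ _⟩) (fun _ _ => Finset.mem_univ _)
        (fun j _ => Units.ext rfl) (fun _ _ => rfl) (fun _ _ => rfl)).symm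
    rw [← hsplit]
    have : ((∑ j : ZMod p, c j χ + (dg χ : ℤ) : ℤ) : ℂ) = (((p : ℤ) * z : ℤ) : ℂ) := by
      push_cast; rw [hsum]; ring
    exact_mod_cast this
  -- orbits
  haveI := Fintype.ofFinite ((ZMod p)ˣ ⧸ U)
  let v : (ZMod p)ˣ ⧸ U → Cfsg.IrrCharacter G → ℤ := fun q χ => c (q.out : (ZMod p)ˣ) χ
  have horb : ∀ (j : (ZMod p)ˣ) (χ : Cfsg.IrrCharacter G), c (j : ZMod p) χ = v (QuotientGroup.mk j) χ := by
    intro j χ
    obtain ⟨u, hu⟩ := QuotientGroup.mk_out_eq_mul U j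
    set i : (ZMod p)ˣ := ((QuotientGroup.mk j : (ZMod p)ˣ ⧸ U)).out
    have hii := hG' (i : ZMod p) i i.ne_zero i.ne_zero
    have hjj := hG' (j : ZMod p) j j.ne_zero j.ne_zero
    have hij := hG' (i : ZMod p) j i.ne_zero j.ne_zero
    rw [if_pos ⟨1, by simp⟩] at hii hjj
    rw [if_pos ⟨u, by rw [hu]; simp⟩] at hij
    have h0 : ∑ χ, (c (i : ZMod p) χ - c (j : ZMod p) χ) * (c (i : ZMod p) χ - c (j : ZMod p) χ) = 0 := by
      simp only [sub_mul, mul_sub, Finset.sum_sub_distrib]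
      rw [hii, hjj, hij, Finset.sum_congr rfl fun χ _ => mul_comm (c (j : ZMod p) χ) _, hij]
      ring
    have := mul_self_eq_zero.1 ((Finset.sum_eq_zero_iff_of_nonneg fun χ _ => mul_self_nonneg _).1 h0 χ
      (Finset.mem_univ _))
    show c (j : ZMod p) χ = c (i : ZMod p) χ
    omega
  have hcard : Fintype.card ((ZMod p)ˣ ⧸ U) = k := by
    have h := Subgroup.card_mul_index U
    rw [Nat.card_eq_fintype_card, hUe, Subgroup.index_eq_card, Nat.card_eq_fintype_card,
      Nat.card_eq_fintype_card, ZMod.card_units, ← hk, mul_comm k] at h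
    exact Nat.eq_of_mul_eq_mul_left he0 h
  have hdiag : ∀ q q' : (ZMod p)ˣ ⧸ U, ∑ χ, v q χ * v q' χ = (e : ℤ) + if q = q' then 1 else 0 := by
    intro q q'
    rw [hG' _ _ (q.out : (ZMod p)ˣ).ne_zero (q'.out : (ZMod p)ˣ).ne_zero]
    congr 1
    refine if_congr ⟨fun ⟨u, hu⟩ => ?_, fun h => ⟨1, by simp [h]⟩⟩ rfl rfl
    rw [← QuotientGroup.out_eq' q, ← QuotientGroup.out_eq' q', eq_comm, QuotientGroup.eq,
      show (q.out : (ZMod p)ˣ) = q'.out * (u : (ZMod p)ˣ) from Units.ext hu, inv_mul_cancel_left]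
    exact u.2
  obtain ⟨b, σ, β, x, hσ, hx, hv, hβ, hnorm, hx0, hdx⟩ : ∃ (b : Cfsg.IrrCharacter G → ℤ) (σ β : ℤ)
      (x : (ZMod p)ˣ ⧸ U → Cfsg.IrrCharacter G), (σ = 1 ∨ σ = -1) ∧ Function.Injective x ∧
      (∀ o i, v o i = b i + if i = x o then σ else 0) ∧ (∀ o, b (x o) = β) ∧
      (∑ i, b i * b i = (e : ℤ) - 2 * σ * β) ∧ (∀ o, x o ≠ χ₀) ∧
      (∀ o o', dg (x o) = dg (x o')) := by
    by_cases hk2 : 2 ≤ k
    · exact Exceptional.exists_family v dg (e : ℤ) hdg0 hdiag (fun q => hdeg _) χ₀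
        (fun q => hone _ (q.out : (ZMod p)ˣ).ne_zero) (hcard ▸ hk2)
    obtain ⟨q, hq⟩ := Fintype.card_eq_one_iff.1 (hcard.trans (by omega : k = 1))
    obtain ⟨ψ, hψ, hψ'⟩ : ∃ ψ, ψ ≠ χ₀ ∧ v q ψ ≠ 0 := by
      by_contra hcon
      push Not at hcon
      have h := hdiag q q
      rw [if_pos rfl, Finset.sum_eq_single χ₀ (fun χ _ hχ => by rw [hcon χ hχ, mul_zero]) (by simp),
        show v q χ₀ = 1 from hone _ (q.out : (ZMod p)ˣ).ne_zero] at h
      omega
    refine ⟨fun i => v q i - if i = ψ then 1 else 0, 1, v q ψ - 1, fun _ => ψ, Or.inl rfl,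
      fun o o' _ => (hq o).trans (hq o').symm, fun o i => by rw [hq o]; by_cases h : i = ψ <;> simp [h],
      fun o => by simp, ?_, fun _ => hψ, fun _ _ => rfl⟩
    have h := hdiag q q
    rw [if_pos rfl] at h
    simp only [mul_sub, sub_mul, Finset.sum_sub_distrib, h, mul_ite, ite_mul, mul_one, one_mul,
      mul_zero, zero_mul, Finset.sum_ite_eq', Finset.mem_univ, if_true]
    ring
  obtain ⟨q₀⟩ : Nonempty ((ZMod p)ˣ ⧸ U) := ⟨QuotientGroup.mk 1⟩
  set X := Finset.univ.image x with hX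
  have hb0 : b χ₀ = 1 := by
    have h := hone _ (q₀.out : (ZMod p)ˣ).ne_zero
    change v q₀ χ₀ = 1 at h
    rw [hv, if_neg (fun h => hx0 q₀ h.symm), add_zero] at h
    exact h
  have hdeg1 : ∀ χ : Cfsg.IrrCharacter G, χ ≠ χ₀ → 1 < dg χ := by
    intro χ hne
    by_contra hle
    have h1 : dg χ = 1 := by have := hdg0 χ; omega
    obtain ⟨f, hf⟩ := exists_hom_of_degree_one (isCharacter_of_isIrr χ.2) (by rw [hdg, h1]; simp)
    refine hne (Subtype.ext ?_)
    have : f = 1 := by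
      by_contra h
      exact hG (isMulCommutative_of_hom_ne_one f h)
    rw [hf, this]
    simp [χ₀]
  have hdvd : ∀ χ : Cfsg.IrrCharacter G, dg χ ∣ Nat.card G := by
    intro χ
    obtain ⟨n, ρ, hρ, hρχ⟩ := χ.2
    have h := hdg χ
    rw [← hρχ, Representation.char_one] at h
    haveI := hρ
    exact (Nat.cast_inj.1 h) ▸ finrank_dvd_card ρ
  have hsumc : ∀ χ : Cfsg.IrrCharacter G, ∑ j : (ZMod p)ˣ, c (j : ZMod p) χ
      = (e : ℤ) * ((k : ℤ) * b χ + if χ ∈ X then σ else 0) := by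
    intro χ
    simp only [horb]
    rw [← Finset.sum_fiberwise_of_maps_to (g := fun j : (ZMod p)ˣ => (QuotientGroup.mk j : (ZMod p)ˣ ⧸ U))
      (t := Finset.univ) (fun _ _ => Finset.mem_univ _)]
    rw [Finset.sum_congr rfl fun q _ => by
      rw [Finset.sum_congr rfl (g := fun _ => v q χ) fun j hj => by rw [(Finset.mem_filter.1 hj).2],
        Finset.sum_const, show (Finset.univ.filter fun j : (ZMod p)ˣ =>
          (QuotientGroup.mk j : (ZMod p)ˣ ⧸ U) = q).card = e by
        rw [← Fintype.card_subtype, ← hUe, ← Nat.card_eq_fintype_card, ← Nat.card_eq_fintype_card]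
        exact Nat.card_congr
          { toFun := fun j => ⟨q.out⁻¹ * j.1, QuotientGroup.eq.1 ((QuotientGroup.out_eq' q).trans j.2.symm)⟩
            invFun := fun u => ⟨q.out * u.1, by
              rw [QuotientGroup.mk_mul_of_mem _ u.2]; exact QuotientGroup.out_eq' q⟩
            left_inv := fun j => Subtype.ext (by simp)
            right_inv := fun u => Subtype.ext (by simp) }]]
    simp only [nsmul_eq_mul, hv, ← Finset.mul_sum, Finset.sum_add_distrib, Finset.sum_const,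
      Finset.card_univ, hcard, nsmul_eq_mul]
    congr 2
    by_cases hmem : χ ∈ X
    · obtain ⟨q, -, rfl⟩ := Finset.mem_image.1 hmem
      rw [if_pos hmem, Finset.sum_eq_single q (fun r _ hr => if_neg fun h => hr (hx h).symm)
        (by simp), if_pos rfl]
    · rw [if_neg hmem, Finset.sum_eq_zero fun r _ => if_neg fun h => hmem
        (Finset.mem_image.2 ⟨r, Finset.mem_univ _, h.symm⟩)]
  have hcongb : ∀ χ : Cfsg.IrrCharacter G,
      (p : ℤ) ∣ (dg χ : ℤ) - (b χ - if χ ∈ X then σ * (e : ℤ) else 0) := by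
    intro χ
    obtain ⟨z, -, hz⟩ := hcong χ
    rw [hsumc χ] at hz
    have hpe : (p : ℤ) - 1 = (k : ℤ) * (e : ℤ) := by
      have : 1 ≤ p := hp.one_le
      rw [show ((p : ℤ) - 1) = ((p - 1 : ℕ) : ℤ) by omega, ← hk]
      push_cast; ring
    refine ⟨z - b χ, ?_⟩
    split_ifs at hz ⊢ <;> linear_combination hz + (b χ) * hpe
  refine ⟨b, dg, X, χ₀, σ, β, dg (x q₀), hσ, ?_, ?_, hb0, fun _ => rfl, ?_, hnorm, ?_, ?_, ?_⟩
  · rw [hX, Finset.card_image_of_injective _ hx, Finset.card_univ, hcard]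
  · simp [hX]; exact fun q => hx0 q
  · refine fun χ => ⟨hdg χ, hdvd χ, hdeg1 χ, fun hχ => ?_, fun hχ => ?_⟩
    · have h := hcongb χ
      rwa [if_neg hχ, sub_zero] at h
    · have h := hcongb χ
      rw [if_pos hχ] at h
      obtain ⟨q, -, rfl⟩ := Finset.mem_image.1 hχ
      exact ⟨hβ q, hdx q q₀, by rwa [hβ] at h⟩
  · have h := hdeg ((q₀.out : (ZMod p)ˣ) : ZMod p)
    change ∑ χ, v q₀ χ * (dg χ : ℤ) = 0 at h
    simp only [hv, add_mul, Finset.sum_add_distrib, ite_mul, zero_mul, Finset.sum_ite_eq',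
      Finset.mem_univ, if_true] at h
    exact h
  · intro t ht ψ hψ
    obtain ⟨q, -, rfl⟩ := Finset.mem_image.1 hψ
    have h := congrFun (classFunction_expansion
      (isClassFunction_indFun P (theta hP ((q.out : (ZMod p)ˣ) : ZMod p)))) t
    have h0 : Cfsg.indFun P (theta hP ((q.out : (ZMod p)ˣ) : ZMod p)) t = 0 := by
      rw [Cfsg.indFun, Finset.sum_eq_zero fun g _ => extendByZero_of_not_mem _ _
        (by simpa using ht g⁻¹), mul_zero]
    rw [h0] at h
    simp only [Finset.sum_apply, Pi.smul_apply, smul_eq_mul, hc] at h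
    change 0 = ∑ χ, ((v q χ : ℤ) : ℂ) * (χ : G → ℂ) t at h
    simp only [hv, Int.cast_add, apply_ite (Int.cast : ℤ → ℂ), Int.cast_zero, add_mul,
      Finset.sum_add_distrib, ite_mul, zero_mul, Finset.sum_ite_eq', Finset.mem_univ, if_true] at h
    exact h.symm
  · intro χ _
    have hz' : ∑ m : ZMod p, conj ((χ : G → ℂ) (pt hP m))
        = ((∑ j : (ZMod p)ˣ, c (j : ZMod p) χ + (dg χ : ℤ) : ℤ) : ℂ) := by
      obtain ⟨z, hz1, hz2⟩ := hcong χ
      rw [hz1, hz2]; push_cast; ring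
    have hsum : ∑ j : (ZMod p)ˣ, c (j : ZMod p) χ
        = ((p : ℤ) - 1) * b χ + (if χ ∈ X then σ * (e : ℤ) else 0) := by
      rw [hsumc χ]
      have hpe : (p : ℤ) - 1 = (k : ℤ) * (e : ℤ) := by
        have : 1 ≤ p := hp.one_le
        rw [show ((p : ℤ) - 1) = ((p - 1 : ℕ) : ℤ) by omega, ← hk]
        push_cast; ring
      split_ifs <;> linear_combination (-(b χ)) * hpe
    rw [← hsum]
    rw [← Finset.add_sum_erase _ _ (Finset.mem_univ (0 : ZMod p)), pt_zero, hdg, map_natCast] at hz'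
    have hfilter : ∑ g ∈ Finset.univ.filter (fun g => g ∈ P ∧ g ≠ 1), conj ((χ : G → ℂ) g)
        = ∑ m ∈ Finset.univ.erase (0 : ZMod p), conj ((χ : G → ℂ) (pt hP m)) :=
      (Finset.sum_bij' (s := Finset.univ.erase (0 : ZMod p)) (fun m _ => pt hP m)
        (fun g hg => crd hP (Finset.mem_filter.1 hg).2.1)
        (fun m hm => Finset.mem_filter.2 ⟨Finset.mem_univ _, pt_mem hP m,
          pt_ne_one hP (Finset.ne_of_mem_erase hm)⟩)
        (fun g hg => Finset.mem_erase.2 ⟨fun h0 => (Finset.mem_filter.1 hg).2.2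
          (by rw [← pt_crd hP (Finset.mem_filter.1 hg).2.1, h0, pt_zero]), Finset.mem_univ _⟩)
        (fun m _ => pt_injective hP (pt_crd hP _))
        (fun g _ => pt_crd hP _) (fun _ _ => rfl)).symm
    rw [hfilter]
    push_cast at hz' ⊢
    linear_combination hz'

/-- **The degree equation.** -/
theorem exists_degree_equation [IsSimpleGroup G] (hG : ¬ IsMulCommutative G) (P : Subgroup G)
    (hP : Nat.card P = p) (hC : Subgroup.centralizer (P : Set G) = P) (e k : ℕ)
    (he : Nat.card (Subgroup.normalizer (P : Set G)) = p * e) (hk : k * e = p - 1) (h2 : 2 ≤ k) :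
    ∃ (l : List (ℤ × ℕ)) (σ β : ℤ) (d : ℕ), (σ = 1 ∨ σ = -1) ∧
      (l.map fun q => q.1 * q.1).sum + (k : ℤ) * (β * β) + 1 = (e : ℤ) - 2 * σ * β ∧
      1 + (l.map fun q => q.1 * (q.2 : ℤ)).sum + ((k : ℤ) * β + σ) * (d : ℤ) = 0 ∧
      (∀ q ∈ l, q.1 ≠ 0 ∧ 1 < q.2 ∧ q.2 ∣ Nat.card G ∧ (p : ℤ) ∣ (q.2 : ℤ) - q.1) ∧
      1 < d ∧ d ∣ Nat.card G ∧ (p : ℤ) ∣ (d : ℤ) - (β - σ * (e : ℤ)) ∧
      1 + (l.map fun q => q.2 * q.2).sum + k * (d * d) ≤ Nat.card G := by
  classical
  haveI := Fintype.ofFinite G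
  obtain ⟨b, dg, X, χ₀, σ, β, d, hσ, hXc, hχX, hb0, hone, hall, hnorm, hdeg, -, -⟩ :=
    exists_data hG P hP hC e k he hk (by omega)
  let S := (Finset.univ \ X).filter fun χ => b χ ≠ 0 ∧ χ ≠ χ₀
  obtain ⟨ψ, hψ⟩ : X.Nonempty := Finset.card_pos.1 (by omega)
  have hXZ : ∀ (F : Cfsg.IrrCharacter G → ℤ) (w : ℤ), (∀ χ ∈ X, F χ = w) →
      ∑ χ ∈ X, F χ = (k : ℤ) * w := by
    intro F w hF
    rw [Finset.sum_congr rfl hF, Finset.sum_const, hXc, nsmul_eq_mul]
  have hXN : ∀ (F : Cfsg.IrrCharacter G → ℕ) (w : ℕ), (∀ χ ∈ X, F χ = w) →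
      ∑ χ ∈ X, F χ = k * w := by
    intro F w hF
    rw [Finset.sum_congr rfl hF, Finset.sum_const, hXc, smul_eq_mul]
  have hχd : χ₀ ∈ Finset.univ \ X := Finset.mem_sdiff.2 ⟨Finset.mem_univ _, hχX⟩
  have hd0 : dg χ₀ = 1 := by
    have h := (hall χ₀).1
    rw [hone] at h
    exact_mod_cast h.symm
  refine ⟨S.toList.map fun χ => (b χ, dg χ), σ, β, d, hσ, ?_, ?_, ?_,
    ((hall ψ).2.2.2.2 hψ).2.1 ▸ (hall ψ).2.2.1 (fun h => hχX (h ▸ hψ)),
    ((hall ψ).2.2.2.2 hψ).2.1 ▸ (hall ψ).2.1, ?_, ?_⟩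
  · simp only [List.map_map, Function.comp_def, Finset.sum_map_toList]
    have e1 : ∑ χ, b χ * b χ = (∑ χ ∈ S, b χ * b χ) + (k : ℤ) * (β * β) + 1 := by
      rw [← Finset.sum_sdiff (Finset.subset_univ X),
        hXZ (fun χ => b χ * b χ) (β * β) fun χ hχ => by simp only [((hall χ).2.2.2.2 hχ).1]]
      rw [← Finset.add_sum_erase _ _ hχd, hb0]
      have e2 : ∑ χ ∈ S, b χ * b χ = ∑ χ ∈ (Finset.univ \ X).erase χ₀, b χ * b χ := by
        refine Finset.sum_subset (fun χ h => ?_) (fun χ h hn => ?_)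
        · obtain ⟨h1, -, h3⟩ := Finset.mem_filter.1 h
          exact Finset.mem_erase.2 ⟨h3, h1⟩
        · obtain ⟨h3, h1⟩ := Finset.mem_erase.1 h
          by_contra hne
          exact hn (Finset.mem_filter.2 ⟨h1, fun h0 => hne (by rw [h0, mul_zero]), h3⟩)
      rw [e2]; ring
    rw [← e1, hnorm]
  · simp only [List.map_map, Function.comp_def, Finset.sum_map_toList]
    have h := hdeg
    rw [← Finset.sum_sdiff (Finset.subset_univ X),
        hXZ (fun χ => b χ * (dg χ : ℤ)) (β * (d : ℤ)) fun χ hχ => by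
          simp only [((hall χ).2.2.2.2 hχ).1, ((hall χ).2.2.2.2 hχ).2.1]] at h
    rw [← Finset.add_sum_erase _ _ hχd, hb0] at h
    have e2 : ∑ χ ∈ S, b χ * (dg χ : ℤ) = ∑ χ ∈ (Finset.univ \ X).erase χ₀, b χ * (dg χ : ℤ) := by
      refine Finset.sum_subset (fun χ h => ?_) (fun χ h hn => ?_)
      · obtain ⟨h1, -, h3⟩ := Finset.mem_filter.1 h
        exact Finset.mem_erase.2 ⟨h3, h1⟩
      · obtain ⟨h3, h1⟩ := Finset.mem_erase.1 h
        by_contra hne
        exact hn (Finset.mem_filter.2 ⟨h1, fun h0 => hne (by rw [h0, zero_mul]), h3⟩)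
    rw [e2]; rw [hd0] at h; push_cast at h; linear_combination h
  · intro w hw
    obtain ⟨χ, hχ, rfl⟩ := List.mem_map.1 hw
    obtain ⟨h1, h2, h3⟩ := Finset.mem_filter.1 (Finset.mem_toList.1 hχ)
    exact ⟨h2, (hall χ).2.2.1 h3, (hall χ).2.1, (hall χ).2.2.2.1 (Finset.mem_sdiff.1 h1).2⟩
  · have h := ((hall ψ).2.2.2.2 hψ).2.2
    rwa [((hall ψ).2.2.2.2 hψ).2.1] at h
  · simp only [List.map_map, Function.comp_def, Finset.sum_map_toList]
    have hsq : ∑ χ, dg χ * dg χ = Nat.card G := by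
      have h := sum_degree_sq (G := G)
      simp only [fun χ => (hall χ).1, sq] at h
      exact_mod_cast h
    rw [← hsq, ← Finset.sum_sdiff (Finset.subset_univ X),
      hXN (fun χ => dg χ * dg χ) (d * d) fun χ hχ => by simp only [((hall χ).2.2.2.2 hχ).2.1]]
    rw [← Finset.add_sum_erase _ _ hχd, hd0]
    have : ∑ χ ∈ S, dg χ * dg χ ≤ ∑ χ ∈ (Finset.univ \ X).erase χ₀, dg χ * dg χ :=
      Finset.sum_le_sum_of_subset fun χ h => by
        obtain ⟨h1, -, h3⟩ := Finset.mem_filter.1 h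
        exact Finset.mem_erase.2 ⟨h3, h1⟩
    omega

end CfsgLib.Small.Degree
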