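import Cfsg.Agent.ClassPairs.Basic
import Cfsg.Agent.Small.DegreeEquation
import Cfsg.Agent.Small.OrderTools

/-!
# Involution values of the exceptional data: the class equation
-/

namespace CfsgLib.Small.Degree

open CfsgLib.Characters
open scoped ComplexConjugate

universe u

variable {G : Type u} [Group G] [Finite G]

/-- A nonprincipal irreducible character of a nonabelian simple group takes at an involution an
integer of the parity of the degree, of smaller absolute value. -/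
theorem exists_involution_value [Fintype G] [IsSimpleGroup G] (hG : ¬ IsMulCommutative G)
    (χ : Cfsg.IrrCharacter G) {n : ℕ} (hn : (χ : G → ℂ) 1 = n) (hn1 : 1 < n) {t : G}
    (ht : orderOf t = 2) :
    ∃ v : ℤ, (χ : G → ℂ) t = v ∧ 2 ∣ (n : ℤ) - v ∧ -(n : ℤ) < v ∧ v < n := by
  classical
  obtain ⟨k, ρ, hρ, hχ⟩ := χ.2
  haveI := hρ
  have hdim : Module.finrank ℂ (Fin k → ℂ) = n := by
    have h := hn
    rw [← hχ, Representation.char_one] at h
    exact_mod_cast h
  obtain ⟨μ, hμ, hj, -⟩ := exists_eigenvalues ρ t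
  have ht1 := hj 1
  rw [pow_one] at ht1
  set s := Finset.univ.filter fun i => μ i = -1
  have hval : (χ : G → ℂ) t = (((n : ℤ) - 2 * s.card : ℤ) : ℂ) := by
    rw [← hχ, ht1]
    have h1 : ∀ i, μ i ^ 1 = 1 - 2 * (if μ i = -1 then (1 : ℂ) else 0) := by
      intro i
      have h2 := hμ i
      rw [ht, sq_eq_one_iff] at h2
      rcases h2 with h | h <;> rw [h] <;> norm_num
    rw [Finset.sum_congr rfl fun i _ => h1 i, Finset.sum_sub_distrib, ← Finset.mul_sum,
      Finset.sum_boole]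
    simp [s, ← hdim]
  have hs : s.card ≤ n := hdim ▸ (Finset.card_le_univ _).trans (Fintype.card_fin _).le
  refine ⟨(n : ℤ) - 2 * s.card, hval, ⟨s.card, by ring⟩, ?_⟩
  by_contra hcon
  have hend : s.card = 0 ∨ s.card = n := by omega
  obtain ⟨ω, hω, -⟩ := exists_scalar_of_norm_char_eq ρ t (by
    refine Eq.trans ?_ (by rw [hdim] : (n : ℝ) = _)
    rw [hχ, hval]
    rcases hend with h | h <;> rw [h] <;> push_cast
    · simp
    · rw [show (n : ℂ) - 2 * n = -(n : ℂ) by ring, norm_neg, Complex.norm_natCast])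
  have hker : (MonoidHom.ker (ρ : G →* Module.End ℂ (Fin k → ℂ))) = ⊥ := by
    refine ((MonoidHom.normal_ker _).eq_bot_or_eq_top).resolve_right fun h => ?_
    have hall : ∀ g : G, (χ : G → ℂ) g = n := fun g => by
      have hg : (ρ : G →* Module.End ℂ (Fin k → ℂ)) g = 1 :=
        MonoidHom.mem_ker.1 (h ▸ Subgroup.mem_top g)
      rw [← hn, ← hχ, Representation.character, Representation.character,
        show ρ g = 1 from hg, map_one ρ]
    have h1 := classInner_isIrr_self χ.2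
    rw [Cfsg.classInner] at h1
    simp only [hall, map_natCast, Finset.sum_const, Finset.card_univ, nsmul_eq_mul] at h1
    rw [← mul_assoc, Nat.card_eq_fintype_card, inv_mul_cancel₀ (by simp), one_mul] at h1
    have h2 : n * n = 1 := by exact_mod_cast h1
    have := Nat.eq_one_of_mul_eq_one_right h2
    omega
  have hcen : t ∈ Subgroup.center G := Subgroup.mem_center_iff.2 fun g => by
    have hρeq : (ρ : G →* Module.End ℂ (Fin k → ℂ)) (g * t) = ρ (t * g) := by
      rw [map_mul, map_mul, hω]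
      ext x
      simp
    have h := (MonoidHom.ker_eq_bot_iff _).1 hker hρeq
    exact h
  rw [center_eq_bot_of_simple hG, Subgroup.mem_bot] at hcen
  rw [hcen, orderOf_one] at ht
  omega

variable {p : ℕ} [Fact p.Prime]

/-- Pairs of conjugators of `t` with product a nontrivial element of `P`. -/
theorem card_pairs_eq [Fintype G] [DecidableEq G] {P : Subgroup G} (hP : Nat.card P = p)
    (hC : Subgroup.centralizer (P : Set G) = P) (hp2 : p ≠ 2) {t : G} (ht : orderOf t = 2)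
    (S : Finset G) (hS : ∀ g, g ∈ S ↔ g ∈ P ∧ g ≠ 1)
    [Decidable (∃ u : G, u ∈ Subgroup.normalizer (P : Set G) ∧ IsConj t u)] :
    (∑ a : G, ∑ b : G, if a * t * a⁻¹ * (b * t * b⁻¹) ∈ S then (1 : ℂ) else 0)
      = if ∃ u : G, u ∈ Subgroup.normalizer (P : Set G) ∧ IsConj t u then
          ((p : ℂ) - 1) * p * (Nat.card (Subgroup.centralizer ({t} : Set G)) : ℂ) ^ 2 else 0 := by
  classical
  have hp := (Fact.out : p.Prime)
  set N := Subgroup.normalizer (P : Set G)
  set c := Nat.card (Subgroup.centralizer ({t} : Set G))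
  have hsq : ∀ u, IsConj t u → u * u = 1 := fun u hu => by
    obtain ⟨g, rfl⟩ := isConj_iff.1 hu
    calc g * t * g⁻¹ * (g * t * g⁻¹) = g * (t * t) * g⁻¹ := by group
      _ = 1 := by rw [← pow_two, ← ht, pow_orderOf_eq_one]; group
  have hne : ∀ u, IsConj t u → u ≠ 1 := fun u hu h => by
    obtain ⟨g, hg⟩ := isConj_iff.1 hu
    have := conj_eq_one_iff.1 (hg.trans h)
    rw [this, orderOf_one] at ht
    omega
  have hinv : ∀ u, IsConj t u → u ∈ N → ∀ g ∈ P, u * g * u⁻¹ = g⁻¹ := by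
    intro u hu huN g hg
    have hs2 : scale hP ⟨u, huN⟩ * scale hP ⟨u, huN⟩ = 1 := by
      have h : scaleHom hP (⟨u, huN⟩ * ⟨u, huN⟩) = 1 := by
        rw [show (⟨u, huN⟩ : ↥N) * ⟨u, huN⟩ = 1 from Subtype.ext (hsq u hu), map_one]
      rw [map_mul, Units.ext_iff, Units.val_mul, coe_scaleHom, Units.val_one] at h
      exact h
    have hs : scale hP ⟨u, huN⟩ = -1 := by
      rcases mul_self_eq_one_iff.1 hs2 with h | h
      · exfalso
        have huP : u ∈ P := by
          rw [← hC, Subgroup.mem_centralizer_iff]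
          intro y hy
          have h1 := conj_pt hP ⟨u, huN⟩ (crd hP hy)
          rw [h, one_mul, pt_crd] at h1
          exact (mul_inv_eq_iff_eq_mul.1 h1).symm
        have h2 : orderOf u = 2 := orderOf_eq_prime (by rw [sq, hsq u hu]) (hne u hu)
        exact hp2 ((orderOf_eq_of_mem_prime hP huP (hne u hu)).symm.trans h2)
      · exact h
    have h1 := conj_pt hP ⟨u, huN⟩ (crd hP hg)
    rw [hs, neg_one_mul, pt_crd] at h1
    rw [h1, eq_inv_iff_mul_eq_one]
    nth_rw 2 [← pt_crd hP hg]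
    rw [← pt_add, neg_add_cancel, pt_zero]
  -- the pairs of conjugates
  let T := {q : G × G // IsConj t q.1 ∧ IsConj t q.2 ∧ q.1 * q.2 ∈ S}
  let A := {q : G × G // q.1 * t * q.1⁻¹ * (q.2 * t * q.2⁻¹) ∈ S}
  have hA : (∑ a : G, ∑ b : G, if a * t * a⁻¹ * (b * t * b⁻¹) ∈ S then (1 : ℂ) else 0)
      = (Nat.card A : ℂ) := by
    rw [← Fintype.sum_prod_type', Finset.sum_boole, Nat.card_eq_fintype_card, Fintype.card_subtype]
  have hfib : ∀ u, IsConj t u → Nonempty ({a : G // a * t * a⁻¹ = u} ≃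
      Subgroup.centralizer ({t} : Set G)) := by
    intro u hu
    obtain ⟨g₀, h₀⟩ := isConj_iff.1 hu
    refine ⟨{ toFun := fun a => ⟨g₀⁻¹ * a.1, Subgroup.mem_centralizer_singleton_iff.2 ?_⟩
              invFun := fun x => ⟨g₀ * x.1, ?_⟩
              left_inv := fun a => Subtype.ext (by simp)
              right_inv := fun x => Subtype.ext (by simp) }⟩
    · calc g₀⁻¹ * a.1 * t = g₀⁻¹ * (a.1 * t * a.1⁻¹) * a.1 := by group
        _ = g₀⁻¹ * (g₀ * t * g₀⁻¹) * a.1 := by rw [a.2, h₀]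
        _ = t * (g₀⁻¹ * a.1) := by group
    · calc g₀ * x.1 * t * (g₀ * x.1)⁻¹ = g₀ * (x.1 * t) * x.1⁻¹ * g₀⁻¹ := by group
        _ = g₀ * (t * x.1) * x.1⁻¹ * g₀⁻¹ := by
          rw [Subgroup.mem_centralizer_singleton_iff.1 x.2]
        _ = g₀ * t * g₀⁻¹ := by group
        _ = u := h₀
  have hAT : Nat.card A = Nat.card T * (c * c) := by
    let f : A → T := fun q => ⟨(q.1.1 * t * q.1.1⁻¹, q.1.2 * t * q.1.2⁻¹),
      isConj_iff.2 ⟨_, rfl⟩, isConj_iff.2 ⟨_, rfl⟩, q.2⟩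
    rw [← Nat.card_congr (Equiv.sigmaFiberEquiv f), ← Nat.card_prod, ← Nat.card_prod]
    refine Nat.card_congr ((Equiv.sigmaCongrRight fun q => ?_).trans (Equiv.sigmaEquivProd _ _))
    refine Equiv.trans ?_ (((hfib _ q.2.1).some).prodCongr ((hfib _ q.2.2.1).some))
    exact
      { toFun := fun r => (⟨r.1.1.1, congrArg (fun z : T => z.1.1) r.2⟩,
          ⟨r.1.1.2, congrArg (fun z : T => z.1.2) r.2⟩)
        invFun := fun r => ⟨⟨(r.1.1, r.2.1), by
          show r.1.1 * t * r.1.1⁻¹ * (r.2.1 * t * r.2.1⁻¹) ∈ S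
          rw [r.1.2, r.2.2]; exact q.2.2.2⟩, Subtype.ext (Prod.ext r.1.2 r.2.2)⟩
        left_inv := fun _ => rfl
        right_inv := fun _ => rfl }
  have hmemN : ∀ q : T, q.1.1 ∈ N := by
    intro q
    obtain ⟨hgP, hg1⟩ := (hS _).1 q.2.2.2
    set g := q.1.1 * q.1.2
    have hu := hsq _ q.2.1
    have hw := hsq _ q.2.2.1
    have hconj : q.1.1 * g * q.1.1⁻¹ = g⁻¹ := by
      simp only [g, mul_inv_rev]
      rw [inv_eq_of_mul_eq_one_right hu, inv_eq_of_mul_eq_one_right hw, ← mul_assoc, hu, one_mul]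
    have hz := eq_zpowers_of_mem_prime hP hgP hg1
    rw [Subgroup.mem_normalizer_iff]
    intro y
    rw [← hz]
    constructor
    · rintro ⟨j, rfl⟩
      exact ⟨-j, by simp only [← conj_zpow, hconj, inv_zpow, zpow_neg]⟩
    · rintro ⟨j, hj⟩
      refine ⟨-j, ?_⟩
      calc g ^ (-j) = q.1.1 * g ^ j * q.1.1⁻¹ := by rw [← conj_zpow, hconj, inv_zpow, zpow_neg]
        _ = q.1.1 * (q.1.1 * y * q.1.1⁻¹) * q.1.1⁻¹ := by rw [show g ^ j = _ from hj]
        _ = (q.1.1 * q.1.1) * y * (q.1.1 * q.1.1)⁻¹ := by group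
        _ = y := by rw [hu, one_mul, inv_one, mul_one]
  rw [hA, hAT]
  by_cases hex : ∃ u : G, u ∈ N ∧ IsConj t u
  · rw [if_pos hex]
    obtain ⟨u₀, hu₀N, hu₀⟩ := hex
    have hpow : ∀ u, IsConj t u → u ∈ N → ∀ g ∈ P, IsConj t (u * g) := by
      intro u hu huN g hg
      refine hu.trans (isConj_iff.2 ?_)
      obtain ⟨h, hh⟩ : ∃ h ∈ P, h * h = g := by
        obtain ⟨j, hj⟩ : Odd p := hp.odd_of_ne_two hp2
        refine ⟨g ^ (j + 1), pow_mem hg _, ?_⟩
        have hgp : g ^ p = 1 :=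
          orderOf_dvd_iff_pow_eq_one.1 (hP ▸ Subgroup.orderOf_dvd_natCard P hg)
        rw [← pow_add, show j + 1 + (j + 1) = p + 1 by omega, pow_succ, hgp, one_mul]
      refine ⟨h⁻¹, ?_⟩
      have h' := hinv u hu huN h hh.1
      rw [← hh.2]
      calc h⁻¹ * u * h⁻¹⁻¹ = (u * h * u⁻¹) * u * h := by rw [h', inv_inv]
        _ = u * (h * h) := by group
    have e : Nat.card T = p * (p - 1) := by
      have hcS : Nat.card {g // g ∈ S} = p - 1 := by
        have hS' : S = (Finset.univ.filter (· ∈ P)).erase 1 := by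
          ext g; simp [hS, and_comm]
        rw [Nat.card_eq_fintype_card, Fintype.card_coe, hS',
          Finset.card_erase_of_mem (by simp), ← Fintype.card_subtype, ← Nat.card_eq_fintype_card, hP]
      rw [← hcS, ← hP, ← Nat.card_prod]
      refine (Nat.card_congr (Equiv.ofBijective
        (fun r : P × {g // g ∈ S} => (⟨(u₀ * r.1, u₀ * r.1 * r.2.1),
          hpow u₀ hu₀ hu₀N _ r.1.2,
          hpow _ (hpow u₀ hu₀ hu₀N _ r.1.2) (mul_mem hu₀N (Subgroup.le_normalizer r.1.2)) _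
            ((hS _).1 r.2.2).1,
          by rw [← mul_assoc, hsq _ (hpow u₀ hu₀ hu₀N _ r.1.2), one_mul]; exact r.2.2⟩ : T))
        ⟨?_, ?_⟩)).symm
      · rintro ⟨a, g⟩ ⟨a', g'⟩ h
        have h1 : u₀ * (a : G) = u₀ * a' := congrArg (fun z : T => z.1.1) h
        have h2 : u₀ * (a : G) * g.1 = u₀ * a' * g'.1 := congrArg (fun z : T => z.1.2) h
        rw [h1] at h2
        exact Prod.ext (Subtype.ext (mul_left_cancel h1)) (Subtype.ext (mul_left_cancel h2))
      · intro q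
        have hq := hmemN q
        have hmem : u₀⁻¹ * q.1.1 ∈ P := by
          rw [← hC, Subgroup.mem_centralizer_iff]
          intro g hg
          have h1 := hinv _ q.2.1 hq g hg
          have h2 := hinv u₀ hu₀ hu₀N g hg
          rw [← h2] at h1
          calc g * (u₀⁻¹ * q.1.1) = u₀⁻¹ * (u₀ * g * u₀⁻¹) * q.1.1 := by group
            _ = u₀⁻¹ * (q.1.1 * g * q.1.1⁻¹) * q.1.1 := by rw [h1]
            _ = u₀⁻¹ * q.1.1 * g := by group
        refine ⟨(⟨_, hmem⟩, ⟨_, q.2.2.2⟩), Subtype.ext (Prod.ext (mul_inv_cancel_left _ _) ?_)⟩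
        show u₀ * (u₀⁻¹ * q.1.1) * (q.1.1 * q.1.2) = q.1.2
        rw [mul_inv_cancel_left, ← mul_assoc, hsq _ q.2.1, one_mul]
    rw [e]
    push_cast [Nat.cast_sub hp.one_le]
    ring
  · rw [if_neg hex]
    haveI : IsEmpty T := ⟨fun q => hex ⟨q.1.1, hmemN q, q.2.1⟩⟩
    simp

/-- **The class equation at an involution.** Besides the degree equation: integers `v`, `y` with the
column relation, the bound by `|C(t)|` and the number of ways of writing elements of `P` as products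
of two conjugates of `t`. The entries of `l` are coefficient, degree and value at `t`. -/
theorem exists_involution_equation [IsSimpleGroup G] (hG : ¬ IsMulCommutative G) (P : Subgroup G)
    (hP : Nat.card P = p) (hC : Subgroup.centralizer (P : Set G) = P) (e k : ℕ)
    (he : Nat.card (Subgroup.normalizer (P : Set G)) = p * e) (hk : k * e = p - 1) (h2 : 2 ≤ k)
    {t : G} (ht : orderOf t = 2)
    [Decidable (∃ u : G, u ∈ Subgroup.normalizer (P : Set G) ∧ IsConj t u)] :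
    ∃ (l : List (ℤ × ℕ × ℤ)) (σ β : ℤ) (d : ℕ) (y : ℤ), (σ = 1 ∨ σ = -1) ∧
      (l.map fun r => r.1 * r.1).sum + (k : ℤ) * (β * β) + 1 = (e : ℤ) - 2 * σ * β ∧
      1 + (l.map fun r => r.1 * (r.2.1 : ℤ)).sum + ((k : ℤ) * β + σ) * (d : ℤ) = 0 ∧
      1 + (l.map fun r => r.1 * r.2.2).sum + ((k : ℤ) * β + σ) * y = 0 ∧
      (∀ r ∈ l, r.1 ≠ 0 ∧ 1 < r.2.1 ∧ r.2.1 ∣ Nat.card G ∧ (p : ℤ) ∣ (r.2.1 : ℤ) - r.1 ∧
        2 ∣ (r.2.1 : ℤ) - r.2.2 ∧ -(r.2.1 : ℤ) < r.2.2 ∧ r.2.2 < r.2.1) ∧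
      (1 < d ∧ d ∣ Nat.card G ∧ (p : ℤ) ∣ (d : ℤ) - (β - σ * (e : ℤ)) ∧ 2 ∣ (d : ℤ) - y ∧
        -(d : ℤ) < y ∧ y < d) ∧
      1 + (l.map fun r => r.2.1 * r.2.1).sum + k * (d * d) ≤ Nat.card G ∧
      1 + (l.map fun r => r.2.2 * r.2.2).sum + (k : ℤ) * (y * y)
        ≤ Nat.card (Subgroup.centralizer ({t} : Set G)) ∧
      (if ∃ u : G, u ∈ Subgroup.normalizer (P : Set G) ∧ IsConj t u then
          (p : ℚ) * (Nat.card (Subgroup.centralizer ({t} : Set G)) : ℚ) ^ 2 else 0)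
        = (Nat.card G : ℚ) * (1 + (l.map fun r => (r.1 : ℚ) * (r.2.2 : ℚ) ^ 2 / r.2.1).sum
            + ((k : ℚ) * β + σ) * (y : ℚ) ^ 2 / d) := by
  classical
  haveI := Fintype.ofFinite G
  have hp := (Fact.out : p.Prime)
  have hp2 : p ≠ 2 := by
    rintro rfl
    have : k ≤ 1 := Nat.le_of_dvd one_pos ⟨e, by simpa using hk.symm⟩
    omega
  obtain ⟨b, dg, X, χ₀, σ, β, d, hσ, hXc, hχX, hb0, hone, hall, hnorm, hdeg, hvan, hsumP⟩ :=
    exists_data hG P hP hC e k he hk (by omega)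
  obtain ⟨ψ, hψ⟩ : X.Nonempty := Finset.card_pos.1 (by omega)
  have hd0 : dg χ₀ = 1 := by
    have h := (hall χ₀).1
    rw [hone] at h
    exact_mod_cast h.symm
  have hvex : ∀ χ : Cfsg.IrrCharacter G, ∃ v : ℤ, (χ : G → ℂ) t = v ∧
      (χ ≠ χ₀ → 2 ∣ (dg χ : ℤ) - v ∧ -(dg χ : ℤ) < v ∧ v < dg χ) := by
    intro χ
    by_cases hχ : χ = χ₀
    · exact ⟨1, by rw [hχ, hone, Int.cast_one], fun h => absurd hχ h⟩
    · obtain ⟨v, hv, hv'⟩ := exists_involution_value hG χ (hall χ).1 ((hall χ).2.2.1 hχ) ht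
      exact ⟨v, hv, fun _ => hv'⟩
  choose v hv hv' using hvex
  have hv0 : v χ₀ = 1 := by
    have h := hv χ₀
    rw [hone] at h
    exact_mod_cast h.symm
  have htP : ∀ g : G, g * t * g⁻¹ ∉ P := by
    intro g hg
    have h1 : g * t * g⁻¹ ≠ 1 := fun h => by
      rw [conj_eq_one_iff.1 h, orderOf_one] at ht; omega
    have := orderOf_eq_of_mem_prime hP hg h1
    rw [orderOf_conj_eq, ht] at this
    exact hp2 this.symm
  have hrel : ∀ φ ∈ X, ∑ χ, b χ * v χ + σ * v φ = 0 := by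
    intro φ hφ
    have h := hvan t htP φ hφ
    simp only [hv] at h
    exact_mod_cast h
  have hX : ∀ φ ∈ X, b φ = β ∧ dg φ = d ∧ v φ = v ψ := fun φ hφ =>
    ⟨((hall φ).2.2.2.2 hφ).1, ((hall φ).2.2.2.2 hφ).2.1, by
      have h1 := hrel φ hφ
      have h2 := hrel ψ hψ
      rcases hσ with rfl | rfl <;> linarith⟩
  let S := (Finset.univ \ X).filter fun χ => b χ ≠ 0 ∧ χ ≠ χ₀
  have hSne : ∀ χ ∈ S, χ ≠ χ₀ ∧ χ ∉ X ∧ b χ ≠ 0 := fun χ h => by
    obtain ⟨h1, h2, h3⟩ := Finset.mem_filter.1 h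
    exact ⟨h3, (Finset.mem_sdiff.1 h1).2, h2⟩
  have hχd : χ₀ ∈ Finset.univ \ X := Finset.mem_sdiff.2 ⟨Finset.mem_univ _, hχX⟩
  have hS : S ⊆ (Finset.univ \ X).erase χ₀ := fun χ h =>
    Finset.mem_erase.2 ⟨(hSne χ h).1, Finset.mem_sdiff.2 ⟨Finset.mem_univ _, (hSne χ h).2.1⟩⟩
  -- split a sum over the characters weighted by `b`
  have split : ∀ {R : Type} [CommRing R] (F : Cfsg.IrrCharacter G → R) (w : R),
      (∀ φ ∈ X, F φ = w) → (∀ χ, b χ = 0 → F χ = 0) →
      ∑ χ, F χ = F χ₀ + ∑ χ ∈ S, F χ + (k : R) * w := by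
    intro R _ F w hF hF0
    rw [← Finset.sum_sdiff (Finset.subset_univ X), ← Finset.add_sum_erase _ _ hχd,
      Finset.sum_congr rfl hF, Finset.sum_const, hXc, nsmul_eq_mul,
      Finset.sum_subset hS fun χ h hn => hF0 χ (by
        by_contra hne
        obtain ⟨h3, h1⟩ := Finset.mem_erase.1 h
        exact hn (Finset.mem_filter.2 ⟨h1, hne, h3⟩))]
  have lower : ∀ {R : Type} [CommRing R] [LinearOrder R] [IsStrictOrderedRing R]
      (F : Cfsg.IrrCharacter G → R) (w : R), (∀ φ ∈ X, F φ = w) → (∀ χ, 0 ≤ F χ) →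
      F χ₀ + ∑ χ ∈ S, F χ + (k : R) * w ≤ ∑ χ, F χ := by
    intro R _ _ _ F w hF hF0
    rw [← Finset.sum_sdiff (Finset.subset_univ X), ← Finset.add_sum_erase _ _ hχd,
      Finset.sum_congr rfl hF, Finset.sum_const, hXc, nsmul_eq_mul]
    gcongr
    exact fun χ _ _ => hF0 χ
  refine ⟨S.toList.map fun χ => (b χ, dg χ, v χ), σ, β, d, v ψ, hσ, ?_, ?_, ?_, ?_,
    ⟨?_, ?_, ?_, ?_⟩, ?_, ?_, ?_⟩
  · simp only [List.map_map, Function.comp_def, Finset.sum_map_toList]
    have h := split (fun χ => b χ * b χ) (β * β) (fun φ hφ => by simp only [(hX φ hφ).1])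
      fun χ h => by simp only [h, mul_zero]
    rw [hnorm, hb0] at h
    linear_combination -h
  · simp only [List.map_map, Function.comp_def, Finset.sum_map_toList]
    have h := split (fun χ => b χ * (dg χ : ℤ)) (β * (d : ℤ))
      (fun φ hφ => by simp only [(hX φ hφ).1, (hX φ hφ).2.1]) fun χ h => by simp only [h, zero_mul]
    rw [h, hb0, hd0] at hdeg
    push_cast at hdeg
    linear_combination hdeg
  · simp only [List.map_map, Function.comp_def, Finset.sum_map_toList]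
    have h := split (fun χ => b χ * v χ) (β * v ψ)
      (fun φ hφ => by simp only [(hX φ hφ).1, (hX φ hφ).2.2]) fun χ h => by simp only [h, zero_mul]
    have h' := hrel ψ hψ
    rw [h, hb0, hv0] at h'
    linear_combination h'
  · intro r hr
    obtain ⟨χ, hχ, rfl⟩ := List.mem_map.1 hr
    obtain ⟨h1, h2, h3⟩ := hSne χ (Finset.mem_toList.1 hχ)
    exact ⟨h3, (hall χ).2.2.1 h1, (hall χ).2.1, (hall χ).2.2.2.1 h2, hv' χ h1⟩
  · exact (hX ψ hψ).2.1 ▸ (hall ψ).2.2.1 (fun h => hχX (h ▸ hψ))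
  · exact (hX ψ hψ).2.1 ▸ (hall ψ).2.1
  · have h := ((hall ψ).2.2.2.2 hψ).2.2
    rwa [(hX ψ hψ).2.1] at h
  · exact (hX ψ hψ).2.1 ▸ hv' ψ (fun h => hχX (h ▸ hψ))
  · simp only [List.map_map, Function.comp_def, Finset.sum_map_toList]
    have hsq : ∑ χ, ((dg χ : ℤ)) ^ 2 = (Nat.card G : ℤ) := by
      have h := sum_degree_sq (G := G)
      simp only [fun χ => (hall χ).1] at h
      exact_mod_cast h
    have h := lower (fun χ => ((dg χ : ℤ)) ^ 2) ((d : ℤ) ^ 2)
      (fun φ hφ => by simp only [(hX φ hφ).2.1]) fun χ => sq_nonneg _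
    rw [hsq, hd0] at h
    simp only [sq, Nat.cast_one, one_mul] at h
    exact_mod_cast (by push_cast; linarith :
      ((1 + ∑ χ ∈ S, dg χ * dg χ + k * (d * d) : ℕ) : ℤ) ≤ (Nat.card G : ℤ))
  · simp only [List.map_map, Function.comp_def, Finset.sum_map_toList]
    have hcol : ∑ χ, v χ * v χ = (Nat.card (Subgroup.centralizer ({t} : Set G)) : ℤ) := by
      have h := sum_irr_mul_conj_of_isConj (IsConj.refl t)
      simp only [hv, map_intCast] at h
      exact_mod_cast h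
    have h := lower (fun χ => v χ * v χ) (v ψ * v ψ)
      (fun φ hφ => by simp only [(hX φ hφ).2.2]) fun χ => mul_self_nonneg _
    rw [hcol, hv0] at h
    linarith
  · simp only [List.map_map, Function.comp_def, Finset.sum_map_toList]
    have key := ClassPairs.card_pairs t t (Finset.univ.filter fun g => g ∈ P ∧ g ≠ 1)
    rw [card_pairs_eq hP hC hp2 ht _ (fun g => by simp)] at key
    simp only [hsumP, hv, fun χ => (hall χ).1] at key
    have hk' : ((p : ℤ) - 1) = (k : ℤ) * (e : ℤ) := by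
      have : 1 ≤ p := hp.one_le
      rw [show ((p : ℤ) - 1) = ((p - 1 : ℕ) : ℤ) by omega, ← hk]
      push_cast; ring
    have hk'' : ((p : ℂ) - 1) = (k : ℂ) * (e : ℂ) := by exact_mod_cast hk'
    set F : Cfsg.IrrCharacter G → ℂ := fun χ =>
      (b χ : ℂ) * ((v χ : ℂ) * (v χ : ℂ) / (dg χ : ℂ)) with hF
    have hterm : ∀ χ : Cfsg.IrrCharacter G,
        (((((p : ℤ) - 1) * b χ + if χ ∈ X then σ * (e : ℤ) else 0) : ℤ) : ℂ)
          * ((v χ : ℂ) * (v χ : ℂ) / (dg χ : ℂ))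
        = ((p : ℂ) - 1) * F χ
          + if χ ∈ X then (σ : ℂ) * (e : ℂ) * ((v ψ : ℂ) * (v ψ : ℂ) / (d : ℂ)) else 0 := by
      intro χ
      by_cases hχ : χ ∈ X
      · simp only [hF, if_pos hχ, (hX χ hχ).2.1, (hX χ hχ).2.2]
        push_cast; ring
      · simp only [hF, if_neg hχ]
        push_cast; ring
    rw [Finset.sum_congr rfl fun χ _ => hterm χ, Finset.sum_add_distrib, ← Finset.mul_sum,
      Finset.sum_ite_mem, Finset.univ_inter, Finset.sum_const, hXc, nsmul_eq_mul] at key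
    rw [split F ((β : ℂ) * ((v ψ : ℂ) * (v ψ : ℂ) / (d : ℂ)))
      (fun φ hφ => by simp only [hF, (hX φ hφ).1, (hX φ hφ).2.1, (hX φ hφ).2.2])
      (fun χ h => by simp only [hF, h, Int.cast_zero, zero_mul])] at key
    have hp1 : (p : ℂ) - 1 ≠ 0 := by
      rw [sub_ne_zero]
      exact_mod_cast hp.one_lt.ne'
    have hF0 : F χ₀ = 1 := by simp [hF, hb0, hv0, hd0]
    have key' : (if ∃ u : G, u ∈ Subgroup.normalizer (P : Set G) ∧ IsConj t u then
          (p : ℂ) * (Nat.card (Subgroup.centralizer ({t} : Set G)) : ℂ) ^ 2 else 0)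
        = (Nat.card G : ℂ) * (1 + ∑ χ ∈ S, (b χ : ℂ) * (v χ : ℂ) ^ 2 / (dg χ : ℂ)
            + ((k : ℂ) * β + σ) * (v ψ : ℂ) ^ 2 / (d : ℂ)) := by
      refine mul_left_cancel₀ hp1 ?_
      have hsum : ∑ χ ∈ S, F χ = ∑ χ ∈ S, (b χ : ℂ) * (v χ : ℂ) ^ 2 / (dg χ : ℂ) :=
        Finset.sum_congr rfl fun χ _ => by simp only [hF]; ring
      rw [hF0, hsum] at key
      split_ifs at key ⊢ <;> rw [hk''] at key ⊢ <;> linear_combination key
    split_ifs with h <;> simp only [h, if_true, if_false] at key'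
    · exact_mod_cast key'
    · exact_mod_cast key'

end CfsgLib.Small.Degree

namespace CfsgLib.Small.Degree

universe u

variable {G : Type u} [Group G] [Finite G] {p : ℕ} [Fact p.Prime]

theorem length_le_sum_sq {l : List (ℤ × ℕ × ℤ)} (h : ∀ r ∈ l, r.1 ≠ 0) :
    (l.length : ℤ) ≤ (l.map fun r => r.1 * r.1).sum := by
  induction l with
  | nil => simp
  | cons a t ih =>
    have h1 := ih fun q hq => h q (List.mem_cons_of_mem _ hq)
    have h2 : 1 ≤ a.1 * a.1 := by have := mul_self_pos.2 (h a List.mem_cons_self); omega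
    simp only [List.map_cons, List.sum_cons, List.length_cons, Nat.cast_succ]
    omega

theorem value_identity (s θ d v y : ℚ) (hθ : θ ≠ 0) (hd : d ≠ 0) :
    (1 + s * v ^ 2 / θ + -s * y ^ 2 / d) * (θ * d) = θ * d + s * v ^ 2 * d - s * y ^ 2 * θ := by
  field_simp
  ring

set_option maxHeartbeats 800000 in
/-- **Index two.** `1 + s θ = s d`, every involution is conjugate into `N(P)` and
`p θ d |C(t)|² = |G| (θ - v)²`, where `v` is its value at the character of degree `θ`. -/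
theorem involution_two [IsSimpleGroup G] (hG : ¬ IsMulCommutative G) (P : Subgroup G)
    (hP : Nat.card P = p) (hC : Subgroup.centralizer (P : Set G) = P) (k : ℕ)
    (he : Nat.card (Subgroup.normalizer (P : Set G)) = p * 2) (hk : k * 2 = p - 1) (hk3 : 3 ≤ k)
    {t : G} (ht : orderOf t = 2) :
    ∃ (s : ℤ) (θ d : ℕ) (v : ℤ), (s = 1 ∨ s = -1) ∧ s * (d : ℤ) = 1 + s * (θ : ℤ) ∧
      1 < θ ∧ θ ∣ Nat.card G ∧ (p : ℤ) ∣ (θ : ℤ) - s ∧
      1 < d ∧ d ∣ Nat.card G ∧ (p : ℤ) ∣ (d : ℤ) - 2 * s ∧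
      θ * θ + k * (d * d) < Nat.card G ∧
      2 ∣ (θ : ℤ) - v ∧ -(θ : ℤ) < v ∧ v < θ ∧
      1 + v * v + (k : ℤ) * ((1 + s * v) * (1 + s * v))
        ≤ Nat.card (Subgroup.centralizer ({t} : Set G)) ∧
      (∃ u : G, u ∈ Subgroup.normalizer (P : Set G) ∧ IsConj t u) ∧
      ((p * (θ * d) * Nat.card (Subgroup.centralizer ({t} : Set G)) ^ 2 : ℕ) : ℤ)
        = (Nat.card G : ℤ) * ((θ : ℤ) - v) ^ 2 := by
  classical
  obtain ⟨l, σ, β, d, y, hσ, hn, hd, hy, hl, ⟨hd1, hd2, hd3, hd4, hd5, hd6⟩, hsq, hcol, hcl⟩ :=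
    exists_involution_equation hG P hP hC 2 k he hk (by omega) ht
  have hlen := length_le_sum_sq fun r hr => (hl r hr).1
  have hl0 : 0 ≤ (l.map fun r => r.1 * r.1).sum := le_trans (Int.natCast_nonneg _) hlen
  push_cast at hn
  have hβ : β = 0 := by
    by_contra h
    have h1 : 1 ≤ β * β := by have := mul_self_pos.2 h; omega
    have hk' : (3 : ℤ) ≤ k := by exact_mod_cast hk3
    have hβσ : β = -σ := by
      rcases hσ with rfl | rfl
      · by_contra h2
        rcases (show 1 ≤ β ∨ β ≤ -2 by omega) with h3 | h3 <;> nlinarith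
      · by_contra h2
        rcases (show 2 ≤ β ∨ β ≤ -1 by omega) with h3 | h3 <;> nlinarith
    subst hβσ
    have hσσ : σ * σ = 1 := by rcases hσ with rfl | rfl <;> norm_num
    have h3 : (k : ℤ) ≤ 3 := by nlinarith
    have hk'' : (k : ℤ) = 3 := le_antisymm h3 hk'
    rw [hk''] at hn hd
    have hz : l = [] := List.length_eq_zero_iff.1 (by nlinarith)
    subst hz
    simp only [List.map_nil, List.sum_nil] at hd
    rcases hσ with rfl | rfl <;> omega
  subst hβ
  obtain _ | ⟨a, _ | ⟨b, w⟩⟩ := l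
  · simp at hn
  · obtain ⟨a0, a1, a2, a3, a4, a5, a6⟩ := hl a List.mem_cons_self
    obtain ⟨s, θ, v⟩ := a
    simp only [List.map_cons, List.map_nil, List.sum_cons, List.sum_nil, add_zero, mul_zero,
      zero_add] at hn hd hy hcol hsq hcl
    dsimp only at hn hd hy hcol hsq hcl a0 a1 a2 a3 a4 a5 a6
    have hs : s = 1 ∨ s = -1 := mul_self_eq_one_iff.1 (by linarith)
    have hσs : σ = -s := by rcases hs with rfl | rfl <;> rcases hσ with rfl | rfl <;> omega
    subst hσs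
    have hy' : y = s * (1 + s * v) := by rcases hs with rfl | rfl <;> linarith
    have hθd : s * (d : ℤ) = 1 + s * θ := by linarith
    have hcol' : 1 + v * v + (k : ℤ) * ((1 + s * v) * (1 + s * v))
        ≤ Nat.card (Subgroup.centralizer ({t} : Set G)) := by
      rw [hy'] at hcol
      rcases hs with rfl | rfl <;> linarith
    have hθ0 : (θ : ℚ) ≠ 0 := Nat.cast_ne_zero.2 (by omega)
    have hd0 : (d : ℚ) ≠ 0 := Nat.cast_ne_zero.2 (by omega)
    have hyq : (y : ℚ) = (s : ℚ) * (1 + (s : ℚ) * v) := by exact_mod_cast hy'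
    have hdq : (s : ℚ) * (d : ℚ) = 1 + (s : ℚ) * θ := by exact_mod_cast hθd
    have hval : (Nat.card G : ℚ) * (1 + (s : ℚ) * (v : ℚ) ^ 2 / θ
        + ((k : ℚ) * (0 : ℤ) + ((-s : ℤ) : ℚ)) * (y : ℚ) ^ 2 / d) * ((θ : ℚ) * d)
        = (Nat.card G : ℚ) * ((θ : ℚ) - v) ^ 2 := by
      have e := value_identity (s : ℚ) (θ : ℚ) (d : ℚ) (v : ℚ) (y : ℚ) hθ0 hd0
      rw [mul_assoc, show ((k : ℚ) * (0 : ℤ) + ((-s : ℤ) : ℚ)) = -(s : ℚ) by push_cast; ring, e, hyq]
      congr 1
      rcases hs with rfl | rfl <;> push_cast at hdq ⊢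
      · rw [show (d : ℚ) = 1 + θ by linarith]; ring
      · rw [show (d : ℚ) = θ - 1 by linarith]; ring
    have hex : ∃ u : G, u ∈ Subgroup.normalizer (P : Set G) ∧ IsConj t u := by
      by_contra hex
      rw [if_neg hex] at hcl
      rw [← hcl, zero_mul] at hval
      have h0 : ((θ : ℚ) - v) ^ 2 = 0 := by
        have hG0 : (Nat.card G : ℚ) ≠ 0 := Nat.cast_ne_zero.2 Nat.card_pos.ne'
        exact (mul_eq_zero.1 hval.symm).resolve_left hG0
      have : (θ : ℤ) = v := by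
        have := sub_eq_zero.1 (pow_eq_zero_iff two_ne_zero |>.1 h0)
        exact_mod_cast this
      omega
    rw [if_pos hex] at hcl
    rw [← hcl] at hval
    refine ⟨s, θ, d, v, hs, hθd, a1, a2, a3, hd1, hd2, ?_, ?_, a4, a5, a6, hcol', hex, ?_⟩
    · convert hd3 using 1; push_cast; ring
    · omega
    · have h : ((p * (θ * d) * Nat.card (Subgroup.centralizer ({t} : Set G)) ^ 2 : ℕ) : ℚ)
          = (((Nat.card G : ℤ) * ((θ : ℤ) - v) ^ 2 : ℤ) : ℚ) := by
        push_cast; rw [← hval]; ring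
      exact_mod_cast h
  · simp only [List.length_cons] at hlen
    push_cast at hlen
    omega

end CfsgLib.Small.Degree
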