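import Cfsg.Agent.Small.DegreeEquation
import Cfsg.Agent.Small.OrderTools

/-!
# The degree equation for normaliser index two and three
-/

namespace CfsgLib.Small.Degree

universe u

variable {G : Type u} [Group G] [Finite G] {p : ℕ} [Fact p.Prime]

/-- With `k > e + 1` exceptional characters the other coefficients have square sum `e - 1`. -/
theorem exists_degree_equation_of_lt [IsSimpleGroup G] (hG : ¬ IsMulCommutative G) (P : Subgroup G)
    (hP : Nat.card P = p) (hC : Subgroup.centralizer (P : Set G) = P) (e k : ℕ)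
    (he : Nat.card (Subgroup.normalizer (P : Set G)) = p * e) (hk : k * e = p - 1)
    (hke : e + 1 < k) :
    ∃ (l : List (ℤ × ℕ)) (σ : ℤ) (d : ℕ), (σ = 1 ∨ σ = -1) ∧
      (l.map fun q => q.1 * q.1).sum + 1 = (e : ℤ) ∧
      1 + (l.map fun q => q.1 * (q.2 : ℤ)).sum + σ * (d : ℤ) = 0 ∧
      (∀ q ∈ l, q.1 ≠ 0 ∧ 1 < q.2 ∧ q.2 ∣ Nat.card G ∧ (p : ℤ) ∣ (q.2 : ℤ) - q.1) ∧
      1 < d ∧ d ∣ Nat.card G ∧ (p : ℤ) ∣ (d : ℤ) + σ * (e : ℤ) ∧
      1 + (l.map fun q => q.2 * q.2).sum + k * (d * d) ≤ Nat.card G := by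
  obtain ⟨l, σ, β, d, hσ, hn, hd, hl, hd1, hd2, hd3, hd4⟩ :=
    exists_degree_equation hG P hP hC e k he hk (by omega)
  have hnonneg : 0 ≤ (l.map fun q => q.1 * q.1).sum := List.sum_nonneg fun x hx => by
    obtain ⟨q, -, rfl⟩ := List.mem_map.1 hx
    exact mul_self_nonneg _
  have hβ : β = 0 := by
    by_contra h
    have h1 : 1 ≤ β * β := by have := mul_self_pos.2 h; omega
    have hk' : (e : ℤ) + 2 ≤ k := by exact_mod_cast hke
    have h2 : 0 ≤ (e : ℤ) := Int.natCast_nonneg e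
    rcases hσ with rfl | rfl <;> nlinarith [mul_self_nonneg (β - 1), mul_self_nonneg (β + 1)]
  subst hβ
  refine ⟨l, σ, d, hσ, by linarith, by linarith, hl, hd1, hd2, ?_, hd4⟩
  have : (d : ℤ) + σ * e = (d : ℤ) - (0 - σ * e) := by ring
  rw [this]; exact hd3

theorem sum_sq_pos {l : List (ℤ × ℕ)} (h : ∀ q ∈ l, q.1 ≠ 0) :
    (l.length : ℤ) ≤ (l.map fun q => q.1 * q.1).sum := by
  induction l with
  | nil => simp
  | cons a t ih =>
    have h1 := ih fun q hq => h q (List.mem_cons_of_mem _ hq)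
    have h2 : 1 ≤ a.1 * a.1 := by have := mul_self_pos.2 (h a List.mem_cons_self); omega
    simp only [List.map_cons, List.sum_cons, List.length_cons, Nat.cast_succ]
    omega

theorem unit_of_sq_one {a : ℤ} (h : a * a = 1) : a = 1 ∨ a = -1 := mul_self_eq_one_iff.1 h

/-- **Index two.** -/
theorem degree_two [IsSimpleGroup G] (hG : ¬ IsMulCommutative G) (P : Subgroup G)
    (hP : Nat.card P = p) (hC : Subgroup.centralizer (P : Set G) = P) (k : ℕ)
    (he : Nat.card (Subgroup.normalizer (P : Set G)) = p * 2) (hk : k * 2 = p - 1) (hke : 3 < k) :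
    ∃ (s σ : ℤ) (θ d : ℕ), (s = 1 ∨ s = -1) ∧ (σ = 1 ∨ σ = -1) ∧
      1 + s * (θ : ℤ) + σ * (d : ℤ) = 0 ∧ 1 < θ ∧ θ ∣ Nat.card G ∧ (p : ℤ) ∣ (θ : ℤ) - s ∧
      1 < d ∧ d ∣ Nat.card G ∧ (p : ℤ) ∣ (d : ℤ) + σ * 2 ∧ θ * θ + k * (d * d) < Nat.card G := by
  obtain ⟨l, σ, d, hσ, hn, hd, hl, hd1, hd2, hd3, hd4⟩ :=
    exists_degree_equation_of_lt hG P hP hC 2 k he hk hke
  have hlen := sum_sq_pos fun q hq => (hl q hq).1
  obtain _ | ⟨a, _ | ⟨b, t⟩⟩ := l
  · simp at hn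
  · obtain ⟨h0, h1, h2, h3⟩ := hl a List.mem_cons_self
    simp only [List.map_cons, List.map_nil, List.sum_cons, List.sum_nil, add_zero] at hn hd hd4
    refine ⟨a.1, σ, a.2, d, unit_of_sq_one (by norm_num at hn ⊢; linarith), hσ, hd, h1, h2, h3, hd1,
      hd2, ?_, by omega⟩
    exact_mod_cast hd3
  · simp only [List.length_cons] at hlen
    push_cast at hlen hn
    omega

/-- **Index three.** -/
theorem degree_three [IsSimpleGroup G] (hG : ¬ IsMulCommutative G) (P : Subgroup G)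
    (hP : Nat.card P = p) (hC : Subgroup.centralizer (P : Set G) = P) (k : ℕ)
    (he : Nat.card (Subgroup.normalizer (P : Set G)) = p * 3) (hk : k * 3 = p - 1) (hke : 4 < k) :
    ∃ (s s' σ : ℤ) (θ θ' d : ℕ), (s = 1 ∨ s = -1) ∧ (s' = 1 ∨ s' = -1) ∧ (σ = 1 ∨ σ = -1) ∧
      1 + s * (θ : ℤ) + s' * (θ' : ℤ) + σ * (d : ℤ) = 0 ∧
      (1 < θ ∧ θ ∣ Nat.card G ∧ (p : ℤ) ∣ (θ : ℤ) - s) ∧
      (1 < θ' ∧ θ' ∣ Nat.card G ∧ (p : ℤ) ∣ (θ' : ℤ) - s') ∧
      1 < d ∧ d ∣ Nat.card G ∧ (p : ℤ) ∣ (d : ℤ) + σ * 3 ∧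
      θ * θ + θ' * θ' + k * (d * d) < Nat.card G := by
  obtain ⟨l, σ, d, hσ, hn, hd, hl, hd1, hd2, hd3, hd4⟩ :=
    exists_degree_equation_of_lt hG P hP hC 3 k he hk hke
  have hlen := sum_sq_pos fun q hq => (hl q hq).1
  obtain _ | ⟨a, _ | ⟨b, _ | ⟨c, t⟩⟩⟩ := l
  · simp at hn
  · obtain ⟨h0, -, -, -⟩ := hl a List.mem_cons_self
    simp only [List.map_cons, List.map_nil, List.sum_cons, List.sum_nil, add_zero] at hn
    have : a.1 * a.1 = 2 := by norm_num at hn ⊢; linarith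
    have hle : -1 ≤ a.1 ∧ a.1 ≤ 1 := by constructor <;> nlinarith
    rcases (show a.1 = -1 ∨ a.1 = 0 ∨ a.1 = 1 by omega) with h | h | h <;> simp [h] at this
  · obtain ⟨h0, h1, h2, h3⟩ := hl a List.mem_cons_self
    obtain ⟨k0, k1, k2, k3⟩ := hl b (List.mem_cons_of_mem _ List.mem_cons_self)
    simp only [List.map_cons, List.map_nil, List.sum_cons, List.sum_nil, add_zero] at hn hd hd4
    norm_num at hn
    have ha := mul_self_pos.2 h0
    have hb := mul_self_pos.2 k0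
    refine ⟨a.1, b.1, σ, a.2, b.2, d, unit_of_sq_one (by omega), unit_of_sq_one (by omega), hσ,
      by linarith, ⟨h1, h2, h3⟩, ⟨k1, k2, k3⟩, hd1, hd2, ?_, by omega⟩
    exact_mod_cast hd3
  · simp only [List.length_cons] at hlen
    push_cast at hlen hn
    omega

/-- A Sylow subgroup of order `p` with normaliser of order `p·e`, `[N:C] = e`, centralises only
itself. -/
theorem centralizer_eq_of_relIndex [IsSimpleGroup G] (hG : ¬ IsMulCommutative G) (P : Sylow p G)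
    (hP : Nat.card (P : Subgroup G) = p) {e : ℕ}
    (hN : Nat.card (Subgroup.normalizer ((P : Subgroup G) : Set G)) = p * e)
    (hfilter : (Nat.divisors (p - 1)).filter (fun f => f ∣ p * e ∧ f ≠ 1) = {e}) :
    Subgroup.centralizer ((P : Subgroup G) : Set G) = (P : Subgroup G) := by
  have h := relIndex_centralizer_mem hG P hP hN
  rw [hfilter, Finset.mem_singleton] at h
  have hm := card_centralizer_mul_relIndex (P : Subgroup G)
  rw [h, hN] at hm
  have he : 0 < e := by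
    rcases Nat.eq_zero_or_pos e with rfl | h'
    · rw [mul_zero] at hN; exact absurd hN Nat.card_pos.ne'
    · exact h'
  haveI : IsCyclic ↥(P : Subgroup G) := isCyclic_of_prime_card hP
  refine (Subgroup.eq_of_le_of_card_ge (Subgroup.le_centralizer _) ?_).symm
  rw [hP]
  exact (Nat.eq_of_mul_eq_mul_right he hm).le

end CfsgLib.Small.Degree
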