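import Mathlib.GroupTheory.GroupAction.Jordan
import Mathlib.Tactic
import Cfsg.Agent.Small.OrderTools

/-!
# Counting elements by their orders
-/

open scoped Pointwise

namespace CfsgLib.Small

variable {G : Type*} [Group G] [Finite G]

/-- Disjoint order classes fit into the group. -/
theorem sum_card_orderOf_le (K : Finset ℕ) :
    ∑ k ∈ K, Nat.card {g : G // orderOf g = k} ≤ Nat.card G := by
  classical
  haveI := Fintype.ofFinite G
  simp only [Nat.card_eq_fintype_card, Fintype.card_subtype]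
  rw [Finset.sum_card_fiberwise_eq_card_filter]
  exact (Finset.card_filter_le _ _).trans Finset.card_univ.le

/-- A conjugacy class consists of elements of one order. -/
theorem index_centralizer_le_card_orderOf (x : G) :
    (Subgroup.centralizer ({x} : Set G)).index ≤ Nat.card {g : G // orderOf g = orderOf x} := by
  have h := card_conjugates_mul_card_centralizer x
  have h' := Subgroup.index_mul_card (Subgroup.centralizer ({x} : Set G))
  rw [← h] at h'
  rw [Nat.eq_of_mul_eq_mul_right Nat.card_pos h']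
  refine Nat.card_le_card_of_injective (fun g => ⟨g.1, ?_⟩) fun a b hab =>
    Subtype.ext (congrArg Subtype.val hab :)
  obtain ⟨c, hc⟩ := isConj_iff.1 g.2
  rw [← hc, orderOf_conj_eq]

/-- Sylow subgroups of order `p` give `n_p (p - 1)` elements of order `p`. -/
theorem card_sylow_mul_le_card_orderOf {p : ℕ} [Fact p.Prime] (P : Sylow p G)
    (hP : Nat.card (P : Subgroup G) = p) :
    Nat.card (Sylow p G) * (p - 1) ≤ Nat.card {g : G // orderOf g = p} := by
  classical
  have hQ : ∀ Q : Sylow p G, Nat.card (Q : Subgroup G) = p := fun Q =>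
    (Nat.card_congr (Q.equiv P).toEquiv).trans hP
  have hc : ∀ Q : Sylow p G, Nat.card {g : G // g ∈ (Q : Subgroup G) ∧ g ≠ 1} = p - 1 := fun Q => by
    haveI := Fintype.ofFinite G
    have hS : Finset.univ.filter (fun g => g ∈ (Q : Subgroup G) ∧ g ≠ 1)
        = (Finset.univ.filter (· ∈ (Q : Subgroup G))).erase 1 := by
      ext g; simp [and_comm]
    rw [Nat.card_eq_fintype_card, Fintype.card_subtype, hS, Finset.card_erase_of_mem (by simp),
      ← Fintype.card_subtype, ← Nat.card_eq_fintype_card, hQ]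
  have h := Nat.card_le_card_of_injective
    (fun x : Σ Q : Sylow p G, {g : G // g ∈ (Q : Subgroup G) ∧ g ≠ 1} =>
      (⟨x.2.1, orderOf_eq_of_mem_prime (hQ x.1) x.2.2.1 x.2.2.2⟩ : {g : G // orderOf g = p})) (by
      rintro ⟨Q, a⟩ ⟨Q', a'⟩ h
      have h' : a.1 = a'.1 := congrArg Subtype.val h
      have hQQ : Q = Q' := Sylow.ext ((eq_zpowers_of_mem_prime (hQ Q) a.2.1 a.2.2).symm.trans
        (h' ▸ eq_zpowers_of_mem_prime (hQ Q') a'.2.1 a'.2.2))
      subst hQQ
      exact congrArg (Sigma.mk Q) (Subtype.ext h'))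
  haveI := Fintype.ofFinite (Sylow p G)
  rwa [Nat.card_sigma, Finset.sum_congr rfl fun Q _ => hc Q, Finset.sum_const, Finset.card_univ,
    ← Nat.card_eq_fintype_card, smul_eq_mul] at h

/-- Next to a self-centralising Sylow subgroup of order `p` only elements of order `p` have a
centraliser of order divisible by `p`. -/
theorem orderOf_eq_of_dvd_centralizer {p : ℕ} [Fact p.Prime] (P : Sylow p G)
    (hP : Nat.card (P : Subgroup G) = p)
    (hC : Subgroup.centralizer ((P : Subgroup G) : Set G) = (P : Subgroup G)) {y : G} (hy : y ≠ 1)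
    (h : p ∣ Nat.card (Subgroup.centralizer ({y} : Set G))) : orderOf y = p := by
  obtain ⟨a₀, ha₀⟩ := exists_prime_orderOf_dvd_card'
    (G := ↥(Subgroup.centralizer ({y} : Set G))) p h
  have ha : orderOf (a₀ : G) = p := by rw [Subgroup.orderOf_coe]; exact ha₀
  obtain ⟨Q, hQ⟩ := (IsPGroup.of_card (p := p) (n := 1)
    (by rw [Nat.card_zpowers, ha, pow_one] : Nat.card (Subgroup.zpowers (a₀ : G)) = p ^ 1)).exists_le_sylow
  obtain ⟨g, rfl⟩ := MulAction.exists_smul_eq G P Q
  have haP : g⁻¹ * (a₀ : G) * g ∈ (P : Subgroup G) := by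
    have h := hQ (Subgroup.mem_zpowers (a₀ : G))
    rw [Sylow.coe_subgroup_smul, Subgroup.mem_pointwise_smul_iff_inv_smul_mem, ← map_inv] at h
    simpa using h
  have hne : g⁻¹ * (a₀ : G) * g ≠ 1 := fun h => by
    rw [show (a₀ : G) = g * (g⁻¹ * (a₀ : G) * g) * g⁻¹ by group, h, mul_one, mul_inv_cancel,
      orderOf_one] at ha
    exact (Fact.out : p.Prime).one_lt.ne ha
  have hcomm : Commute (g⁻¹ * y * g) (g⁻¹ * (a₀ : G) * g) := by
    have h := Subgroup.mem_centralizer_singleton_iff.1 a₀.2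
    show g⁻¹ * y * g * (g⁻¹ * (a₀ : G) * g) = g⁻¹ * (a₀ : G) * g * (g⁻¹ * y * g)
    calc g⁻¹ * y * g * (g⁻¹ * (a₀ : G) * g) = g⁻¹ * (y * a₀) * g := by group
      _ = g⁻¹ * (a₀ * y) * g := by rw [h]
      _ = g⁻¹ * (a₀ : G) * g * (g⁻¹ * y * g) := by group
  have hmem : g⁻¹ * y * g ∈ (P : Subgroup G) :=
    hC.le (mem_centralizer_of_commute_prime hP haP hne hcomm.eq)
  have hne' : g⁻¹ * y * g ≠ 1 := fun h => hy (by
    calc y = g * (g⁻¹ * y * g) * g⁻¹ := by group
      _ = 1 := by rw [h]; group)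
  rw [← orderOf_eq_of_mem_prime hP hmem hne']
  conv_rhs => rw [show g⁻¹ * y * g = g⁻¹ * y * g⁻¹⁻¹ by rw [inv_inv], orderOf_conj_eq]

/-- An element of `2`-power order above two has a power of order four with a square. -/
theorem sq_eq_one_of_no_four {H : Subgroup G} {k : ℕ} (hH : Nat.card H = 2 ^ k)
    (h4 : ∀ x : G, orderOf x ≠ 4) {c : G} (hc : c ∈ H) : c ^ 2 = 1 := by
  obtain ⟨j, -, hj⟩ := (Nat.dvd_prime_pow Nat.prime_two).1 (hH ▸ Subgroup.orderOf_dvd_natCard H hc)
  by_cases hj2 : 2 ≤ j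
  · exfalso
    refine h4 (c ^ 2 ^ (j - 2)) ?_
    rw [orderOf_pow_of_dvd (by positivity) (hj ▸ pow_dvd_pow 2 (Nat.sub_le j 2)), hj,
      Nat.pow_div (Nat.sub_le j 2) two_pos, show j - (j - 2) = 2 by omega]
    norm_num
  · refine orderOf_dvd_iff_pow_eq_one.1 (hj ▸ ?_)
    calc 2 ^ j ∣ 2 ^ 1 := pow_dvd_pow 2 (by omega)
      _ = 2 := pow_one 2

omit [Finite G] in
/-- A subgroup of exponent two is commutative. -/
theorem isMulCommutative_of_sq {H : Subgroup G} (h : ∀ c ∈ H, c ^ 2 = 1) : IsMulCommutative H :=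
  ⟨⟨fun a b => by
    refine Subtype.ext ?_
    have ha := h a a.2
    have hb := h b b.2
    have hab := h _ (mul_mem a.2 b.2)
    rw [pow_two] at ha hb hab
    calc (a : G) * b = (a : G) * ((a * b) * (a * b)) * b := by rw [hab, mul_one]
      _ = ((a : G) * a) * (b * a) * (b * b) := by group
      _ = (b : G) * a := by rw [ha, hb, one_mul, mul_one]⟩⟩

end CfsgLib.Small
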