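import Mathlib.GroupTheory.GroupAction.Quotient
import Mathlib.Tactic
import Cfsg.Agent.Small.FixedPoints

/-!
# The action on a conjugacy class, seen on the cosets of a centraliser; averaged fixed points
-/

namespace CfsgLib.Small

variable {G : Type*} [Group G] [Finite G]

/-- `x` fixes `g C(y)` iff it commutes with `g y g⁻¹`. -/
theorem smul_mk_centralizer_eq_iff (y x g : G) :
    x • (g : G ⧸ Subgroup.centralizer ({y} : Set G)) = g ↔ Commute x (g * y * g⁻¹) := by
  show ((x * g : G) : G ⧸ Subgroup.centralizer ({y} : Set G)) = g ↔ _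
  rw [eq_comm, QuotientGroup.eq, Subgroup.mem_centralizer_singleton_iff, Commute, SemiconjBy]
  constructor
  · intro h
    calc x * (g * y * g⁻¹) = g * ((g⁻¹ * (x * g)) * y) * g⁻¹ := by group
      _ = g * (y * (g⁻¹ * (x * g))) * g⁻¹ := by rw [h]
      _ = g * y * g⁻¹ * x := by group
  · intro h
    calc g⁻¹ * (x * g) * y = g⁻¹ * (x * (g * y * g⁻¹)) * g := by group
      _ = g⁻¹ * (g * y * g⁻¹ * x) * g := by rw [h]
      _ = y * (g⁻¹ * (x * g)) := by group

/-- The conjugate of `y` attached to a coset of `C(y)`. -/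
noncomputable def cosetConj (y : G) (c : G ⧸ Subgroup.centralizer ({y} : Set G)) : G :=
  c.out * y * c.out⁻¹

theorem cosetConj_mk (y g : G) :
    cosetConj y (g : G ⧸ Subgroup.centralizer ({y} : Set G)) = g * y * g⁻¹ := by
  have h := Subgroup.mem_centralizer_singleton_iff.1
    (QuotientGroup.eq.1 (QuotientGroup.out_eq' (g : G ⧸ Subgroup.centralizer ({y} : Set G))))
  set a := (g : G ⧸ Subgroup.centralizer ({y} : Set G)).out
  show a * y * a⁻¹ = g * y * g⁻¹
  calc a * y * a⁻¹ = a * (y * (a⁻¹ * g)) * g⁻¹ := by group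
    _ = a * ((a⁻¹ * g) * y) * g⁻¹ := by rw [h]
    _ = g * y * g⁻¹ := by group

theorem cosetConj_injective (y : G) : Function.Injective (cosetConj y) := by
  intro c d h
  induction c using QuotientGroup.induction_on with
  | _ a =>
    induction d using QuotientGroup.induction_on with
    | _ b =>
      rw [cosetConj_mk, cosetConj_mk] at h
      rw [QuotientGroup.eq, Subgroup.mem_centralizer_singleton_iff]
      calc a⁻¹ * b * y = a⁻¹ * (b * y * b⁻¹) * b := by group
        _ = a⁻¹ * (a * y * a⁻¹) * b := by rw [h]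
        _ = y * (a⁻¹ * b) := by group

/-- Cosets of `C(y)` with a property of their conjugate are the conjugates with that property. -/
theorem card_cosetConj (y : G) (q : G → Prop) :
    Nat.card {c : G ⧸ Subgroup.centralizer ({y} : Set G) // q (cosetConj y c)}
      = Nat.card {h : G // IsConj y h ∧ q h} := by
  refine Nat.card_congr (Equiv.ofBijective
    (fun c => ⟨cosetConj y c.1, isConj_iff.2 ⟨_, rfl⟩, c.2⟩) ⟨?_, ?_⟩)
  · exact fun c d h => Subtype.ext (cosetConj_injective y (congrArg Subtype.val h :))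
  · rintro ⟨h, hc, hq⟩
    obtain ⟨g, hg⟩ := isConj_iff.1 hc
    exact ⟨⟨(g : G ⧸ _), by rw [cosetConj_mk, hg]; exact hq⟩,
      Subtype.ext ((cosetConj_mk y g).trans hg)⟩

/-- The fixed cosets of `C(y)` are the conjugates of `y` commuting with `x`. -/
theorem card_fixedBy_centralizer (y x : G) :
    Nat.card (MulAction.fixedBy (G ⧸ Subgroup.centralizer ({y} : Set G)) x)
      = Nat.card {h : G // IsConj y h ∧ Commute x h} := by
  rw [← card_cosetConj y (Commute x ·)]
  refine Nat.card_congr (Equiv.subtypeEquivRight fun c => ?_)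
  induction c using QuotientGroup.induction_on with
  | _ g =>
    rw [cosetConj_mk]
    exact smul_mk_centralizer_eq_iff y x g

/-- The common fixed cosets of `C(y)` of two elements. -/
theorem card_inter_fixedBy_centralizer (y x x' : G) :
    Nat.card {c : G ⧸ Subgroup.centralizer ({y} : Set G) // x • c = c ∧ x' • c = c}
      = Nat.card {h : G // IsConj y h ∧ Commute x h ∧ Commute x' h} := by
  rw [← card_cosetConj y (fun h => Commute x h ∧ Commute x' h)]
  refine Nat.card_congr (Equiv.subtypeEquivRight fun c => ?_)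
  induction c using QuotientGroup.induction_on with
  | _ g =>
    rw [cosetConj_mk]
    exact and_congr (smul_mk_centralizer_eq_iff y x g) (smul_mk_centralizer_eq_iff y x' g)

/-- If every nontrivial element of `A` fixes `f` cosets then `|A|` divides `[G:H] + (|A|-1) f`. -/
theorem card_dvd_sum_fixedBy (A H : Subgroup G) (f : ℕ)
    (hf : ∀ a ∈ A, a ≠ 1 → Nat.card (MulAction.fixedBy (G ⧸ H) a) = f) :
    Nat.card A ∣ H.index + (Nat.card A - 1) * f := by
  classical
  haveI := Fintype.ofFinite ↥A
  haveI : ∀ a : ↥A, Fintype (MulAction.fixedBy (G ⧸ H) a) := fun a => Fintype.ofFinite _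
  haveI := Fintype.ofFinite (Quotient (MulAction.orbitRel ↥A (G ⧸ H)))
  have hb := MulAction.sum_card_fixedBy_eq_card_orbits_mul_card_group ↥A (G ⧸ H)
  simp only [← Nat.card_eq_fintype_card] at hb
  rw [← Finset.add_sum_erase _ _ (Finset.mem_univ (1 : ↥A))] at hb
  have h1 : Nat.card (MulAction.fixedBy (G ⧸ H) (1 : ↥A)) = H.index := by
    rw [Subgroup.index_eq_card]
    exact Nat.card_congr (Equiv.subtypeUnivEquiv fun x => one_smul _ x)
  have h2 : ∀ a ∈ Finset.univ.erase (1 : ↥A), Nat.card (MulAction.fixedBy (G ⧸ H) a) = f :=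
    fun a ha => hf a a.2 fun h => Finset.ne_of_mem_erase ha (Subtype.ext h)
  rw [h1, Finset.sum_congr rfl h2, Finset.sum_const, Finset.card_erase_of_mem (Finset.mem_univ _),
    Finset.card_univ, ← Nat.card_eq_fintype_card, smul_eq_mul] at hb
  exact Dvd.intro_left _ hb.symm

end CfsgLib.Small
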