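import Mathlib.GroupTheory.Sylow
import Mathlib.GroupTheory.GroupAction.Quotient
import Mathlib.Tactic
import Cfsg.Agent.Small.FixedPoints
import Cfsg.Agent.Small.SylowInside
import Cfsg.Agent.Small.ConjAction
import Cfsg.Agent.Small.OrderTools
import Cfsg.Agent.Small.Counting

/-!
# Fusion in the normaliser of a Sylow subgroup of prime order
-/

namespace CfsgLib.Small.Fusion

variable {G : Type*} [Group G] [Finite G] {p : ℕ} [Fact p.Prime]

/-- The number of elements of `H` conjugate to `t`. -/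
noncomputable def classCard (H : Subgroup G) (t : G) : ℕ :=
  Nat.card {h : G // h ∈ H ∧ IsConj t h}

/-- The number of cosets of `H` fixed by `t`. -/
noncomputable def fixCard (H : Subgroup G) (t : G) : ℕ :=
  Nat.card (MulAction.fixedBy (G ⧸ H) t)

omit [Finite G] in
theorem fixCard_eq_of_isConj (H : Subgroup G) {t h : G} (hth : IsConj t h) :
    fixCard H t = fixCard H h := by
  obtain ⟨g, rfl⟩ := isConj_iff.1 hth
  refine Nat.card_congr
    { toFun := fun c => ⟨g • c.1, ?_⟩
      invFun := fun c => ⟨g⁻¹ • c.1, ?_⟩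
      left_inv := fun c => Subtype.ext (inv_smul_smul g c.1)
      right_inv := fun c => Subtype.ext (smul_inv_smul g c.1) }
  · show (g * t * g⁻¹) • g • c.1 = g • c.1
    rw [smul_smul, inv_mul_cancel_right, ← smul_smul]
    exact congrArg _ c.2
  · show t • g⁻¹ • c.1 = g⁻¹ • c.1
    rw [eq_inv_smul_iff, smul_smul, smul_smul]
    exact c.2

theorem fixCard_mul (H : Subgroup G) (t : G) :
    fixCard H t * Nat.card H = classCard H t * Nat.card (Subgroup.centralizer ({t} : Set G)) :=
  card_fixedBy_mul_card H t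

theorem fixCard_pos (H : Subgroup G) {t : G} (ht : t ∈ H) : 0 < fixCard H t := by
  have : Nonempty (MulAction.fixedBy (G ⧸ H) t) := ⟨⟨((1 : G) : G ⧸ H), by
    show ((t * 1 : G) : G ⧸ H) = _
    rw [mul_one, QuotientGroup.eq, mul_one]
    exact inv_mem ht⟩⟩
  exact Nat.card_pos

omit [Finite G] in
theorem classCard_pos [Finite G] (H : Subgroup G) {t : G} (ht : t ∈ H) : 0 < classCard H t := by
  have : Nonempty {h : G // h ∈ H ∧ IsConj t h} := ⟨⟨t, ht, IsConj.refl t⟩⟩
  exact Nat.card_pos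

variable (P : Sylow p G)

/-- `N(P)`. -/
abbrev N : Subgroup G := Subgroup.normalizer ((P : Subgroup G) : Set G)

/-- `C(P)`. -/
abbrev C : Subgroup G := Subgroup.centralizer ((P : Subgroup G) : Set G)

theorem index_N : (N P).index = Nat.card (Sylow p G) := P.card_eq_index_normalizer.symm

omit [Finite G] in
theorem C_le_N : C P ≤ N P := Subgroup.centralizer_le_normalizer _

/-- An element of `N ∖ C` fixes at most one coset in each orbit of `P`. -/
theorem fixCard_off (hP : Nat.card (P : Subgroup G) = p) {u : G} (hu : u ∈ N P) (huC : u ∉ C P) :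
    (fixCard (N P) u - 1) * p ≤ Nat.card (Sylow p G) - 1 := by
  classical
  set b := ((1 : G) : G ⧸ N P)
  have hbase : ∀ g ∈ N P, g • b = b := fun g hg => by
    show ((g * 1 : G) : G ⧸ N P) = _
    rw [mul_one, QuotientGroup.eq, mul_one]
    exact inv_mem hg
  have hone : ∀ q ∈ (P : Subgroup G), ∀ c : G ⧸ N P, c ≠ b → q • c = c → q = 1 := by
    intro q hq c hc h
    by_contra h1
    have h' := (Nat.card_eq_one_iff_unique.1
      (card_fixedBy_coset_normalizer P hP (orderOf_eq_of_mem_prime hP hq h1))).1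
    exact hc (congrArg Subtype.val (h'.elim (⟨c, h⟩ : MulAction.fixedBy (G ⧸ N P) q)
      ⟨b, hbase q (Subgroup.le_normalizer hq)⟩) :)
  let D := {d : G ⧸ N P // u • d = d ∧ d ≠ b}
  let ψ : ↥(P : Subgroup G) × D → {c : G ⧸ N P // c ≠ b} := fun x =>
    ⟨(x.1 : G) • x.2.1, fun h => x.2.2.2 ((MulAction.injective (x.1 : G))
      (h.trans (hbase _ (Subgroup.le_normalizer x.1.2)).symm))⟩
  have hinj : Function.Injective ψ := by
    rintro ⟨a, d⟩ ⟨a', d'⟩ h
    have h' : (a : G) • d.1 = (a' : G) • d'.1 := congrArg Subtype.val h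
    set q : G := (a' : G)⁻¹ * a with hq
    have hqd : q • d.1 = d'.1 := by rw [hq, ← smul_smul, h', inv_smul_smul]
    have hqP : q ∈ (P : Subgroup G) := mul_mem (inv_mem a'.2) a.2
    have hcq : u * q * u⁻¹ ∈ (P : Subgroup G) := (Subgroup.mem_normalizer_iff.1 hu q).1 hqP
    have hud : u⁻¹ • d.1 = d.1 := by rw [inv_smul_eq_iff, d.2.1]
    have hfix : (q⁻¹ * (u * q * u⁻¹)) • d.1 = d.1 := by
      rw [← smul_smul, ← smul_smul, ← smul_smul, hud, hqd, d'.2.1, inv_smul_eq_iff, hqd]
    have hcomm : u * q * u⁻¹ = q :=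
      (inv_mul_eq_one.1 (hone _ (mul_mem (inv_mem hqP) hcq) _ d.2.2 hfix)).symm
    have hq1 : q = 1 := by
      by_contra h1
      refine huC ?_
      show u ∈ Subgroup.centralizer ((P : Subgroup G) : Set G)
      rw [← centralizer_singleton_eq_of_prime hP hqP h1, Subgroup.mem_centralizer_singleton_iff]
      exact mul_inv_eq_iff_eq_mul.1 hcomm
    rw [hq1, one_smul] at hqd
    refine Prod.ext (Subtype.ext ?_) (Subtype.ext hqd)
    exact (inv_mul_eq_one.1 (hq.symm.trans hq1)).symm
  have hcb : Nat.card {c : G ⧸ N P // c ≠ b} = Nat.card (Sylow p G) - 1 := by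
    haveI := Fintype.ofFinite (G ⧸ N P)
    rw [Nat.card_eq_fintype_card, Fintype.card_subtype_compl, Fintype.card_subtype_eq,
      ← Nat.card_eq_fintype_card, ← Subgroup.index_eq_card, index_N]
  have hD : Nat.card D = fixCard (N P) u - 1 := by
    haveI := Fintype.ofFinite (MulAction.fixedBy (G ⧸ N P) u)
    let e : D ≃ {d : MulAction.fixedBy (G ⧸ N P) u // d ≠ ⟨b, hbase u hu⟩} :=
      { toFun := fun d => ⟨⟨d.1, d.2.1⟩, fun h => d.2.2 (congrArg Subtype.val h :)⟩
        invFun := fun d => ⟨d.1.1, d.1.2, fun h => d.2 (Subtype.ext h)⟩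
        left_inv := fun _ => rfl
        right_inv := fun _ => rfl }
    rw [Nat.card_congr e, fixCard, Nat.card_eq_fintype_card, Nat.card_eq_fintype_card,
      Fintype.card_subtype_compl, Fintype.card_subtype_eq]
  have hle := Nat.card_le_card_of_injective ψ hinj
  rw [Nat.card_prod, hP, hcb, hD, mul_comm] at hle
  exact hle

/-- An element fixing many cosets has all its conjugates in `N` inside `C`. -/
theorem mem_C_of_isConj (hP : Nat.card (P : Subgroup G) = p) {t h : G}
    (hbig : Nat.card (Sylow p G) - 1 < (fixCard (N P) t - 1) * p) (hh : h ∈ N P)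
    (hth : IsConj t h) : h ∈ C P := by
  by_contra hC
  have := fixCard_off P hP hh hC
  rw [← fixCard_eq_of_isConj _ hth] at this
  omega

/-- Elements of `C` killed by an exponent prime to `p` are few. -/
theorem card_torsion_mul_le (hP : Nat.card (P : Subgroup G) = p) {q : ℕ} (hq : q.Coprime p) :
    Nat.card {z : G // z ∈ C P ∧ z ^ q = 1} * p ≤ Nat.card (C P) := by
  haveI : IsCyclic ↥(P : Subgroup G) := isCyclic_of_prime_card hP
  have hPC : (P : Subgroup G) ≤ C P := Subgroup.le_centralizer _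
  refine le_of_eq_of_le (congrArg (_ * ·) hP.symm) ?_
  show _ * Nat.card ↥(P : Subgroup G) ≤ _
  rw [← Nat.card_prod]
  refine Nat.card_le_card_of_injective
    (fun x : {z : G // z ∈ C P ∧ z ^ q = 1} × ↥(P : Subgroup G) =>
      (⟨x.1.1 * x.2, mul_mem x.1.2.1 (hPC x.2.2)⟩ : C P)) ?_
  rintro ⟨z, a⟩ ⟨w, b⟩ h
  have h' : z.1 * (a : G) = w.1 * b := congrArg Subtype.val h
  have hcz : Commute z.1 (a : G) := (Subgroup.mem_centralizer_iff.1 z.2.1 a a.2).symm
  have hcw : Commute w.1 (b : G) := (Subgroup.mem_centralizer_iff.1 w.2.1 b b.2).symm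
  have hpow := congrArg (· ^ q) h'
  simp only [hcz.mul_pow, hcw.mul_pow, z.2.2, w.2.2, one_mul] at hpow
  have hab : a = b := by
    have hco : (Nat.card ↥(P : Subgroup G)).Coprime q := by rw [hP]; exact hq.symm
    refine (powCoprime hco).injective (Subtype.ext ?_)
    simpa using hpow
  subst hab
  exact Prod.ext (Subtype.ext (mul_right_cancel h')) rfl

/-- If the conjugates in `N` lie in `C` there are few of them. -/
theorem classCard_bound (hP : Nat.card (P : Subgroup G) = p) {t : G} {q : ℕ} (hq : q.Coprime p)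
    (ht : t ^ q = 1) (ht1 : t ≠ 1) (hall : ∀ h ∈ N P, IsConj t h → h ∈ C P) :
    (classCard (N P) t + 1) * p ≤ Nat.card (C P) := by
  refine le_trans (Nat.mul_le_mul_right p ?_) (card_torsion_mul_le P hP hq)
  rw [classCard, ← Finite.card_option]
  refine Nat.card_le_card_of_injective
    (fun o => o.elim ⟨1, one_mem _, one_pow q⟩ fun h => ⟨h.1, hall h.1 h.2.1 h.2.2, ?_⟩) ?_
  · obtain ⟨g, hg⟩ := isConj_iff.1 h.2.2
    rw [← hg, conj_pow, ht, mul_one, mul_inv_cancel]
  · rintro (_ | a) (_ | b) h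
    · rfl
    · obtain ⟨g, hg⟩ := isConj_iff.1 b.2.2
      have h1 : b.1 = 1 := (congrArg Subtype.val h).symm
      exact absurd (by simpa using hg.trans h1) ht1
    · obtain ⟨g, hg⟩ := isConj_iff.1 a.2.2
      have h1 : a.1 = 1 := congrArg Subtype.val h
      exact absurd (by simpa using hg.trans h1) ht1
    · exact congrArg some (Subtype.ext (congrArg Subtype.val h :))

/-- The centraliser order of an element centralising `P`. -/
theorem exists_centralizer_eq {t : G} (ht : t ∈ C P) :
    ∃ n : ℕ, n % p = 1 ∧ Nat.card (Subgroup.centralizer ({t} : Set G))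
      = n * Nat.card ↥(N P ⊓ Subgroup.centralizer ({t} : Set G)) := by
  obtain ⟨n, hn, hcard, -⟩ :=
    exists_card_eq_mul_normalizer P (sylow_le_centralizer_singleton P ht)
  exact ⟨n, hn, hcard⟩

/-- Two distinct commuting involutions of `H` give four dividing its order. -/
theorem four_dvd_of_commuting_involutions {H : Subgroup G} {a b : G} (ha : a ∈ H) (hb : b ∈ H)
    (ha2 : orderOf a = 2) (hb2 : orderOf b = 2) (hab : a ≠ b) (hc : Commute a b) :
    4 ∣ Nat.card H := by
  obtain ⟨ha1, hasq⟩ := orderOf_eq_two_iff_sq.1 ha2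
  obtain ⟨hb1, hbsq⟩ := orderOf_eq_two_iff_sq.1 hb2
  have hane : a * b ≠ 1 := fun h => hab ((inv_eq_of_mul_eq_one_right hasq).symm.trans
    (inv_eq_of_mul_eq_one_right h))
  have e1 : a * (a * b) = b := by rw [← mul_assoc, hasq, one_mul]
  have e2 : b * a = a * b := hc.eq.symm
  have e3 : (a * b) * a = b := by rw [mul_assoc, e2, e1]
  have e4 : b * (a * b) = a := by rw [← mul_assoc, e2, mul_assoc, hbsq, mul_one]
  have e5 : (a * b) * b = a := by rw [mul_assoc, hbsq, mul_one]
  have e6 : (a * b) * (a * b) = 1 := by rw [← mul_assoc, e3, hbsq]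
  let K : Subgroup G :=
    { carrier := {1, a, b, a * b}
      one_mem' := Or.inl rfl
      mul_mem' := by
        rintro x y (rfl | rfl | rfl | rfl) (rfl | rfl | rfl | rfl) <;>
          simp only [one_mul, mul_one, hasq, hbsq, e1, e2, e3, e4, e5, e6, Set.mem_insert_iff,
            Set.mem_singleton_iff, true_or, or_true]
      inv_mem' := by
        rintro x (rfl | rfl | rfl | rfl)
        · simp
        · rw [inv_eq_of_mul_eq_one_right hasq]; simp
        · rw [inv_eq_of_mul_eq_one_right hbsq]; simp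
        · rw [inv_eq_of_mul_eq_one_right e6]; simp }
  have hK : Nat.card K = 4 := by
    change Nat.card ({1, a, b, a * b} : Set G) = 4
    rw [Nat.card_coe_set_eq, Set.ncard_insert_of_notMem, Set.ncard_insert_of_notMem,
      Set.ncard_insert_of_notMem, Set.ncard_singleton]
    · simp [ha1]
    · simp [hab, hb1]
    · simp [Ne.symm ha1, Ne.symm hb1, Ne.symm hane]
  rw [← hK]
  refine Subgroup.card_dvd_of_le ?_
  rintro x (rfl | rfl | rfl | rfl)
  · exact one_mem _
  · exact ha
  · exact hb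
  · exact mul_mem ha hb

/-- Every conjugate is a `q`-element, so it stays in a normal subgroup of index prime to `q`. -/
theorem mem_C_of_coprime_relIndex {t : G} {q : ℕ} (ht : t ^ q = 1)
    (hco : q.Coprime ((C P).relIndex (N P))) {h : G} (hh : h ∈ N P) (hth : IsConj t h) :
    h ∈ C P := by
  haveI : ((C P).subgroupOf (N P)).Normal := by
    refine ⟨fun c hc n => ?_⟩
    rw [Subgroup.mem_subgroupOf, Subgroup.mem_centralizer_iff]
    intro b hb
    have h' : (n : G)⁻¹ * b * n * (c : G) = (c : G) * ((n : G)⁻¹ * b * n) :=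
      Subgroup.mem_centralizer_iff.1 hc ((n : G)⁻¹ * b * n)
        ((Subgroup.mem_normalizer_iff''.1 n.2 b).1 hb)
    show b * ((n : G) * c * (n : G)⁻¹) = (n : G) * c * (n : G)⁻¹ * b
    calc b * ((n : G) * c * (n : G)⁻¹) = (n : G) * (((n : G)⁻¹ * b * n) * c) * (n : G)⁻¹ := by group
      _ = (n : G) * ((c : G) * ((n : G)⁻¹ * b * n)) * (n : G)⁻¹ := by rw [h']
      _ = (n : G) * c * (n : G)⁻¹ * b := by group
  obtain ⟨g, hg⟩ := isConj_iff.1 hth
  have hq : (⟨h, hh⟩ : N P) ^ q = 1 := Subtype.ext (by simp [← hg, conj_pow, ht])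
  have h1 : orderOf (QuotientGroup.mk (⟨h, hh⟩ : N P) : N P ⧸ (C P).subgroupOf (N P)) = 1 := by
    refine Nat.eq_one_of_dvd_coprimes hco (orderOf_dvd_of_pow_eq_one ?_) ?_
    · rw [← QuotientGroup.mk_pow, hq, QuotientGroup.mk_one]
    · exact orderOf_dvd_natCard _
  exact (QuotientGroup.eq_one_iff (N := (C P).subgroupOf (N P)) (⟨h, hh⟩ : N P)).1
    (orderOf_eq_one_iff.1 h1)

/-- On the cosets of `C(t)`, an element `a` commuting with `t`: the count modulo `q`. -/
theorem fixCard_centralizer_modEq {q k : ℕ} [Fact q.Prime] {t a : G} (hc : Commute t a)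
    (ha : a ^ q ^ k = 1) :
    fixCard (Subgroup.centralizer ({t} : Set G)) t % q
      = Nat.card {h : G // IsConj t h ∧ Commute t h ∧ Commute a h} % q := by
  rw [fixCard, card_fixedBy_modEq_inter _ hc ha, card_inter_fixedBy_centralizer]

/-- A 2-group normalising a group of even order centralises an involution of it. -/
theorem exists_central_involution {T K : Subgroup G} (hT : IsPGroup 2 T)
    (hn : T ≤ Subgroup.normalizer (K : Set G)) (hK : 2 ∣ Nat.card K) :
    ∃ t : G, t ∈ K ∧ orderOf t = 2 ∧ T ≤ Subgroup.centralizer ({t} : Set G) := by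
  classical
  haveI : Fact (Nat.Prime 2) := ⟨Nat.prime_two⟩
  let α := {z : G // z ∈ K ∧ orderOf z = 2}
  letI : MulAction T α :=
    { smul := fun a z => ⟨(a : G) * z.1 * (a : G)⁻¹,
        (Subgroup.mem_normalizer_iff.1 (hn a.2) z.1).1 z.2.1, by
          rw [← MulAut.conj_apply, MulEquiv.orderOf_eq]
          exact z.2.2⟩
      one_smul := fun z => Subtype.ext (by
        show ((1 : T) : G) * z.1 * ((1 : T) : G)⁻¹ = z.1
        simp)
      mul_smul := fun a b z => Subtype.ext (by
        show ((a * b : T) : G) * z.1 * ((a * b : T) : G)⁻¹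
          = (a : G) * ((b : G) * z.1 * (b : G)⁻¹) * (a : G)⁻¹
        simp [mul_assoc]) }
  have hodd : Odd (Nat.card α) := by
    have h := odd_card_involutions (G := K) (even_iff_two_dvd.2 hK)
    rwa [Nat.card_congr (
      { toFun := fun z => ⟨z.1.1, z.1.2, by rw [Subgroup.orderOf_coe]; exact z.2⟩
        invFun := fun z => ⟨⟨z.1, z.2.1⟩, by rw [← Subgroup.orderOf_coe]; exact z.2.2⟩
        left_inv := fun _ => rfl
        right_inv := fun _ => rfl } : {z : K // orderOf z = 2} ≃ α)] at h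
  obtain ⟨z, hz⟩ := hT.nonempty_fixed_point_of_prime_not_dvd_card α (fun h2 => by
    rw [Nat.odd_iff] at hodd
    omega)
  refine ⟨z.1, z.2.1, z.2.2, fun a ha => ?_⟩
  rw [Subgroup.mem_centralizer_singleton_iff]
  have h : a * z.1 * a⁻¹ = z.1 := congrArg Subtype.val (hz ⟨a, ha⟩)
  exact (mul_inv_eq_iff_eq_mul.1 h)


theorem N_ne_top (hn : Nat.card (Sylow p G) ≠ 1) : N P ≠ ⊤ := fun h => hn (by
  rw [← index_N P, h, Subgroup.index_top])

theorem fixCard_mod (hP : Nat.card (P : Subgroup G) = p) {x : G} (hx : x ∈ C P) :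
    fixCard (N P) x % p = 1 :=
  card_fixedBy_modEq_one P hP hx

theorem fixCard_lt [IsSimpleGroup G] (hn : Nat.card (Sylow p G) ≠ 1) {x : G} (hx : x ≠ 1) :
    fixCard (N P) x < Nat.card (Sylow p G) :=
  lt_of_lt_of_eq (card_fixedBy_lt_index (N_ne_top P hn) hx) (index_N P)

theorem four_dvd_sub [IsSimpleGroup G] (hG : ¬ IsMulCommutative G)
    (hn : Nat.card (Sylow p G) ≠ 1) {t : G} (ht : orderOf t = 2) :
    4 ∣ Nat.card (Sylow p G) - fixCard (N P) t :=
  index_N P ▸ four_dvd_index_sub_fixedBy hG (N_ne_top P hn) ht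

theorem fixCard_modEq_index {q : ℕ} [Fact q.Prime] (H : Subgroup G) {x : G} (hx : orderOf x = q) :
    H.index % q = fixCard H x % q :=
  card_fixedBy_modEq_index (k := 1) H (by rw [pow_one, ← hx, pow_orderOf_eq_one])

/-- An element of prime order of a subgroup, by Cauchy. -/
theorem exists_orderOf {H : Subgroup G} {q : ℕ} (hq : q.Prime) (h : q ∣ Nat.card H) :
    ∃ x ∈ H, orderOf x = q := by
  haveI := Fact.mk hq
  obtain ⟨x, hx⟩ := exists_prime_orderOf_dvd_card' (G := H) q h
  exact ⟨x, x.2, by rw [Subgroup.orderOf_coe]; exact hx⟩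

theorem N_le_normalizer_C : N P ≤ Subgroup.normalizer (C P : Set G) := by
  intro g hg
  rw [Subgroup.mem_normalizer_iff]
  suffices key : ∀ g ∈ N P, ∀ c ∈ C P, g * c * g⁻¹ ∈ C P by
    refine fun c => ⟨key g hg c, fun h => ?_⟩
    have := key g⁻¹ (inv_mem hg) _ h
    simpa [mul_assoc] using this
  intro g hg c hc
  rw [Subgroup.mem_centralizer_iff]
  intro b hb
  have h' : g⁻¹ * b * g * c = c * (g⁻¹ * b * g) :=
    Subgroup.mem_centralizer_iff.1 hc (g⁻¹ * b * g) ((Subgroup.mem_normalizer_iff''.1 hg b).1 hb)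
  calc b * (g * c * g⁻¹) = g * ((g⁻¹ * b * g) * c) * g⁻¹ := by group
    _ = g * (c * (g⁻¹ * b * g)) * g⁻¹ := by rw [h']
    _ = g * c * g⁻¹ * b := by group

/-- An involution of `C` centralised by a 2-subgroup of `N`; its centraliser meets `N` in a
multiple of `p` times the order of that subgroup. -/
theorem exists_invol_central (hP : Nat.card (P : Subgroup G) = p) (hp2 : p ≠ 2) {T : Subgroup G}
    {j : ℕ} (hT : Nat.card T = 2 ^ j) (hTN : T ≤ N P) (hC : 2 ∣ Nat.card (C P)) :
    ∃ t ∈ C P, orderOf t = 2 ∧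
      p * 2 ^ j ∣ Nat.card ↥(N P ⊓ Subgroup.centralizer ({t} : Set G)) := by
  obtain ⟨t, htC, ht2, hTt⟩ := exists_central_involution (IsPGroup.of_card hT)
    (hTN.trans (N_le_normalizer_C P)) hC
  refine ⟨t, htC, ht2, Nat.Coprime.mul_dvd_of_dvd_of_dvd ?_ ?_ ?_⟩
  · exact Nat.Coprime.pow_right _ ((Nat.coprime_primes Fact.out Nat.prime_two).2 hp2)
  · conv_lhs => rw [← hP]
    exact Subgroup.card_dvd_of_le
      (le_inf Subgroup.le_normalizer (sylow_le_centralizer_singleton P htC))
  · exact hT ▸ Subgroup.card_dvd_of_le (le_inf hTN hTt)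

/-- `C ≤ C(t)` when `|C| = p q` and `t ∈ C` has order `q`. -/
theorem C_le_centralizer (hP : Nat.card (P : Subgroup G) = p) {t : G} {q : ℕ} (ht : t ∈ C P)
    (hto : orderOf t = q) (hco : p.Coprime q) (hC : Nat.card (C P) = p * q) :
    C P ≤ Subgroup.centralizer ({t} : Set G) := by
  haveI : IsCyclic ↥(P : Subgroup G) := isCyclic_of_prime_card hP
  have h1 : (P : Subgroup G) ≤ C P ⊓ Subgroup.centralizer ({t} : Set G) :=
    le_inf (Subgroup.le_centralizer _) (sylow_le_centralizer_singleton P ht)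
  have h2 : Subgroup.zpowers t ≤ C P ⊓ Subgroup.centralizer ({t} : Set G) :=
    Subgroup.zpowers_le.2 ⟨ht, Subgroup.mem_centralizer_singleton_iff.2 rfl⟩
  have h : C P ⊓ Subgroup.centralizer ({t} : Set G) = C P := by
    refine Subgroup.eq_of_le_of_card_ge inf_le_left ?_
    rw [hC]
    refine Nat.le_of_dvd Nat.card_pos (hco.mul_dvd_of_dvd_of_dvd ?_ ?_)
    · have := Subgroup.card_dvd_of_le h1
      simpa [hP] using this
    · have := Subgroup.card_dvd_of_le h2
      rwa [Nat.card_zpowers, hto] at this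
  exact inf_eq_left.1 h

/-- Modulo `p`, the fixed cosets of `C(t)` under `t` count the conjugates of `t` in `N`. -/
theorem fixCard_centralizer_mod (hP : Nat.card (P : Subgroup G) = p) {t : G} (ht : t ∈ C P)
    (hall : ∀ h ∈ N P, IsConj t h → h ∈ C P ∧ Commute t h) :
    fixCard (Subgroup.centralizer ({t} : Set G)) t % p = classCard (N P) t % p := by
  haveI : Nontrivial ↥(P : Subgroup G) :=
    Finite.one_lt_card_iff_nontrivial.1 (lt_of_lt_of_eq (Fact.out : p.Prime).one_lt hP.symm)
  obtain ⟨a, ha⟩ := exists_ne (1 : ↥(P : Subgroup G))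
  have ha1 : (a : G) ≠ 1 := fun h => ha (Subtype.ext h)
  have hc : Commute t (a : G) := (Subgroup.mem_centralizer_iff.1 ht a a.2).symm
  rw [fixCard_centralizer_modEq (k := 1) hc
    (by rw [pow_one]; exact orderOf_dvd_iff_pow_eq_one.1 (dvd_of_eq (orderOf_eq_of_mem_prime hP a.2 ha1)))]
  refine congrArg (· % p) (Nat.card_congr (Equiv.subtypeEquivRight fun h => ⟨?_, ?_⟩))
  · rintro ⟨h1, -, h3⟩
    exact ⟨C_le_N P (mem_centralizer_of_commute_prime hP a.2 ha1 h3.symm), h1⟩
  · rintro ⟨h1, h2⟩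
    exact ⟨h2, (hall h h1 h2).2, (Subgroup.mem_centralizer_iff.1 (hall h h1 h2).1 a a.2)⟩

end CfsgLib.Small.Fusion
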