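import Cfsg.Agent.Small.NormalizerFusion
import Cfsg.Agent.Classification.SimpleSixty
import Cfsg.Agent.S3669

/-!
# An involution with centraliser of order 120 and 36 conjugates

If `C(t)` has order 120 with several Sylow 5-subgroups, fifteen further conjugates of `t` commute
with `t`, and none of them commutes with an element of order five of `C(t)`, then counting paths
of length two in the commuting graph gives a contradiction.
-/

set_option autoImplicit false
set_option synthInstance.maxSize 4000

namespace CfsgLib.Small.ThirtySix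

open CfsgLib.Small.Fusion

theorem alt_commuting : ∀ a : alternatingGroup (Fin 5), a ≠ 1 → a * a = 1 →
    (Finset.univ.filter fun g : alternatingGroup (Fin 5) =>
      g ≠ 1 ∧ g * g = 1 ∧ g * a = a * g).card ≤ 3 := by
  decide +kernel

theorem alt_centralizer_three : ∀ y : alternatingGroup (Fin 5), y ≠ 1 → y * y * y = 1 →
    (Finset.univ.filter fun g : alternatingGroup (Fin 5) => g * y = y * g).card ≤ 3 := by
  decide +kernel

/-- A subgroup of the alternating group of degree five of order dividing twelve has at most five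
involutions. -/
theorem card_invol_le (U : Subgroup (alternatingGroup (Fin 5))) (hU : Nat.card U ∣ 12) :
    Nat.card {g : U // orderOf g = 2} ≤ 5 := by
  classical
  haveI : Fact (Nat.Prime 3) := ⟨Nat.prime_three⟩
  have hle := Nat.le_of_dvd (by norm_num) hU
  haveI := Fintype.ofFinite ↥U
  have h1 : Nat.card {g : U // orderOf g = 2} + 1 ≤ Nat.card U := by
    rw [← Finite.card_option]
    refine Nat.card_le_card_of_injective (fun o => o.elim 1 Subtype.val) ?_
    rintro (_ | a) (_ | b) h
    · rfl
    · exact absurd (congrArg orderOf (h : (1 : U) = b.1)) (by simp [b.2])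
    · exact absurd (congrArg orderOf (h : a.1 = (1 : U))) (by simp [a.2])
    · exact congrArg some (Subtype.ext h)
  by_cases h6 : Nat.card U ≤ 6
  · omega
  have h12 : Nat.card U = 12 := by
    have hall : ∀ d ∈ Nat.divisors 12, ¬ d ≤ 6 → d = 12 := by decide +kernel
    exact hall _ (Nat.mem_divisors.2 ⟨hU, by norm_num⟩) h6
  obtain ⟨y, hy⟩ := exists_prime_orderOf_dvd_card' (G := U) 3 (by rw [h12]; norm_num)
  have hy3 : (y : alternatingGroup (Fin 5)) * y * y = 1 := by
    have h : y ^ 3 = 1 := orderOf_dvd_iff_pow_eq_one.1 (dvd_of_eq hy)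
    rw [pow_three, ← mul_assoc] at h
    exact congrArg Subtype.val h
  have hy1 : (y : alternatingGroup (Fin 5)) ≠ 1 := fun h => by
    rw [show y = 1 from Subtype.ext h, orderOf_one] at hy
    norm_num at hy
  -- at least four elements of order three
  have hC : Nat.card (Subgroup.centralizer ({y} : Set U)) ≤ 3 := by
    refine le_trans ?_ (alt_centralizer_three _ hy1 hy3)
    rw [← Nat.card_eq_finsetCard]
    refine Nat.card_le_card_of_injective (fun g => ⟨(g.1 : alternatingGroup (Fin 5)),
      Finset.mem_filter.2 ⟨Finset.mem_univ _, congrArg Subtype.val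
        (Subgroup.mem_centralizer_singleton_iff.1 g.2)⟩⟩) ?_
    exact fun a b h => Subtype.ext (Subtype.ext (congrArg Subtype.val h :))
  have hclass : 4 ≤ Nat.card {g : U // orderOf g = 3} := by
    have hidx := (Subgroup.centralizer ({y} : Set U)).index_mul_card
    rw [h12] at hidx
    have h4 : 4 ≤ (Subgroup.centralizer ({y} : Set U)).index := by nlinarith
    refine le_trans h4 ?_
    rw [Subgroup.index_eq_card]
    refine Nat.card_le_card_of_injective (fun c => ⟨cosetConj y c, ?_⟩)
      (fun a b h => cosetConj_injective y (congrArg Subtype.val h :))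
    rw [cosetConj, ← MulAut.conj_apply, MulEquiv.orderOf_eq, hy]
  have hP : ∀ Q : Sylow 3 U, Nat.card (Q : Subgroup U) = 3 := fun Q => by
    simpa using card_sylow_eq (k := 1) (m := 4) (by rw [h12]; norm_num) (by norm_num) Q
  have hcount := card_orderOf_eq_prime hP
  have hn := card_sylow_mod (G := U) 3
  have hn4 := Nat.le_of_dvd (by norm_num)
    (card_sylow_dvd (G := U) (p := 3) (k := 1) (m := 4) (by rw [h12]; norm_num) (by norm_num))
  have hsum : Nat.card {g : U // orderOf g = 2} + Nat.card {g : U // orderOf g = 3} + 1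
      ≤ Nat.card U := by
    rw [← Nat.card_sum, ← Finite.card_option]
    refine Nat.card_le_card_of_injective
      (fun o => o.elim 1 fun s => s.elim Subtype.val Subtype.val) ?_
    rintro (_ | (a | a)) (_ | (b | b)) h
    · rfl
    · exact absurd (congrArg orderOf (h : (1 : U) = b.1)) (by simp [b.2])
    · exact absurd (congrArg orderOf (h : (1 : U) = b.1)) (by simp [b.2])
    · exact absurd (congrArg orderOf (h : a.1 = (1 : U))) (by simp [a.2])
    · exact congrArg some (congrArg Sum.inl (Subtype.ext h))
    · exact absurd (congrArg orderOf (h : a.1 = b.1)) (by simp [a.2, b.2])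
    · exact absurd (congrArg orderOf (h : a.1 = (1 : U))) (by simp [a.2])
    · exact absurd (congrArg orderOf (h : a.1 = b.1)) (by simp [a.2, b.2])
    · exact congrArg some (congrArg Sum.inr (Subtype.ext h))
  omega

variable {G : Type*} [Group G] [Finite G]

/-- Elements of order five are determined modulo a central subgroup of order two. -/
theorem mem_of_mk_mem {M : Type*} [Group M] {Z S : Subgroup M} [Z.Normal]
    (hcen : ∀ z ∈ Z, ∀ m : M, m * z = z * m) (hZ : ∀ z ∈ Z, z ^ 2 = 1)
    (hS : ∀ s ∈ S, s ^ 5 = 1) {a : M} (ha : a ^ 5 = 1)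
    (h : QuotientGroup.mk' Z a ∈ S.map (QuotientGroup.mk' Z)) : a ∈ S := by
  obtain ⟨s, hs, hsa⟩ := h
  obtain ⟨z, hz, hza⟩ := (QuotientGroup.mk'_eq_mk' Z).1 hsa
  have h5 : z ^ 5 = 1 := by
    have hc : Commute s z := hcen z hz s
    have h1 := congrArg (· ^ 5) hza
    simp only [hc.mul_pow, hS s hs, ha, one_mul] at h1
    exact h1
  have hz1 : z = 1 := by
    rw [show z ^ 5 = (z ^ 2) ^ 2 * z by group, hZ z hz, one_pow, one_mul] at h5
    exact h5
  rwa [← hza, hz1, mul_one]

/-- The quotient by a central involution. -/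
theorem exists_hom_alt {t : G} (ht : orderOf t = 2)
    (hM : Nat.card (Subgroup.centralizer ({t} : Set G)) = 120) [Fact (Nat.Prime 5)]
    (hn : Nat.card (Sylow 5 ↥(Subgroup.centralizer ({t} : Set G))) ≠ 1) :
    ∃ ψ : ↥(Subgroup.centralizer ({t} : Set G)) →* alternatingGroup (Fin 5),
      ∀ m, ψ m = 1 → (m : G) = 1 ∨ (m : G) = t := by
  classical
  set M := Subgroup.centralizer ({t} : Set G)
  set τ : M := ⟨t, Subgroup.mem_centralizer_singleton_iff.2 rfl⟩
  have hτ2 : orderOf τ = 2 := by rw [← Subgroup.orderOf_coe]; exact ht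
  set Z := Subgroup.zpowers τ
  have hcen : ∀ z ∈ Z, ∀ m : M, m * z = z * m := by
    rintro z ⟨i, rfl⟩ m
    have hc : Commute m τ := Subtype.ext (Subgroup.mem_centralizer_singleton_iff.1 m.2)
    exact hc.zpow_right i
  haveI : Z.Normal := ⟨fun z hz g => by rw [hcen z hz g, mul_inv_cancel_right]; exact hz⟩
  have hZ : Nat.card Z = 2 := by rw [Nat.card_zpowers, hτ2]
  have hK : Nat.card (M ⧸ Z) = 60 := by
    have h := Subgroup.card_eq_card_quotient_mul_card_subgroup Z
    rw [hM, hZ] at h
    omega
  have hZ2 : ∀ z ∈ Z, z ^ 2 = 1 := fun z hz => by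
    have h := Subgroup.orderOf_dvd_natCard Z hz
    rw [hZ] at h
    exact orderOf_dvd_iff_pow_eq_one.1 h
  have hS5 : ∀ S : Sylow 5 M, ∀ a ∈ (S : Subgroup M), a ^ 5 = 1 := fun S a ha => by
    have hS : Nat.card (S : Subgroup M) = 5 := by
      simpa using card_sylow_eq (k := 1) (m := 24) (by rw [hM]; norm_num) (by norm_num) S
    exact orderOf_dvd_iff_pow_eq_one.1 (by simpa [hS] using Subgroup.orderOf_dvd_natCard (S : Subgroup M) ha)
  haveI hsimple : IsSimpleGroup (M ⧸ Z) := by
    by_contra hns
    have hone := Cfsg.Agent.S3669.card_sylow_five_of_sixty hK hns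
    haveI : Subsingleton (Sylow 5 (M ⧸ Z)) := (Nat.card_eq_one_iff_unique.1 hone).1
    refine hn (Nat.card_eq_one_iff_unique.2 ⟨⟨fun S S' => ?_⟩, inferInstance⟩)
    refine Sylow.ext (le_antisymm ?_ ?_) <;> intro a ha
    all_goals
      have hmap := congrArg (fun X : Sylow 5 (M ⧸ Z) => (X : Subgroup (M ⧸ Z)))
        (Subsingleton.elim (S.mapSurjective (QuotientGroup.mk'_surjective Z))
          (S'.mapSurjective (QuotientGroup.mk'_surjective Z)))
      simp only [Sylow.coe_mapSurjective] at hmap
    · have hmem : QuotientGroup.mk' Z a ∈ (S' : Subgroup M).map (QuotientGroup.mk' Z) :=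
        hmap ▸ Subgroup.mem_map_of_mem _ ha
      exact mem_of_mk_mem hcen hZ2 (hS5 S') (hS5 S a ha) hmem
    · have hmem : QuotientGroup.mk' Z a ∈ (S : Subgroup M).map (QuotientGroup.mk' Z) :=
        hmap.symm ▸ Subgroup.mem_map_of_mem _ ha
      exact mem_of_mk_mem hcen hZ2 (hS5 S) (hS5 S' a ha) hmem
  obtain ⟨e⟩ := CfsgLib.Classification.nonempty_equiv_alternating_five hK
  refine ⟨e.toMonoidHom.comp (QuotientGroup.mk' Z), fun m hm => ?_⟩
  have hmZ : m ∈ Z := (QuotientGroup.eq_one_iff m).1 (e.injective (hm.trans (map_one e).symm))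
  obtain ⟨i, hi⟩ := (mem_zpowers_iff_mem_range_orderOf.1 hmZ : m ∈ _) |> Finset.mem_image.1
  rw [Finset.mem_range, hτ2] at hi
  obtain ⟨hi1, hi2⟩ := hi
  interval_cases i
  · exact Or.inl (by rw [← hi2]; simp)
  · exact Or.inr (by rw [← hi2]; simp [τ])

/-- The counting contradiction. -/
theorem false_of_conjugates [Fact (Nat.Prime 5)] {t : G} (ht : orderOf t = 2)
    (hidx : (Subgroup.centralizer ({t} : Set G)).index = 36)
    (hM : Nat.card (Subgroup.centralizer ({t} : Set G)) = 120)
    (hn : Nat.card (Sylow 5 ↥(Subgroup.centralizer ({t} : Set G))) ≠ 1)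
    (hfix : fixCard (Subgroup.centralizer ({t} : Set G)) t = 16)
    (hfive : ∀ x a : G, IsConj t x → a ∈ Subgroup.centralizer ({t} : Set G) → orderOf a = 5 →
      Commute a x → x = t) : False := by
  classical
  haveI := Fintype.ofFinite G
  obtain ⟨ψ, hψ⟩ := exists_hom_alt ht hM hn
  have htsq : t * t = 1 := by
    have := orderOf_dvd_iff_pow_eq_one.1 (dvd_of_eq ht)
    rwa [pow_two] at this
  let nb : G → Finset G := fun x => Finset.univ.filter fun h => IsConj t h ∧ Commute x h
  let cls : Finset G := Finset.univ.filter fun h => IsConj t h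
  have hnb : ∀ x, IsConj t x → (nb x).card = 16 := by
    intro x hx
    rw [← hfix, fixCard_eq_of_isConj _ hx, fixCard, card_fixedBy_centralizer,
      Nat.card_eq_fintype_card, Fintype.card_subtype]
  have hcls : cls.card = 36 := by
    rw [← hidx, Subgroup.index_eq_card, ← Fintype.card_subtype, ← Nat.card_eq_fintype_card]
    exact ((Nat.card_congr (Equiv.subtypeUnivEquiv (fun _ => trivial)).symm).trans
      ((card_cosetConj t (fun _ => True)).trans
        (Nat.card_congr (Equiv.subtypeEquivRight fun h => and_iff_left trivial)))).symm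
  set D := (nb t).erase t with hDdef
  have htnb : t ∈ nb t := Finset.mem_filter.2 ⟨Finset.mem_univ _, IsConj.refl t, Commute.refl t⟩
  have hD : D.card = 15 := by rw [hDdef, Finset.card_erase_of_mem htnb, hnb t (IsConj.refl t)]
  set O := cls.filter fun h => ¬ Commute t h with hOdef
  have hO : O.card = 20 := by
    have h1 := Finset.card_filter_add_card_filter_not (s := cls) fun h => Commute t h
    have h2 : cls.filter (fun h => Commute t h) = nb t := by
      rw [Finset.filter_filter]
    rw [h2, hnb t (IsConj.refl t), hcls] at h1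
    rw [hOdef]
    omega
  have hDmem : ∀ x ∈ D, x ≠ t ∧ IsConj t x ∧ Commute t x := fun x hx => by
    obtain ⟨h1, h2⟩ := Finset.mem_erase.1 hx
    exact ⟨h1, (Finset.mem_filter.1 h2).2⟩
  have hsq : ∀ h : G, IsConj t h → h * h = 1 ∧ h ≠ 1 := by
    intro h hh
    have ho : orderOf h = 2 := by
      obtain ⟨g, hg⟩ := isConj_iff.1 hh
      rw [← hg, ← MulAut.conj_apply, MulEquiv.orderOf_eq, ht]
    obtain ⟨h1, h2⟩ := orderOf_eq_two_iff_sq.1 ho
    exact ⟨h2, h1⟩
  have hmemM : ∀ h : G, Commute t h → h ∈ Subgroup.centralizer ({t} : Set G) := fun h hh =>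
    Subgroup.mem_centralizer_singleton_iff.2 hh.symm.eq
  let φ : G → alternatingGroup (Fin 5) := fun h =>
    if hh : Commute t h then ψ ⟨h, hmemM h hh⟩ else 1
  have hφ : ∀ (h : G) (hh : Commute t h), φ h = ψ ⟨h, hmemM h hh⟩ := fun h hh => dif_pos hh
  -- images of conjugates other than `t` are involutions
  have hφinv : ∀ h ∈ D, φ h ≠ 1 ∧ φ h * φ h = 1 := by
    intro h hh
    obtain ⟨h1, h2, h3⟩ := hDmem h hh
    rw [hφ h h3]
    refine ⟨fun he => ?_, ?_⟩
    · rcases hψ _ he with e | e
      · exact (hsq h h2).2 e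
      · exact h1 e
    · rw [← map_mul]
      exact (congrArg ψ (Subtype.ext (hsq h h2).1)).trans (map_one ψ)
  -- each conjugate in `D` has at least nine neighbours outside `C(t)`
  have hlam : ∀ x ∈ D, 9 ≤ (O.filter fun h => Commute x h).card := by
    intro x hx
    obtain ⟨hxt, hxc, htx⟩ := hDmem x hx
    set L := (D.filter fun h => Commute x h) with hL
    have hfib : L.card ≤ 2 * (L.image φ).card := by
      refine Finset.card_le_mul_card_image L 2 fun g hg => ?_
      obtain ⟨h₀, hh₀, rfl⟩ := Finset.mem_image.1 hg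
      refine le_trans (Finset.card_le_card (t := {h₀, h₀ * t}) fun h hh => ?_) Finset.card_le_two
      rw [Finset.mem_filter] at hh
      obtain ⟨hh, he⟩ := hh
      have hc₀ := (hDmem h₀ (Finset.mem_filter.1 hh₀).1).2.2
      have hc := (hDmem h (Finset.mem_filter.1 hh).1).2.2
      rw [hφ h₀ hc₀, hφ h hc, ← inv_mul_eq_one, ← map_inv, ← map_mul] at he
      rw [Finset.mem_insert, Finset.mem_singleton]
      rcases hψ _ he with e | e
      · left
        simpa [inv_mul_eq_one] using e
      · right
        have e' : h⁻¹ * h₀ = t := e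
        rw [show h₀ = h * t by rw [← e', mul_inv_cancel_left], mul_assoc, htsq, mul_one]
    have him : (L.image φ).card ≤ 3 := by
      refine le_trans (Finset.card_le_card fun g hg => ?_)
        (alt_commuting _ (hφinv x hx).1 (hφinv x hx).2)
      obtain ⟨h, hh, rfl⟩ := Finset.mem_image.1 hg
      obtain ⟨hhD, hxh⟩ := Finset.mem_filter.1 hh
      refine Finset.mem_filter.2
        ⟨Finset.mem_univ _, (hφinv h hhD).1, (hφinv h hhD).2, ?_⟩
      rw [hφ h (hDmem h hhD).2.2, hφ x htx, ← map_mul, ← map_mul]
      exact congrArg ψ (Subtype.ext hxh.symm.eq)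
    have hsplit := Finset.card_filter_add_card_filter_not (s := nb x) fun h => Commute t h
    rw [hnb x hxc] at hsplit
    have hin : ((nb x).filter fun h => Commute t h).card ≤ L.card + 1 := by
      refine le_trans (Finset.card_le_card (t := insert t L) fun h hh => ?_)
        (Finset.card_insert_le _ _)
      simp only [nb, Finset.mem_filter, Finset.mem_univ, true_and] at hh
      rw [Finset.mem_insert]
      by_cases e : h = t
      · exact Or.inl e
      · refine Or.inr (Finset.mem_filter.2 ⟨Finset.mem_erase.2 ⟨e, ?_⟩, hh.1.2⟩)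
        exact Finset.mem_filter.2 ⟨Finset.mem_univ _, hh.1.1, hh.2⟩
    have hout : ((nb x).filter fun h => ¬ Commute t h) ⊆ O.filter fun h => Commute x h := by
      intro h hh
      simp only [nb, O, cls, Finset.mem_filter, Finset.mem_univ, true_and] at hh ⊢
      exact ⟨⟨hh.1.1, hh.2⟩, hh.1.2⟩
    have := Finset.card_le_card hout
    omega
  -- each conjugate outside has at most five neighbours in `D`
  have hmu : ∀ h ∈ O, (D.filter fun x => Commute x h).card ≤ 5 := by
    intro h hh
    obtain ⟨hhc, hth⟩ := Finset.mem_filter.1 hh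
    have hhc' : IsConj t h := (Finset.mem_filter.1 hhc).2
    set H : Subgroup ↥(Subgroup.centralizer ({t} : Set G)) :=
      (Subgroup.centralizer ({h} : Set G)).subgroupOf _ with hHdef
    let f : H →* alternatingGroup (Fin 5) := ψ.comp H.subtype
    have hinj : Function.Injective f := by
      rw [← MonoidHom.ker_eq_bot_iff, Subgroup.eq_bot_iff_forall]
      intro m hm
      rcases hψ _ hm with e | e
      · exact Subtype.ext (Subtype.ext e)
      · exfalso
        have hmh : ((m : ↥(Subgroup.centralizer ({t} : Set G))) : G) * h = h * ((m : ↥(Subgroup.centralizer ({t} : Set G))) : G) :=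
          Subgroup.mem_centralizer_singleton_iff.1 m.2
        simp only [Subgroup.coe_subtype] at e
        rw [e] at hmh
        exact hth hmh
    have hU : Nat.card f.range = Nat.card H :=
      (Nat.card_congr (MonoidHom.ofInjective hinj).toEquiv).symm
    have h5 : ¬ 5 ∣ Nat.card H := by
      intro hd
      obtain ⟨a, ha⟩ := exists_prime_orderOf_dvd_card' (G := H) 5 hd
      have hao : orderOf ((a : ↥(Subgroup.centralizer ({t} : Set G))) : G) = 5 := by
        rw [Subgroup.orderOf_coe, Subgroup.orderOf_coe]; exact ha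
      have := hfive h _ hhc' a.1.2 hao (Subgroup.mem_centralizer_singleton_iff.1 a.2)
      rw [this] at hth
      exact hth (Commute.refl t)
    have h12 : Nat.card f.range ∣ 12 := by
      have hd := Subgroup.card_subgroup_dvd_card f.range
      rw [nat_card_alternatingGroup, Nat.card_fin,
        show Nat.factorial 5 / 2 = 5 * 12 by decide] at hd
      refine ((Nat.Prime.coprime_iff_not_dvd (by norm_num)).2 ?_).symm.dvd_of_dvd_mul_left hd
      rwa [hU]
    refine le_trans ?_ (card_invol_le f.range h12)
    rw [← Nat.card_eq_finsetCard]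
    have hmemH : ∀ x : D.filter (fun x => Commute x h),
        (⟨x.1, hmemM _ (hDmem _ (Finset.mem_filter.1 x.2).1).2.2⟩ : ↥(Subgroup.centralizer ({t} : Set G))) ∈ H := fun x =>
      Subgroup.mem_centralizer_singleton_iff.2 (Finset.mem_filter.1 x.2).2.eq
    refine Nat.card_le_card_of_injective
      (fun x => ⟨f.rangeRestrict ⟨_, hmemH x⟩, ?_⟩) ?_
    · have ho : orderOf x.1 = 2 := by
        obtain ⟨g, hg⟩ := isConj_iff.1 (hDmem _ (Finset.mem_filter.1 x.2).1).2.1
        rw [← hg, ← MulAut.conj_apply, MulEquiv.orderOf_eq, ht]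
      rw [orderOf_injective f.rangeRestrict
        (MonoidHom.rangeRestrict_injective_iff.2 hinj), ← Subgroup.orderOf_coe,
        ← Subgroup.orderOf_coe]
      exact ho
    · intro a b hab
      have h1 := MonoidHom.rangeRestrict_injective_iff.2 hinj (congrArg Subtype.val hab :)
      exact Subtype.ext (congrArg (fun z : H => ((z : ↥(Subgroup.centralizer ({t} : Set G))) : G)) h1)
  have hcount := Finset.sum_card_bipartiteAbove_eq_sum_card_bipartiteBelow (s := D) (t := O)
    (fun x h => Commute x h)
  simp only [Finset.bipartiteAbove, Finset.bipartiteBelow] at hcount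
  have h1 : 135 ≤ ∑ x ∈ D, (O.filter fun h => Commute x h).card := by
    refine le_trans ?_ (Finset.card_nsmul_le_sum D _ 9 hlam)
    rw [hD]; norm_num
  have h2 : ∑ h ∈ O, (D.filter fun x => Commute x h).card ≤ 100 := by
    refine le_trans (Finset.sum_le_card_nsmul O _ 5 hmu) ?_
    rw [hO]; norm_num
  omega

end CfsgLib.Small.ThirtySix
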