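import Cfsg.Agent.Small.NormalizerFusion

/-!
# Groups of order 180 with a central element of order three

`W` has order 180, `τ` is central of order three and `C(a)` has no further elements of
order dividing nine for `a` of order five.  A subgroup of order twelve avoiding `τ` is then
generated by its elements of order three and is normalised by nothing outside `⟨τ⟩ L`.
-/

set_option autoImplicit false

namespace CfsgLib.Small.OneEighty

open CfsgLib.Small.Fusion

/-- The hypotheses. -/
structure Setting (W : Type*) [Group W] where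
  τ : W
  card_W : Nat.card W = 180
  central : ∀ w : W, Commute τ w
  order_τ : orderOf τ = 3
  torsion : ∀ a r : W, orderOf a = 5 → r ^ 9 = 1 → Commute r a → r ∈ Subgroup.zpowers τ

namespace Setting

variable {W : Type*} [Group W] [Finite W] (S : Setting W)

/-- An element of order five normalises no set of elements of order three of size prime to five
that avoids `⟨τ⟩`. -/
theorem false_of_invariant {a : W} (ha : orderOf a = 5) (s : Set W) (hs : ¬ 5 ∣ Nat.card s)
    (hinv : ∀ g ∈ Subgroup.zpowers a, ∀ x ∈ s, g * x * g⁻¹ ∈ s)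
    (h9 : ∀ x ∈ s, x ^ 9 = 1 ∧ x ∉ Subgroup.zpowers S.τ) : False := by
  haveI : Fact (Nat.Prime 5) := ⟨by norm_num⟩
  letI : MulAction (Subgroup.zpowers a) s :=
    { smul := fun g x => ⟨(g : W) * x.1 * (g : W)⁻¹, hinv g g.2 x x.2⟩
      one_smul := fun x => Subtype.ext (by
        show ((1 : Subgroup.zpowers a) : W) * x.1 * ((1 : Subgroup.zpowers a) : W)⁻¹ = x.1
        simp)
      mul_smul := fun g h x => Subtype.ext (by
        show ((g * h : Subgroup.zpowers a) : W) * x.1 * ((g * h : Subgroup.zpowers a) : W)⁻¹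
          = (g : W) * ((h : W) * x.1 * (h : W)⁻¹) * (g : W)⁻¹
        simp [mul_assoc]) }
  have hX : IsPGroup 5 ↥(Subgroup.zpowers a) :=
    IsPGroup.of_card (n := 1) (by rw [Nat.card_zpowers, ha, pow_one])
  obtain ⟨x, hx⟩ := hX.nonempty_fixed_point_of_prime_not_dvd_card s hs
  have h : a * x.1 * a⁻¹ = x.1 := congrArg Subtype.val (hx ⟨a, Subgroup.mem_zpowers a⟩)
  have hc : Commute x.1 a := (mul_inv_eq_iff_eq_mul.1 h).symm
  exact (h9 x x.2).2 (S.torsion a x ha (h9 x x.2).1 hc)

include S in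
theorem card_sylow_three [Fact (Nat.Prime 3)] : Nat.card (Sylow 3 W) = 10 := by
  haveI : Fact (Nat.Prime 5) := ⟨by norm_num⟩
  have hmod := card_sylow_mod (G := W) 3
  have hdvd := card_sylow_dvd (G := W) (p := 3) (k := 2) (m := 20) (by rw [S.card_W]; norm_num)
    (by norm_num)
  have h5 : 5 ∣ Nat.card (Sylow 3 W) := by
    by_contra hno
    obtain ⟨a, ha⟩ := exists_prime_orderOf_dvd_card' (G := W) 5 (by rw [S.card_W]; norm_num)
    have hX : IsPGroup 5 ↥(Subgroup.zpowers a) :=
      IsPGroup.of_card (n := 1) (by rw [Nat.card_zpowers, ha, pow_one])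
    obtain ⟨Q, hQ⟩ := hX.nonempty_fixed_point_of_prime_not_dvd_card (Sylow 3 W) hno
    have hQc : Nat.card (Q : Subgroup W) = 9 := by
      simpa using card_sylow_eq (k := 2) (m := 20) (by rw [S.card_W]; norm_num) (by norm_num) Q
    have hτQ : Subgroup.zpowers S.τ ≤ (Q : Subgroup W) := by
      have hz : IsPGroup 3 ↥(Subgroup.zpowers S.τ) :=
        IsPGroup.of_card (n := 1) (by rw [Nat.card_zpowers, S.order_τ, pow_one])
      have hN : Subgroup.zpowers S.τ ≤ Subgroup.normalizer ((Q : Subgroup W) : Set W) := by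
        rw [Subgroup.zpowers_le, Subgroup.mem_normalizer_iff]
        intro x
        rw [(S.central x).eq, mul_inv_cancel_right]
      exact (inf_eq_left.2 hN).symm.le.trans ((hz.inf_normalizer_sylow Q).le.trans inf_le_right)
    refine S.false_of_invariant ha (((Q : Subgroup W) : Set W) \ (Subgroup.zpowers S.τ : Set W))
      ?_ ?_ ?_
    · rw [Nat.card_coe_set_eq, Set.ncard_sdiff hτQ, ← Nat.card_coe_set_eq,
        ← Nat.card_coe_set_eq]
      show ¬ 5 ∣ Nat.card (Q : Subgroup W) - Nat.card (Subgroup.zpowers S.τ)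
      rw [hQc, Nat.card_zpowers, S.order_τ]
      norm_num
    · rintro g hg x ⟨hx, hxτ⟩
      have hgN : g ∈ Subgroup.normalizer ((Q : Subgroup W) : Set W) :=
        Sylow.smul_eq_iff_mem_normalizer.1 (hQ ⟨g, hg⟩)
      refine ⟨(Subgroup.mem_normalizer_iff.1 hgN x).1 hx, fun h => hxτ ?_⟩
      obtain ⟨i, hi⟩ := h
      have hc : Commute (S.τ ^ i) g := (S.central g).zpow_left i
      have hx' : x = g⁻¹ * (S.τ ^ i) * g := by
        rw [show S.τ ^ i = g * x * g⁻¹ from hi]; group
      rw [hx', mul_assoc, hc.eq, inv_mul_cancel_left]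
      exact ⟨i, rfl⟩
    · rintro x ⟨hx, hxτ⟩
      refine ⟨?_, hxτ⟩
      have h := Subgroup.orderOf_dvd_natCard (Q : Subgroup W) hx
      rw [hQc] at h
      exact orderOf_dvd_iff_pow_eq_one.1 h
  have hall : ∀ n ∈ Nat.divisors 20, n % 3 = 1 → 5 ∣ n → n = 10 := by decide +kernel
  exact hall _ (Nat.mem_divisors.2 ⟨hdvd, by norm_num⟩) hmod h5

variable {L : Subgroup W}

include S in
/-- A subgroup of order twelve avoiding `τ` has four Sylow 3-subgroups. -/
theorem card_orderOf_three [Fact (Nat.Prime 3)] (hL : Nat.card L = 12) (hτL : S.τ ∉ L) :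
    Nat.card {g : L // orderOf g = 3} = 8 := by
  have hP : ∀ Q : Sylow 3 L, Nat.card (Q : Subgroup L) = 3 := fun Q => by
    simpa using card_sylow_eq (k := 1) (m := 4) (by rw [hL]; norm_num) (by norm_num) Q
  rw [card_orderOf_eq_prime hP]
  have hne : Nat.card (Sylow 3 L) ≠ 1 := by
    intro h1
    haveI : Subsingleton (Sylow 3 L) := (Nat.card_eq_one_iff_unique.1 h1).1
    obtain ⟨Q⟩ : Nonempty (Sylow 3 L) := inferInstance
    set Q' := (Q : Subgroup L).map L.subtype with hQ'
    have hQ'c : Nat.card Q' = 3 := by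
      rw [← Nat.card_congr ((Q : Subgroup L).equivMapOfInjective _ L.subtype_injective).toEquiv,
        hP Q]
    obtain ⟨T, hT⟩ := (IsPGroup.of_card (p := 3) (n := 1) (hQ'c.trans (pow_one 3).symm)).exists_le_sylow
    have hTc : ∀ U : Sylow 3 W, Nat.card (U : Subgroup W) = 9 := fun U => by
      simpa using card_sylow_eq (k := 2) (m := 20) (by rw [S.card_W]; norm_num) (by norm_num) U
    have hτT : ∀ U : Sylow 3 W, S.τ ∈ (U : Subgroup W) := by
      intro U
      have hz : IsPGroup 3 ↥(Subgroup.zpowers S.τ) :=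
        IsPGroup.of_card (n := 1) (by rw [Nat.card_zpowers, S.order_τ, pow_one])
      have hN : S.τ ∈ Subgroup.normalizer ((U : Subgroup W) : Set W) := by
        rw [Subgroup.mem_normalizer_iff]
        intro x
        rw [(S.central x).eq, mul_inv_cancel_right]
      exact ((hz.inf_normalizer_sylow U).le ⟨Subgroup.mem_zpowers _, hN⟩).2
    have huniq : ∀ U : Sylow 3 W, Q' ≤ (U : Subgroup W) → U = T := by
      intro U hU
      have hlt : Q' < (U : Subgroup W) ⊓ T :=
        lt_of_le_of_ne (le_inf hU hT) fun h => hτL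
          (Subgroup.map_subtype_le (Q : Subgroup L) (show S.τ ∈ Q' by rw [h]; exact ⟨hτT U, hτT T⟩))
      have h9 : Nat.card ↥((U : Subgroup W) ⊓ T) = 9 := by
        have h1 := Subgroup.card_dvd_of_le (inf_le_left : (U : Subgroup W) ⊓ T ≤ U)
        have h3 : 3 < Nat.card ↥((U : Subgroup W) ⊓ T) := by
          by_contra hle
          push Not at hle
          exact hlt.ne (Subgroup.eq_of_le_of_card_ge hlt.le (by omega))
        rw [hTc U] at h1
        have := Nat.le_of_dvd (by norm_num) h1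
        interval_cases Nat.card ↥((U : Subgroup W) ⊓ T) <;> omega
      exact Sylow.ext ((Subgroup.eq_of_le_of_card_ge inf_le_left (by rw [h9, hTc U])).symm.trans
        (Subgroup.eq_of_le_of_card_ge inf_le_right (by rw [h9, hTc T])))
    have hLN : L ≤ Subgroup.normalizer ((T : Subgroup W) : Set W) := by
      intro l hl
      refine Sylow.smul_eq_iff_mem_normalizer.1 (huniq _ ?_)
      intro x hx
      obtain ⟨y, hy, rfl⟩ := hx
      rw [Sylow.coe_subgroup_smul, Subgroup.mem_pointwise_smul_iff_inv_smul_mem]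
      refine hT ⟨⟨l, hl⟩⁻¹ * y * ⟨l, hl⟩, ?_, by simp [MulAut.smul_def, ← map_inv]⟩
      haveI : (Q : Subgroup L).Normal := Sylow.normal_of_subsingleton _
      exact Subgroup.Normal.conj_mem' inferInstance y hy ⟨l, hl⟩
    have hN := card_sylow_mul_card_normalizer T
    rw [S.card_sylow_three, S.card_W] at hN
    have hd := Subgroup.card_dvd_of_le hLN
    rw [hL] at hd
    obtain ⟨c, hc⟩ := hd
    omega
  have hn4 := Nat.le_of_dvd (by norm_num)
    (card_sylow_dvd (G := L) (p := 3) (k := 1) (m := 4) (by rw [hL]; norm_num) (by norm_num))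
  have hmod := card_sylow_mod (G := L) 3
  omega

include S in
/-- Such a subgroup is generated by its elements of order three. -/
theorem le_of_torsion_le (hL : Nat.card L = 12) (hτL : S.τ ∉ L) {H : Subgroup W}
    (h : ∀ x ∈ L, x ^ 3 = 1 → x ∈ H) : L ≤ H := by
  haveI : Fact (Nat.Prime 3) := ⟨Nat.prime_three⟩
  have h8 := S.card_orderOf_three hL hτL
  have hle : 8 + 1 ≤ Nat.card ↥(H ⊓ L) := by
    rw [← h8, ← Finite.card_option]
    refine Nat.card_le_card_of_injective (fun o => o.elim 1 fun g => ⟨g.1.1, h _ g.1.2 ?_, g.1.2⟩) ?_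
    · rw [← SubgroupClass.coe_pow, show g.1 ^ 3 = 1 from
        orderOf_dvd_iff_pow_eq_one.1 (dvd_of_eq g.2), OneMemClass.coe_one]
    · rintro (_ | a) (_ | b) e
      · rfl
      · exact absurd (congrArg (fun x => orderOf x.1) e) (by simp [b.2])
      · exact absurd (congrArg (fun x => orderOf x.1) e) (by simp [a.2])
      · exact congrArg some (Subtype.ext (Subtype.ext (congrArg Subtype.val e :)))
  have hd := Subgroup.card_dvd_of_le (inf_le_right : H ⊓ L ≤ L)
  rw [hL] at hd
  have h12 : Nat.card ↥(H ⊓ L) = 12 := by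
    have := Nat.le_of_dvd (by norm_num) hd
    interval_cases Nat.card ↥(H ⊓ L) <;> omega
  exact inf_eq_right.1 (Subgroup.eq_of_le_of_card_ge inf_le_right (by rw [h12, hL]))

/-- Such a subgroup is normalised by `⟨τ⟩ L` only. -/
theorem exists_zpow_mul_mem (hL : Nat.card L = 12) (hτL : S.τ ∉ L) {g : W}
    (hg : g ∈ Subgroup.normalizer (L : Set W)) : ∃ z ∈ Subgroup.zpowers S.τ, z * g ∈ L := by
  haveI : Fact (Nat.Prime 3) := ⟨Nat.prime_three⟩
  haveI : Fact (Nat.Prime 5) := ⟨by norm_num⟩
  set M := Subgroup.normalizer (L : Set W)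
  have h5 : ¬ 5 ∣ Nat.card M := by
    intro hd
    obtain ⟨a, ha⟩ := exists_prime_orderOf_dvd_card' (G := M) 5 hd
    have hao : orderOf (a : W) = 5 := by rw [Subgroup.orderOf_coe]; exact ha
    refine S.false_of_invariant hao {x | x ∈ L ∧ orderOf x = 3} ?_ ?_ ?_
    · rw [Nat.card_congr (
        { toFun := fun x => ⟨⟨x.1, x.2.1⟩, by rw [← Subgroup.orderOf_coe]; exact x.2.2⟩
          invFun := fun x => ⟨x.1.1, x.1.2, by rw [Subgroup.orderOf_coe]; exact x.2⟩
          left_inv := fun _ => rfl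
          right_inv := fun _ => rfl } : {x | x ∈ L ∧ orderOf x = 3} ≃ {g : L // orderOf g = 3}),
        S.card_orderOf_three hL hτL]
      norm_num
    · rintro k hk x ⟨hx, hx3⟩
      refine ⟨(Subgroup.mem_normalizer_iff.1 (Subgroup.zpowers_le.2 a.2 hk) x).1 hx, ?_⟩
      rw [← MulAut.conj_apply, MulEquiv.orderOf_eq, hx3]
    · rintro x ⟨hx, hx3⟩
      refine ⟨?_, fun h => hτL ?_⟩
      · rw [show (9 : ℕ) = 3 * 3 by norm_num, pow_mul,
          orderOf_dvd_iff_pow_eq_one.1 (dvd_of_eq hx3), one_pow]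
      · have heq := eq_zpowers_of_mem_prime (p := 3) (by rw [Nat.card_zpowers, S.order_τ]) h
          fun h1 => by rw [h1, orderOf_one] at hx3; norm_num at hx3
        refine Subgroup.zpowers_le.2 hx ?_
        rw [heq]
        exact Subgroup.mem_zpowers S.τ
  have hτM : ∀ z ∈ Subgroup.zpowers S.τ, z ∈ M := by
    rintro z ⟨i, rfl⟩
    refine zpow_mem ?_ i
    rw [Subgroup.mem_normalizer_iff]
    intro x
    rw [(S.central x).eq, mul_inv_cancel_right]
  let ψ : Subgroup.zpowers S.τ × L → M := fun x =>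
    ⟨x.1.1 * x.2.1, mul_mem (hτM _ x.1.2) (Subgroup.le_normalizer x.2.2)⟩
  have hinj : Function.Injective ψ := by
    rintro ⟨z, l⟩ ⟨z', l'⟩ h
    have h' : z.1 * l.1 = z'.1 * l'.1 := congrArg Subtype.val h
    have hm : z'.1⁻¹ * z.1 = l'.1 * l.1⁻¹ := by
      rw [inv_mul_eq_iff_eq_mul, ← mul_assoc, ← h', mul_inv_cancel_right]
    have h1 : z'.1⁻¹ * z.1 = 1 := by
      by_contra hne
      have hmem : z'.1⁻¹ * z.1 ∈ Subgroup.zpowers S.τ := mul_mem (inv_mem z'.2) z.2
      have heq := eq_zpowers_of_mem_prime (p := 3) (by rw [Nat.card_zpowers, S.order_τ]) hmem hne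
      refine hτL (Subgroup.zpowers_le.2 (hm ▸ mul_mem l'.2 (inv_mem l.2) : z'.1⁻¹ * z.1 ∈ L) ?_)
      rw [heq]
      exact Subgroup.mem_zpowers S.τ
    have hz : z = z' := Subtype.ext (inv_mul_eq_one.1 h1).symm
    subst hz
    exact Prod.ext rfl (Subtype.ext (mul_left_cancel h'))
  have h36 : Nat.card (Subgroup.zpowers S.τ × L) = 36 := by
    rw [Nat.card_prod, Nat.card_zpowers, S.order_τ, hL]
  have hd : Nat.card M ∣ 36 := by
    have h := Subgroup.card_subgroup_dvd_card M
    rw [S.card_W, show 180 = 5 * 36 by norm_num] at h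
    exact ((Nat.Prime.coprime_iff_not_dvd (by norm_num)).2 h5).symm.dvd_of_dvd_mul_left h
  obtain ⟨⟨z, l⟩, hzl⟩ := (hinj.bijective_of_nat_card_le
    (by rw [h36]; exact Nat.le_of_dvd (by norm_num) hd)).2 ⟨g, hg⟩
  refine ⟨z.1⁻¹, inv_mem z.2, ?_⟩
  rw [← show z.1 * l.1 = g from congrArg Subtype.val hzl, inv_mul_cancel_left]
  exact l.2

end Setting

end CfsgLib.Small.OneEighty
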