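import Mathlib.GroupTheory.GroupAction.Defs
import Mathlib.GroupTheory.Subgroup.Simple
import Mathlib.GroupTheory.Coset.Card
import Mathlib.GroupTheory.Perm.Centralizer
import Mathlib.GroupTheory.IndexNormal
import Mathlib.Tactic

/-!
# A simple group acting on an affine plane of order four

A group acting doubly transitively on an affine plane with sixteen points permutes its five
parallel classes transitively, so a simple one has order dividing `5!`.
-/

set_option autoImplicit false

open scoped Pointwise

namespace CfsgLib.Small.PlaneSixteen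

variable {G X : Type*} [Group G] [MulAction G X]

/-- A system of lines through pairs of points. -/
structure LineSystem (G X : Type*) [Group G] [MulAction G X] where
  line : X → X → Set X
  left_mem : ∀ a b, a ∈ line a b
  right_mem : ∀ a b, b ∈ line a b
  line_comm : ∀ a b, line a b = line b a
  line_card : ∀ a b, a ≠ b → Nat.card (line a b) = 4
  line_eq : ∀ a b c, a ≠ b → c ∈ line a b → c ≠ a → line a c = line a b
  smul_line : ∀ (g : G) a b, g • line a b = line (g • a) (g • b)

namespace LineSystem

variable (S : LineSystem G X)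

/-- The lines. -/
def Line : Type _ := {s : Set X // ∃ a b, a ≠ b ∧ s = S.line a b}

theorem eq_of_mem {s : S.Line} {a b : X} (ha : a ∈ s.1) (hb : b ∈ s.1) (hab : a ≠ b) :
    S.line a b = s.1 := by
  obtain ⟨u, v, huv, hs⟩ := s.2
  rw [hs] at ha hb ⊢
  by_cases hau : a = u
  · subst hau; exact S.line_eq a v b huv hb (Ne.symm hab)
  · have h1 : S.line a u = S.line u v := (S.line_comm a u).trans (S.line_eq u v a huv ha hau)
    rw [← h1] at hb ⊢
    exact S.line_eq a u b hau hb (Ne.symm hab)

theorem line_ext {s r : S.Line} {a b : X} (ha : a ∈ s.1) (hb : b ∈ s.1) (ha' : a ∈ r.1)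
    (hb' : b ∈ r.1) (hab : a ≠ b) : s = r :=
  Subtype.ext ((S.eq_of_mem ha hb hab).symm.trans (S.eq_of_mem ha' hb' hab))

/-- The line through two points, as a line. -/
def lineThrough (a b : X) (h : a ≠ b) : S.Line := ⟨S.line a b, a, b, h, rfl⟩

variable [Finite X]

instance : Finite S.Line := Subtype.finite

theorem card_line (s : S.Line) : Nat.card s.1 = 4 := by
  obtain ⟨a, b, hab, hs⟩ := s.2
  rw [hs, S.line_card a b hab]

/-- Five lines pass through a point. -/
theorem card_through (hX : Nat.card X = 16) (p : X) :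
    Nat.card {s : S.Line // p ∈ s.1} = 5 := by
  classical
  let f : {x : X // x ≠ p} → {s : S.Line // p ∈ s.1} := fun x =>
    ⟨S.lineThrough p x.1 (Ne.symm x.2), S.left_mem p x.1⟩
  have hfib : ∀ s : {s : S.Line // p ∈ s.1}, Nat.card {x // f x = s} = 3 := by
    intro s
    have e : {x // f x = s} ≃ {x : s.1.1 // x ≠ ⟨p, s.2⟩} :=
      { toFun := fun x => ⟨⟨x.1.1, by
            have h : S.line p x.1.1 = s.1.1 := congrArg (fun r => r.1.1) x.2
            exact h ▸ S.right_mem p x.1.1⟩, fun h => x.1.2 (congrArg Subtype.val h :)⟩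
        invFun := fun x => ⟨⟨x.1.1, fun h => x.2 (Subtype.ext h)⟩, Subtype.ext (Subtype.ext
          (S.eq_of_mem s.2 x.1.2 fun h => x.2 (Subtype.ext h.symm)))⟩
        left_inv := fun _ => rfl
        right_inv := fun _ => rfl }
    haveI := Fintype.ofFinite s.1.1
    rw [Nat.card_congr e, Nat.card_eq_fintype_card, Fintype.card_subtype_compl,
      Fintype.card_subtype_eq, ← Nat.card_eq_fintype_card, S.card_line]
  haveI := Fintype.ofFinite {s : S.Line // p ∈ s.1}
  have h := Nat.card_congr (Equiv.sigmaFiberEquiv f)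
  rw [Nat.card_sigma, Finset.sum_congr rfl fun s _ => hfib s, Finset.sum_const, Finset.card_univ,
    ← Nat.card_eq_fintype_card, smul_eq_mul] at h
  haveI := Fintype.ofFinite X
  have h15 : Nat.card {x : X // x ≠ p} = 15 := by
    rw [Nat.card_eq_fintype_card, Fintype.card_subtype_compl, Fintype.card_subtype_eq,
      ← Nat.card_eq_fintype_card, hX]
  omega

/-- One line through a point off a given line misses it. -/
theorem existsUnique_disjoint (hX : Nat.card X = 16) (s : S.Line) {p : X} (hp : p ∉ s.1) :
    ∃! r : S.Line, p ∈ r.1 ∧ Disjoint r.1 s.1 := by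
  classical
  let g : s.1 → {r : S.Line // p ∈ r.1} := fun q =>
    ⟨S.lineThrough p q.1 fun h => hp (h ▸ q.2), S.left_mem _ _⟩
  have hg : Function.Injective g := by
    intro q q' h
    by_contra hne
    have hl : S.line p q.1 = S.line p q'.1 := congrArg (fun r => r.1.1) h
    have := S.line_ext (s := S.lineThrough p q.1 fun h => hp (h ▸ q.2)) (r := s) (S.right_mem p q.1)
      (show q'.1 ∈ S.line p q.1 from hl ▸ S.right_mem p q'.1) q.2 q'.2
      fun h => hne (Subtype.ext h)
    exact hp (congrArg Subtype.val this ▸ S.left_mem p q.1)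
  have hmeet : ∀ r : {r : S.Line // p ∈ r.1},
      ¬ Disjoint r.1.1 s.1 ↔ r ∈ Set.range g := by
    intro r
    rw [Set.not_disjoint_iff]
    constructor
    · rintro ⟨q, hqr, hqs⟩
      exact ⟨⟨q, hqs⟩, Subtype.ext (Subtype.ext (S.eq_of_mem r.2 hqr fun h => hp (h ▸ hqs)))⟩
    · rintro ⟨q, rfl⟩
      exact ⟨q.1, S.right_mem p q.1, q.2⟩
  haveI := Fintype.ofFinite {r : S.Line // p ∈ r.1}
  have hone : Nat.card {r : {r : S.Line // p ∈ r.1} // Disjoint r.1.1 s.1} = 1 := by
    have h4 : Nat.card {r : {r : S.Line // p ∈ r.1} // ¬ Disjoint r.1.1 s.1} = 4 := by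
      rw [Nat.card_congr (Equiv.subtypeEquivRight hmeet)]
      exact (Nat.card_range_of_injective hg).trans (S.card_line s)
    have hc := S.card_through hX p
    have h5 := Nat.card_congr
      (Equiv.sumCompl fun r : {r : S.Line // p ∈ r.1} => Disjoint r.1.1 s.1)
    rw [Nat.card_sum, h4, hc] at h5
    omega
  obtain ⟨hu, ⟨⟨⟨r, hr⟩, hrd⟩⟩⟩ := Nat.card_eq_one_iff_unique.1 hone
  refine ⟨r, ⟨hr, hrd⟩, fun r' h' => ?_⟩
  exact congrArg (fun x => x.1.1) (hu.elim
    (⟨⟨r', h'.1⟩, h'.2⟩ : {r : {r : S.Line // p ∈ r.1} // Disjoint r.1.1 s.1}) ⟨⟨r, hr⟩, hrd⟩)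

/-- Parallel lines. -/
def Par (s r : S.Line) : Prop := s = r ∨ Disjoint s.1 r.1

theorem par_symm {s r : S.Line} (h : S.Par s r) : S.Par r s :=
  h.imp Eq.symm fun h => h.symm

theorem par_trans (hX : Nat.card X = 16) {s r q : S.Line} (h1 : S.Par s r) (h2 : S.Par r q) :
    S.Par s q := by
  rcases h1 with rfl | h1
  · exact h2
  rcases h2 with rfl | h2
  · exact Or.inr h1
  by_cases h : Disjoint s.1 q.1
  · exact Or.inr h
  obtain ⟨p, hps, hpq⟩ := Set.not_disjoint_iff.1 h
  exact Or.inl ((S.existsUnique_disjoint hX r (fun hpr => h1.notMem_of_mem_left hps hpr)).unique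
    ⟨hps, h1⟩ ⟨hpq, h2.symm⟩)

include S in
/-- A simple group acting on the plane doubly transitively has order dividing `5!`. -/
theorem card_dvd [Finite G] [IsSimpleGroup G] (hX : Nat.card X = 16) (o : X)
    (htrans : ∀ a b : X, a ≠ o → b ≠ o → ∃ g : G, g • o = o ∧ g • a = b) :
    Nat.card G ∣ Nat.factorial 5 := by
  classical
  letI st : Setoid S.Line :=
    ⟨S.Par, fun s => Or.inl rfl, S.par_symm, S.par_trans hX⟩
  haveI : Finite (Quotient st) := Quotient.finite _
  let act : G → S.Line ≃ S.Line := fun g =>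
    { toFun := fun s => ⟨g • s.1, by
        obtain ⟨a, b, hab, hs⟩ := s.2
        exact ⟨g • a, g • b, fun h => hab (MulAction.injective g h), by rw [hs, S.smul_line]⟩⟩
      invFun := fun s => ⟨g⁻¹ • s.1, by
        obtain ⟨a, b, hab, hs⟩ := s.2
        exact ⟨g⁻¹ • a, g⁻¹ • b, fun h => hab (MulAction.injective g⁻¹ h), by
          rw [hs, S.smul_line]⟩⟩
      left_inv := fun s => Subtype.ext (inv_smul_smul g s.1)
      right_inv := fun s => Subtype.ext (smul_inv_smul g s.1) }
  have hpar : ∀ (g : G) (s r : S.Line), S.Par s r ↔ S.Par (act g s) (act g r) := by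
    intro g s r
    refine or_congr (act g).injective.eq_iff.symm ?_
    exact (Set.disjoint_image_iff (MulAction.injective g)).symm
  let φ : G →* Equiv.Perm (Quotient st) :=
    { toFun := fun g => Quotient.congr (act g) (hpar g)
      map_one' := Equiv.ext fun q => by
        induction q using Quotient.inductionOn with
        | h s => exact congrArg (Quotient.mk st) (Subtype.ext (one_smul G s.1))
      map_mul' := fun g h => Equiv.ext fun q => by
        induction q using Quotient.inductionOn with
        | h s => exact congrArg (Quotient.mk st) (Subtype.ext (mul_smul g h s.1)) }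
  have hQ : Nat.card (Quotient st) ≤ 5 := by
    rw [← S.card_through hX o]
    refine Nat.card_le_card_of_surjective (fun s => Quotient.mk st s.1) fun q => ?_
    induction q using Quotient.inductionOn with
    | h s =>
      by_cases ho : o ∈ s.1
      · exact ⟨⟨s, ho⟩, rfl⟩
      · obtain ⟨r, hr, -⟩ := S.existsUnique_disjoint hX s ho
        exact ⟨⟨r, hr.1⟩, Quotient.sound (Or.inr hr.2)⟩
  rcases (MonoidHom.normal_ker φ).eq_bot_or_eq_top with h | h
  · have hdvd := Subgroup.card_dvd_of_injective φ ((MonoidHom.ker_eq_bot_iff φ).1 h)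
    rw [Nat.card_perm] at hdvd
    exact hdvd.trans (Nat.factorial_dvd_factorial hQ)
  · exfalso
    haveI := Fintype.ofFinite X
    obtain ⟨a, ha⟩ : ∃ a : X, a ≠ o :=
      haveI : Nontrivial X := Finite.one_lt_card_iff_nontrivial.1 (by omega)
      exists_ne o
    obtain ⟨b, hb⟩ : ∃ b : X, b ∉ S.line o a := by
      by_contra hall
      push Not at hall
      have h4 := S.line_card o a (Ne.symm ha)
      rw [Set.eq_univ_of_forall hall, Nat.card_congr (Equiv.Set.univ X), hX] at h4
      norm_num at h4
    obtain ⟨g, hgo, hga⟩ := htrans a b ha fun h => hb (h ▸ S.left_mem o a)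
    have hg : φ g = 1 := MonoidHom.mem_ker.1 (h ▸ Subgroup.mem_top g)
    have he : S.Par (act g (S.lineThrough o a (Ne.symm ha))) (S.lineThrough o a (Ne.symm ha)) :=
      Quotient.exact (Equiv.congr_fun hg (Quotient.mk st (S.lineThrough o a (Ne.symm ha))))
    have hob : o ∈ (act g (S.lineThrough o a (Ne.symm ha))).1 ∧
        b ∈ (act g (S.lineThrough o a (Ne.symm ha))).1 := by
      show o ∈ g • S.line o a ∧ b ∈ g • S.line o a
      rw [S.smul_line, hgo, hga]
      exact ⟨S.left_mem o b, S.right_mem o b⟩
    rcases he with he | he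
    · exact hb (by rw [he] at hob; exact hob.2)
    · exact he.notMem_of_mem_left hob.1 (S.left_mem o a)

end LineSystem

end CfsgLib.Small.PlaneSixteen
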