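import Mathlib.GroupTheory.Commutator.Basic
import Mathlib.GroupTheory.Sylow
import Mathlib.GroupTheory.Transfer
import Mathlib.Tactic
import Cfsg.Agent.Small.Counting
import Cfsg.Agent.Small.CosetRep

/-!
# The Brauer–Fowler bounds
-/

namespace CfsgLib.Small

variable {G : Type*} [Group G] [Finite G]

/-- Every subgroup of index two contains every element of odd order, and in particular a group
with a subgroup `C` of index two in a larger `S` has such a subgroup; here: if `g₀` inverts `x`,
`x` is no involution and some proper subgroup has index `> 2` minimal, `C(x)` is small. -/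
theorem two_mul_index_mul_card_centralizer_le {x g₀ : G} (hx : x * x ≠ 1)
    (h₀ : g₀ * x * g₀⁻¹ = x⁻¹) {m : ℕ} (hm2 : m ≠ 2)
    (hmin : ∀ K : Subgroup G, K ≠ ⊤ → m ≤ K.index) (h2 : ∀ K : Subgroup G, K.index ≠ 2) :
    2 * m * Nat.card (Subgroup.centralizer ({x} : Set G)) ≤ Nat.card G := by
  classical
  let S : Subgroup G :=
    { carrier := {g | g * x * g⁻¹ = x ∨ g * x * g⁻¹ = x⁻¹}
      mul_mem' := by
        intro a b ha hb
        have e : a * b * x * (a * b)⁻¹ = a * (b * x * b⁻¹) * a⁻¹ := by group
        simp only [Set.mem_setOf_eq] at *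
        rcases hb with hb | hb <;> rw [e, hb] <;> rcases ha with ha | ha
        · exact Or.inl ha
        · exact Or.inr ha
        · right; rw [← conj_inv, ha]
        · left; rw [← conj_inv, ha, inv_inv]
      one_mem' := Or.inl (by simp)
      inv_mem' := by
        intro a ha
        simp only [Set.mem_setOf_eq, inv_inv] at *
        rcases ha with ha | ha
        · left
          calc a⁻¹ * x * a = a⁻¹ * (a * x * a⁻¹) * a := by rw [ha]
            _ = x := by group
        · right
          have ha' : a * x⁻¹ * a⁻¹ = x := by rw [← conj_inv, ha, inv_inv]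
          calc a⁻¹ * x * a = a⁻¹ * (a * x⁻¹ * a⁻¹) * a := by rw [ha']
            _ = x⁻¹ := by group }
  have hcard : Nat.card S = 2 * Nat.card (Subgroup.centralizer ({x} : Set G)) := by
    have hne : x⁻¹ ≠ x := fun h => hx (inv_eq_iff_mul_eq_one.1 h)
    have e1 : Nat.card S
        = Nat.card ({g : G // g * x * g⁻¹ = x} ⊕ {g : G // g * x * g⁻¹ = x⁻¹}) :=
      Nat.card_congr (subtypeOrEquiv _ _ (by
        rw [disjoint_iff_inf_le]
        rintro g ⟨h1, h2⟩
        exact hne (h2.symm.trans h1)))
    rw [e1, Nat.card_sum, card_inverting_eq h₀, two_mul]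
    congr 1
    exact Nat.card_congr (Equiv.subtypeEquivRight fun g => by
      rw [Subgroup.mem_centralizer_singleton_iff, mul_inv_eq_iff_eq_mul])
  have hS : S ≠ ⊤ := by
    intro htop
    refine h2 (Subgroup.centralizer ({x} : Set G)) ?_
    have hc := Subgroup.card_mul_index (Subgroup.centralizer ({x} : Set G))
    have hS' : Nat.card S = Nat.card G := by rw [htop, Subgroup.card_top]
    rw [hcard, mul_comm] at hS'
    exact Nat.eq_of_mul_eq_mul_left Nat.card_pos (hc.trans hS'.symm)
  calc 2 * m * Nat.card (Subgroup.centralizer ({x} : Set G)) = m * Nat.card S := by rw [hcard]; ring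
    _ ≤ S.index * Nat.card S := Nat.mul_le_mul_right _ (hmin S hS)
    _ = Nat.card G := Subgroup.index_mul_card S

/-- **Brauer–Fowler index bound.** -/
theorem brauerFowler_index (heven : Even (Nat.card G))
    (hZ : Odd (Nat.card (Subgroup.center G))) :
    ∃ H : Subgroup G, H ≠ ⊤ ∧ (H.index = 2 ∨
      2 * H.index * Nat.card {t : G // orderOf t = 2} ^ 2
        < Nat.card G * (Nat.card G + Nat.card {t : G // orderOf t = 2})) := by
  classical
  haveI := Fintype.ofFinite G
  by_cases h2 : ∃ K : Subgroup G, K.index = 2
  · obtain ⟨K, hK⟩ := h2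
    exact ⟨K, fun h => by simp [h] at hK, Or.inl hK⟩
  push Not at h2
  haveI : Nontrivial G := by
    rw [← Finite.one_lt_card_iff_nontrivial]
    obtain ⟨r, hr⟩ := heven
    have := Nat.card_pos (α := G)
    omega
  obtain ⟨H, hH, hmin⟩ := Set.exists_min_image {K : Subgroup G | K ≠ ⊤} (fun K => K.index)
    (Set.toFinite _) ⟨⊥, bot_ne_top⟩
  refine ⟨H, hH, Or.inr ?_⟩
  set n := Nat.card {t : G // orderOf t = 2} with hn
  set N := Nat.card G with hN
  set m := H.index with hm
  have hnpos : 0 < n := (odd_card_involutions heven).pos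
  have hmpos : 0 < m := Nat.pos_of_ne_zero Subgroup.index_ne_zero_of_finite
  let β : G → ℕ := fun x =>
    Nat.card {p : G × G // orderOf p.1 = 2 ∧ orderOf p.2 = 2 ∧ p.1 * p.2 = x}
  have hsum : n ^ 2 = ∑ x : G, β x := by
    rw [sq, hn, ← Nat.card_prod, ← Nat.card_sigma]
    refine Nat.card_congr
      { toFun := fun q => ⟨q.1.1 * q.2.1, ⟨(q.1.1, q.2.1), q.1.2, q.2.2, rfl⟩⟩
        invFun := fun s => (⟨s.2.1.1, s.2.2.1⟩, ⟨s.2.1.2, s.2.2.2.1⟩)
        left_inv := fun q => rfl
        right_inv := fun s => by
          obtain ⟨x, ⟨p, h1, h2, rfl⟩⟩ := s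
          rfl }
  have hZone : ∀ x : G, x ∈ Subgroup.center G → orderOf x ∣ 2 → x = 1 := by
    intro x hx hd
    rcases (Nat.dvd_prime Nat.prime_two).1 hd with h | h
    · exact orderOf_eq_one_iff.1 h
    · exact absurd (hZ.of_dvd_nat (h ▸ Subgroup.orderOf_dvd_natCard _ hx)) (by decide)
  -- per-element bound
  have hb : ∀ x : G, x ≠ 1 →
      2 * m * β x + (if orderOf x = 2 then 4 * m else 0)
        ≤ N + (if orderOf x = 2 then N else 0) := by
    intro x hx
    by_cases hx2 : orderOf x = 2
    · rw [if_pos hx2, if_pos hx2]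
      have hC : Subgroup.centralizer ({x} : Set G) ≠ ⊤ := fun h =>
        hx (hZone x (centralizer_singleton_eq_top_iff.1 h) (dvd_of_eq hx2))
      have h1 := card_involPairs_add_two_le hx2
      have h3 : m * Nat.card (Subgroup.centralizer ({x} : Set G)) ≤ N := by
        calc _ ≤ (Subgroup.centralizer ({x} : Set G)).index * _ :=
              Nat.mul_le_mul_right _ (hmin _ hC)
          _ = N := Subgroup.index_mul_card _
      calc 2 * m * β x + 4 * m = 2 * (m * (β x + 2)) := by ring
        _ ≤ 2 * (m * Nat.card (Subgroup.centralizer ({x} : Set G))) :=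
            Nat.mul_le_mul_left _ (Nat.mul_le_mul_left _ h1)
        _ ≤ N + N := by omega
    · rw [if_neg hx2, if_neg hx2, add_zero, add_zero]
      by_cases hreal : IsConj x x⁻¹
      · obtain ⟨g₀, h₀⟩ := isConj_iff.1 hreal
        have hxx : x * x ≠ 1 := fun h => hx2 (orderOf_eq_two_iff_sq.2 ⟨hx, h⟩)
        refine le_trans ?_
          (two_mul_index_mul_card_centralizer_le hxx h₀ (h2 H) hmin h2)
        exact Nat.mul_le_mul_left _ (card_involPairs_le x)
      · simp only [β, card_involPairs_eq_zero hreal, mul_zero, Nat.zero_le]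
  have h1 : β 1 = n := Nat.card_congr ((involPairEquiv (1 : G)).trans
    (Equiv.subtypeEquivRight fun t => ⟨fun h => h.1, fun h => ⟨h, by simp, ne_one_of_orderOf_two h⟩⟩))
  have hcount : (∑ x ∈ Finset.univ.erase (1 : G), if orderOf x = 2 then 1 else 0) = n := by
    rw [hn, Nat.card_eq_fintype_card, Fintype.card_subtype,
      Finset.card_filter]
    exact Finset.sum_erase _ (by simp)
  have hsum' := Finset.sum_le_sum (s := Finset.univ.erase (1 : G))
    fun x hx => hb x (Finset.ne_of_mem_erase hx)
  simp only [Finset.sum_add_distrib] at hsum'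
  have e2 : ∀ c : ℕ, (∑ x ∈ Finset.univ.erase (1 : G), if orderOf x = 2 then c else 0) = n * c := by
    intro c
    rw [← hcount, Finset.sum_mul]
    simp
  rw [e2, e2, ← Finset.mul_sum, Finset.sum_const, Finset.card_erase_of_mem (Finset.mem_univ _),
    Finset.card_univ, ← Nat.card_eq_fintype_card (α := G), smul_eq_mul, ← hN] at hsum'
  have htot : n ^ 2 = n + ∑ x ∈ Finset.univ.erase (1 : G), β x := by
    rw [hsum, ← Finset.add_sum_erase _ _ (Finset.mem_univ (1 : G)), h1]
  rw [htot, mul_add, mul_add]
  have hNpos : 0 < N := Nat.card_pos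
  have h4 : (N - 1) * N + N = N * N := by
    rw [← Nat.succ_mul]; congr 1; omega
  nlinarith [Nat.mul_pos hmpos hnpos]

/-- A centraliser-of-involution form of the Brauer–Fowler bound: with centre of odd order,
the proper subgroup of smallest index has index below the square of the centraliser order. -/
theorem index_lt_centralizer_sq (heven : Even (Nat.card G))
    (hZ : Odd (Nat.card (Subgroup.center G))) {t : G} (ht : orderOf t = 2) :
    ∃ H : Subgroup G, H ≠ ⊤ ∧
      (H.index = 2 ∨ H.index < Nat.card (Subgroup.centralizer ({t} : Set G)) ^ 2) := by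
  obtain ⟨H, hH, h⟩ := brauerFowler_index heven hZ
  refine ⟨H, hH, h.imp_right fun h => ?_⟩
  have hn : Nat.card {g : G // IsConj t g} ≤ Nat.card {t : G // orderOf t = 2} :=
    Nat.card_le_card_of_injective (fun g => ⟨g.1, by
      obtain ⟨c, hc⟩ := isConj_iff.1 g.2
      rw [← hc, orderOf_conj_eq, ht]⟩) fun a b hab => Subtype.ext (congrArg Subtype.val hab :)
  have hc := card_conjugates_mul_card_centralizer (G := G) t
  have hnN : Nat.card {t : G // orderOf t = 2} ≤ Nat.card G :=
    Nat.card_le_card_of_injective Subtype.val Subtype.val_injective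
  set n := Nat.card {t : G // orderOf t = 2}
  set N := Nat.card G
  set c := Nat.card (Subgroup.centralizer ({t} : Set G))
  have h1 : N ≤ n * c := hc ▸ Nat.mul_le_mul_right _ hn
  by_contra hcon
  push Not at hcon
  have h2 : N * N ≤ H.index * n ^ 2 :=
    le_trans (Nat.mul_le_mul h1 h1) (le_trans (le_of_eq (by ring)) (Nat.mul_le_mul_right _ hcon))
  nlinarith [Nat.mul_le_mul_left N hnN]

/-- Induction form of the Brauer–Fowler theorem. -/
theorem brauerFowler_cube_aux : ∀ (N : ℕ) (X : Type*) [Group X] [Finite X], Nat.card X = N →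
    Even N → 2 < N → ∃ H : Subgroup X, H ≠ ⊤ ∧ N < Nat.card H ^ 3 := by
  intro N
  induction N using Nat.strong_induction_on with
  | _ N ih =>
    intro X _ _ hN heven hgt
    rcases Nat.even_or_odd (Nat.card (Subgroup.center X)) with hZ | hZ
    · -- a central involution
      haveI : Fact (Nat.Prime 2) := ⟨Nat.prime_two⟩
      obtain ⟨z, hz⟩ := exists_prime_orderOf_dvd_card' (G := Subgroup.center X) 2
        (even_iff_two_dvd.1 hZ)
      have hz' : orderOf (z : X) = 2 := by rw [Subgroup.orderOf_coe]; exact hz
      let Z := Subgroup.zpowers (z : X)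
      haveI hZn : Z.Normal := ⟨fun a ha g => by
        obtain ⟨k, rfl⟩ := ha
        have h := Subgroup.mem_center_iff.1 (zpow_mem z.2 k) g
        rw [h, mul_inv_cancel_right]
        exact Subgroup.zpow_mem_zpowers _ k⟩
      have hZc : Nat.card Z = 2 := by rw [Nat.card_zpowers, hz']
      have hq : Nat.card (X ⧸ Z) * 2 = N := by
        rw [← hZc, ← hN]; exact (Subgroup.card_eq_card_quotient_mul_card_subgroup Z).symm
      set m := Nat.card (X ⧸ Z) with hm
      rcases Nat.even_or_odd m with hme | hmo
      · by_cases hm2 : m ≤ 2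
        · refine ⟨Z, fun h => ?_, by rw [hZc]; omega⟩
          rw [h, Subgroup.card_top] at hZc
          omega
        · obtain ⟨K, hK, hKc⟩ := ih m (by omega) (X ⧸ Z) rfl hme (by omega)
          refine ⟨K.comap (QuotientGroup.mk' Z), fun h => hK ?_, ?_⟩
          · exact Subgroup.comap_injective (QuotientGroup.mk'_surjective Z)
              (h.trans (Subgroup.comap_top _).symm)
          · have hi := Subgroup.index_comap_of_surjective K (QuotientGroup.mk'_surjective Z)
            have h1 := Subgroup.card_mul_index (K.comap (QuotientGroup.mk' Z))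
            rw [hi, hN, ← hq] at h1
            have h2 := Subgroup.card_mul_index K
            rw [← hm] at h2
            have h3 : Nat.card (K.comap (QuotientGroup.mk' Z)) = Nat.card K * 2 :=
              Nat.eq_of_mul_eq_mul_right (Nat.pos_of_ne_zero (Subgroup.index_ne_zero_of_finite (H := K)))
                (by rw [h1, ← h2]; ring)
            rw [h3, mul_pow, ← hq]
            omega
      · -- `|X|` is twice an odd number: a subgroup of index two
        obtain ⟨P⟩ : Nonempty (Sylow 2 X) := inferInstance
        have hPc : Nat.card P = 2 := by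
          rw [P.card_eq_multiplicity, hN, ← hq,
            Nat.factorization_mul (by omega) two_ne_zero]
          simp [Nat.factorization_eq_zero_of_not_dvd hmo.not_two_dvd_nat,
            Nat.prime_two.factorization_self]
        haveI : IsCyclic P := isCyclic_of_prime_card hPc
        have hmin : (Nat.card X).minFac = 2 :=
          (Nat.minFac_eq_two_iff _).2 (by rw [hN]; exact even_iff_two_dvd.1 heven)
        obtain ⟨K, hK⟩ : ∃ K : Subgroup X, Subgroup.IsComplement' K P :=
          ⟨_, IsCyclic.isComplement' hmin (inferInstance : IsCyclic P)⟩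
        have hKc := hK.card_mul
        rw [hPc, hN, ← hq] at hKc
        have hKm : Nat.card K = m := Nat.eq_of_mul_eq_mul_right two_pos hKc
        refine ⟨K, fun h => ?_, ?_⟩
        · rw [h, Subgroup.card_top] at hKm; omega
        · rw [hKm, ← hq]
          have : 3 ≤ m := by obtain ⟨r, hr⟩ := hmo; omega
          nlinarith [Nat.mul_le_mul this this]
    · haveI : Nontrivial X := by rw [← Finite.one_lt_card_iff_nontrivial]; omega
      haveI : Fact (Nat.Prime 2) := ⟨Nat.prime_two⟩
      obtain ⟨t, ht⟩ := exists_prime_orderOf_dvd_card' (G := X) 2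
        (by rw [hN]; exact even_iff_two_dvd.1 heven)
      obtain ⟨H, hH, h⟩ := index_lt_centralizer_sq (by rw [hN]; exact heven) hZ ht
      have hC : Subgroup.centralizer ({t} : Set X) ≠ ⊤ := fun hc => by
        have h1 := Subgroup.orderOf_dvd_natCard _ (centralizer_singleton_eq_top_iff.1 hc)
        rw [ht] at h1
        exact absurd (hZ.of_dvd_nat h1) (by decide)
      have h1 := Subgroup.card_mul_index H
      rw [hN] at h1
      rcases h with h | h
      · refine ⟨H, hH, ?_⟩
        rw [h] at h1
        obtain ⟨r, hr⟩ := heven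
        nlinarith [Nat.mul_le_mul (show 2 ≤ Nat.card H by omega) (show 2 ≤ Nat.card H by omega)]
      · by_cases hle : Nat.card H ≤ Nat.card (Subgroup.centralizer ({t} : Set X))
        · refine ⟨_, hC, ?_⟩
          calc N = Nat.card H * H.index := h1.symm
            _ < Nat.card (Subgroup.centralizer ({t} : Set X))
                * Nat.card (Subgroup.centralizer ({t} : Set X)) ^ 2 :=
              lt_of_lt_of_le (Nat.mul_lt_mul_of_pos_left h Nat.card_pos)
                (Nat.mul_le_mul_right _ hle)
            _ = _ := by ring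
        · refine ⟨H, hH, ?_⟩
          calc N = Nat.card H * H.index := h1.symm
            _ < Nat.card H * Nat.card H ^ 2 := Nat.mul_lt_mul_of_pos_left
              (lt_of_lt_of_le h (Nat.pow_le_pow_left (by omega) 2)) Nat.card_pos
            _ = _ := by ring

end CfsgLib.Small
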