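import Mathlib.Tactic
import Cfsg.Agent.Small.Order168
import Cfsg.Agent.Small.DihedralConj

/-!
# Simple groups of order 168: classes and subgroups
-/

namespace CfsgLib.Small.Order168

open CfsgLib.Small

variable {G : Type*} [Group G] [Finite G] [IsSimpleGroup G] (h : Nat.card G = 168)

include h

theorem isConj_invol {s u : G} (hs : orderOf s = 2) (hu : orderOf u = 2) : IsConj s u := by
  haveI : Fact (Nat.Prime 2) := ⟨Nat.prime_two⟩
  obtain ⟨T⟩ : Nonempty (Sylow 2 G) := inferInstance
  obtain ⟨y, t, hyS, -, hy, -, -, -⟩ := exists_dihedral_gens h T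
  have hidx : (Subgroup.zpowers y).relIndex (T : Subgroup G) = 2 := by
    show ((Subgroup.zpowers y).subgroupOf (T : Subgroup G)).index = 2
    have hm := Subgroup.card_mul_index ((Subgroup.zpowers y).subgroupOf (T : Subgroup G))
    rw [Nat.card_congr (Subgroup.subgroupOfEquivOfLe (Subgroup.zpowers_le.2 hyS)).toEquiv,
      Nat.card_zpowers, hy, card_T h T] at hm
    omega
  have key : ∀ a : G, orderOf a = 2 → IsConj a (y ^ 2) := by
    intro a ha
    obtain ⟨g, hg⟩ := thompson_transfer_sylow (fun H hH => by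
      have hH' : H ≠ ⊤ := fun e => by rw [e, Subgroup.index_top] at hH; omega
      have := seven_le_index h hH'
      omega) T (Subgroup.zpowers y) (Subgroup.zpowers_le.2 hyS) hidx ha
    refine isConj_iff.2 ⟨g⁻¹, ?_⟩
    rw [inv_inv]
    refine invol_zpowers_four hy hg ?_
    have := orderOf_conj_eq g⁻¹ a
    rw [inv_inv, ha] at this
    exact this
  exact (key s hs).trans (key u hu).symm

theorem nonempty_dihedral [Fact (Nat.Prime 2)] (T : Sylow 2 G) :
    Nonempty (↥(T : Subgroup G) ≃* DihedralGroup 4) := by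
  obtain ⟨y, t, hy, ht, hyo, hto, hty, hinv⟩ := exists_dihedral_gens h T
  have hty2 : orderOf (t * y) = 2 := by
    refine orderOf_eq_two_iff_sq.2 ⟨fun e => hty ?_, ?_⟩
    · rw [eq_inv_of_mul_eq_one_left e]
      exact inv_mem (Subgroup.mem_zpowers y)
    · rw [inv_eq_self_of_orderOf_two hto] at hinv
      rw [← mul_assoc, hinv, inv_mul_cancel]
  have hne : t ≠ t * y := fun e => by
    rw [eq_comm, mul_eq_left] at e
    rw [e, orderOf_one] at hyo; omega
  have hprod : t * (t * y) = y := by rw [← mul_assoc, mul_self_of_orderOf_two hto, one_mul]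
  have heq : Subgroup.closure ({t, t * y} : Set G) = (T : Subgroup G) := by
    refine Subgroup.eq_of_le_of_card_ge ((Subgroup.closure_le _).2 ?_) ?_
    · rintro a (rfl | rfl)
      · exact ht
      · exact mul_mem ht hy
    · rw [card_closure_pair_invol hto hty2 hne, hprod, hyo, card_T h T]
  refine ⟨(MulEquiv.subgroupCongr heq.symm).trans ((closurePairEquivDihedral hto hty2 hne).trans ?_)⟩
  have h4 : orderOf (t * (t * y)) = 4 := by rw [hprod, hyo]
  exact (h4 ▸ MulEquiv.refl (DihedralGroup (orderOf (t * (t * y)))) :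
    DihedralGroup (orderOf (t * (t * y))) ≃* DihedralGroup 4)

/-- The centraliser of an involution has order eight. -/
theorem card_centralizer_invol {u : G} (hu : orderOf u = 2) :
    Nat.card (Subgroup.centralizer ({u} : Set G)) = 8 := by
  haveI : Fact (Nat.Prime 2) := ⟨Nat.prime_two⟩
  obtain ⟨T⟩ : Nonempty (Sylow 2 G) := inferInstance
  obtain ⟨y, t, hy, ht, hyo, hto, hty, hinv⟩ := exists_dihedral_gens h T
  have hz : orderOf (y ^ 2) = 2 := by rw [orderOf_pow' y two_ne_zero, hyo]; rfl
  have hC : Subgroup.centralizer ({y ^ 2} : Set G) = T := by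
    refine centralizer_eq_of_sylow_le h T hz ?_
    intro a ha
    obtain ⟨e⟩ := nonempty_dihedral h T
    have key : ∀ d : DihedralGroup 4, d * d ≠ 1 → ∀ a, a * (d * d) = (d * d) * a := by decide +kernel
    have hne : e ⟨y, hy⟩ * e ⟨y, hy⟩ ≠ 1 := by
      intro h1
      rw [← map_mul, MulEquiv.map_eq_one_iff] at h1
      have h2 : y ^ 2 = 1 := by rw [sq]; exact congrArg Subtype.val h1
      exact ne_one_of_orderOf_two hz h2
    have := key _ hne (e ⟨a, ha⟩)
    rw [← map_mul, ← map_mul, ← map_mul, e.injective.eq_iff] at this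
    refine Subgroup.mem_centralizer_singleton_iff.2 ?_
    rw [sq]
    exact congrArg Subtype.val this
  have h1 := card_conjugates_mul_card_centralizer (G := G) u
  have h2 := card_conjugates_mul_card_centralizer (G := G) (y ^ 2)
  have he : Nat.card {g : G // IsConj u g} = Nat.card {g : G // IsConj (y ^ 2) g} :=
    Nat.card_congr (Equiv.subtypeEquivRight fun g =>
      ⟨(isConj_invol h hu hz).symm.trans, (isConj_invol h hu hz).trans⟩)
  rw [hC, card_T h T, ← he, h] at h2
  rw [h] at h1
  exact Nat.eq_of_mul_eq_mul_left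
    (show 0 < Nat.card {g : G // IsConj u g} by omega) (h1.trans h2.symm)

/-- An involution is central in the Sylow subgroup equal to its centraliser. -/
theorem exists_sylow_eq_centralizer [Fact (Nat.Prime 2)] {u : G} (hu : orderOf u = 2) :
    ∃ T : Sylow 2 G, (T : Subgroup G) = Subgroup.centralizer ({u} : Set G) := by
  refine ⟨Sylow.ofCard _ ?_, Sylow.coe_ofCard _ _⟩
  obtain ⟨T⟩ : Nonempty (Sylow 2 G) := inferInstance
  rw [card_centralizer_invol h hu, ← card_T h T, Sylow.card_eq_multiplicity]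

theorem centralizer_of_central [Fact (Nat.Prime 2)] (T : Sylow 2 G) {z : G}
    (hz : z ∈ (T : Subgroup G)) (hz1 : z ≠ 1) (hc : ∀ t ∈ (T : Subgroup G), t * z = z * t) :
    Subgroup.centralizer ({z} : Set G) = T := by
  refine centralizer_eq_of_sylow_le h T ?_ fun a ha =>
    Subgroup.mem_centralizer_singleton_iff.2 (hc a ha)
  obtain ⟨e⟩ := nonempty_dihedral h T
  have key : ∀ d : DihedralGroup 4, (∀ a, a * d = d * a) → d * d = 1 := by decide +kernel
  refine orderOf_eq_two_iff_sq.2 ⟨hz1, ?_⟩
  have h1 := key (e ⟨z, hz⟩) (fun a => by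
    obtain ⟨b, rfl⟩ := e.surjective a
    rw [← map_mul, ← map_mul]
    exact congrArg e (Subtype.ext (hc b b.2)))
  rw [← map_mul, MulEquiv.map_eq_one_iff] at h1
  exact congrArg Subtype.val h1

omit [IsSimpleGroup G] h in
theorem exists_sylow_ge_of_card [Fact (Nat.Prime 2)] {U : Subgroup G} {k : ℕ}
    (hU : Nat.card U = 2 ^ k) : ∃ T : Sylow 2 G, U ≤ (T : Subgroup G) :=
  (IsPGroup.of_card hU).exists_le_sylow

/-- The order of a proper subgroup. -/
theorem card_mem {H : Subgroup G} (hH : H ≠ ⊤) :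
    Nat.card H ∈ ({1, 2, 3, 4, 6, 7, 8, 12, 14, 21, 24} : Finset ℕ) := by
  have h1 : Nat.card H ∈ Nat.divisors 168 :=
    Nat.mem_divisors.2 ⟨h ▸ Subgroup.card_subgroup_dvd_card H, by norm_num⟩
  have h2 := card_le_24 h hH
  rw [show Nat.divisors 168
    = {1, 2, 3, 4, 6, 7, 8, 12, 14, 21, 24, 28, 42, 56, 84, 168} by decide] at h1
  simp only [Finset.mem_insert, Finset.mem_singleton] at h1 ⊢
  omega

omit h in
/-- The two four-groups of a dihedral Sylow subgroup. -/
def fourA : Subgroup (DihedralGroup 4) where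
  carrier := {d | d = 1 ∨ d = DihedralGroup.r 2 ∨ d = DihedralGroup.sr 0 ∨ d = DihedralGroup.sr 2}
  one_mem' := Or.inl rfl
  mul_mem' := by
    rintro a b (rfl | rfl | rfl | rfl) (rfl | rfl | rfl | rfl) <;> simp <;> decide
  inv_mem' := by
    rintro a (rfl | rfl | rfl | rfl) <;> simp <;> decide

omit h in
/-- The other one. -/
def fourB : Subgroup (DihedralGroup 4) where
  carrier := {d | d = 1 ∨ d = DihedralGroup.r 2 ∨ d = DihedralGroup.sr 1 ∨ d = DihedralGroup.sr 3}
  one_mem' := Or.inl rfl
  mul_mem' := by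
    rintro a b (rfl | rfl | rfl | rfl) (rfl | rfl | rfl | rfl) <;> simp <;> decide
  inv_mem' := by
    rintro a (rfl | rfl | rfl | rfl) <;> simp <;> decide

end CfsgLib.Small.Order168
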