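import Mathlib.Tactic
import Mathlib.Data.Fintype.Powerset
import Mathlib.Data.Fintype.Perm
import Cfsg.Agent.Small.Order168Subgroups
import Cfsg.Agent.S0228
import Mathlib.GroupTheory.SpecificGroups.Alternating.KleinFour

/-!
# Simple groups of order 168: four-groups and maximal subgroups
-/

namespace CfsgLib.Small.Order168

open CfsgLib.Small

variable {G : Type*} [Group G] [Finite G] [IsSimpleGroup G] (h : Nat.card G = 168)

include h

omit h in
theorem isKleinFour_map {H K : Type*} [Group H] [Group K] (f : H →* K) (hf : Function.Injective f)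
    (U : Subgroup H) (hU : IsKleinFour U) : IsKleinFour (U.map f) := by
  have e := U.equivMapOfInjective f hf
  exact ⟨by rw [← Nat.card_congr e.toEquiv, hU.card_four],
    by rw [← Monoid.exponent_eq_of_mulEquiv e, hU.exponent_two]⟩

omit h in
theorem isKleinFour_fourA : IsKleinFour fourA := by
  have hc : Nat.card fourA = 4 := by
    have e : ((fourA : Subgroup (DihedralGroup 4)) : Set (DihedralGroup 4))
        = {1, DihedralGroup.r 2, DihedralGroup.sr 0, DihedralGroup.sr 2} := by
      ext d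
      simp [fourA]
    show Nat.card ((fourA : Subgroup (DihedralGroup 4)) : Set (DihedralGroup 4)) = 4
    rw [e, Nat.card_coe_set_eq]
    rw [Set.ncard_insert_of_notMem, Set.ncard_insert_of_notMem, Set.ncard_pair] <;>
      simp <;> decide
  refine ⟨hc, ?_⟩
  haveI : Nontrivial fourA := Finite.one_lt_card_iff_nontrivial.1 (by omega)
  refine (Monoid.exponent_eq_prime_iff Nat.prime_two).2 fun a ha => ?_
  refine orderOf_eq_two_iff_sq.2 ⟨ha, Subtype.ext ?_⟩
  obtain ⟨a, (rfl | rfl | rfl | rfl)⟩ := a <;> decide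

omit h in
theorem isKleinFour_fourB : IsKleinFour fourB := by
  have hc : Nat.card fourB = 4 := by
    have e : ((fourB : Subgroup (DihedralGroup 4)) : Set (DihedralGroup 4))
        = {1, DihedralGroup.r 2, DihedralGroup.sr 1, DihedralGroup.sr 3} := by
      ext d
      simp [fourB]
    show Nat.card ((fourB : Subgroup (DihedralGroup 4)) : Set (DihedralGroup 4)) = 4
    rw [e, Nat.card_coe_set_eq]
    rw [Set.ncard_insert_of_notMem, Set.ncard_insert_of_notMem, Set.ncard_pair] <;>
      simp <;> decide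
  refine ⟨hc, ?_⟩
  haveI : Nontrivial fourB := Finite.one_lt_card_iff_nontrivial.1 (by omega)
  refine (Monoid.exponent_eq_prime_iff Nat.prime_two).2 fun a ha => ?_
  refine orderOf_eq_two_iff_sq.2 ⟨ha, Subtype.ext ?_⟩
  obtain ⟨a, (rfl | rfl | rfl | rfl)⟩ := a <;> decide

omit h in
theorem four_cases {U : Subgroup (DihedralGroup 4)} (hU : IsKleinFour U) :
    U = fourA ∨ U = fourB := by
  have key : ∀ a b : DihedralGroup 4, a ≠ 1 → b ≠ 1 → a ≠ b → a * a = 1 → b * b = 1 → a * b = b * a →
      ((a = 1 ∨ a = .r 2 ∨ a = .sr 0 ∨ a = .sr 2) ∧ (b = 1 ∨ b = .r 2 ∨ b = .sr 0 ∨ b = .sr 2)) ∨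
      ((a = 1 ∨ a = .r 2 ∨ a = .sr 1 ∨ a = .sr 3) ∧ (b = 1 ∨ b = .r 2 ∨ b = .sr 1 ∨ b = .sr 3)) := by
    decide +kernel
  haveI : Finite U := Nat.finite_of_card_ne_zero (by rw [hU.card_four]; norm_num)
  haveI := Fintype.ofFinite U
  classical
  obtain ⟨⟨a, haU⟩, ha⟩ : ∃ a : U, a ≠ 1 := Fintype.exists_ne_of_one_lt_card
    (by rw [← Nat.card_eq_fintype_card, hU.card_four]; norm_num) 1
  obtain ⟨⟨b, hbU⟩, hb⟩ := Finset.exists_mem_notMem_of_card_lt_card
    (s := {1, (⟨a, haU⟩ : U)}) (t := Finset.univ) (by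
      rw [Finset.card_univ, ← Nat.card_eq_fintype_card, hU.card_four]
      exact lt_of_le_of_lt Finset.card_le_two (by norm_num))
  simp only [Finset.mem_insert, Finset.mem_singleton, not_or] at hb
  have ha1 : a ≠ 1 := fun e => ha (Subtype.ext e)
  have hb1 : b ≠ 1 := fun e => hb.2.1 (Subtype.ext e)
  have hab : a ≠ b := fun e => hb.2.2 (Subtype.ext e.symm)
  have hle : ∀ V : Subgroup (DihedralGroup 4), a ∈ V → b ∈ V → U ≤ V := by
    intro V hVa hVb c hc
    rcases kleinFour_cases hU haU hbU hc ha1 hb1 hab with rfl | rfl | rfl | rfl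
    · exact one_mem V
    · exact hVa
    · exact hVb
    · exact mul_mem hVa hVb
  rcases key a b ha1 hb1 hab (kleinFour_mul_self hU haU) (kleinFour_mul_self hU hbU)
    (kleinFour_comm hU haU hbU) with ⟨h1, h2⟩ | ⟨h1, h2⟩
  · exact Or.inl (Subgroup.eq_of_le_of_card_ge (hle _ h1 h2)
      (by rw [hU.card_four, isKleinFour_fourA.card_four]))
  · exact Or.inr (Subgroup.eq_of_le_of_card_ge (hle _ h1 h2)
      (by rw [hU.card_four, isKleinFour_fourB.card_four]))

/-- The structure of four-groups in a Sylow 2-subgroup. -/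
theorem exists_two_fours [Fact (Nat.Prime 2)] (T : Sylow 2 G) :
    ∃ A B : Subgroup G, A ≠ B ∧ A ≤ (T : Subgroup G) ∧ B ≤ (T : Subgroup G) ∧ IsKleinFour A ∧
      IsKleinFour B ∧
      (∀ U : Subgroup G, U ≤ (T : Subgroup G) → IsKleinFour U → U = A ∨ U = B) ∧
      (∀ U : Subgroup G, U ≤ (T : Subgroup G) → IsKleinFour U →
        (T : Subgroup G) ≤ Subgroup.normalizer (U : Set G)) := by
  obtain ⟨e⟩ := nonempty_dihedral h T
  let φ : DihedralGroup 4 →* G := (T : Subgroup G).subtype.comp e.symm.toMonoidHom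
  have hφ : Function.Injective φ := (T : Subgroup G).subtype_injective.comp e.symm.injective
  have hrange : φ.range = T := by
    ext a
    constructor
    · rintro ⟨d, rfl⟩; exact (e.symm d).2
    · intro ha; exact ⟨e ⟨a, ha⟩, by simp [φ]⟩
  have hall : ∀ U : Subgroup G, U ≤ (T : Subgroup G) → IsKleinFour U →
      U = fourA.map φ ∨ U = fourB.map φ := by
    intro U hU hK
    have he : (U.comap φ).map φ = U := Subgroup.map_comap_eq_self (hrange ▸ hU)
    have eq := (U.comap φ).equivMapOfInjective φ hφ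
    rw [he] at eq
    rcases four_cases (⟨by rw [Nat.card_congr eq.toEquiv, hK.card_four],
        by rw [Monoid.exponent_eq_of_mulEquiv eq, hK.exponent_two]⟩ :
        IsKleinFour ↥(U.comap φ)) with h1 | h1
    · exact Or.inl (h1 ▸ he.symm)
    · exact Or.inr (h1 ▸ he.symm)
  have hnA : fourA.Normal := ⟨by
    have : ∀ n g : DihedralGroup 4, (n = 1 ∨ n = .r 2 ∨ n = .sr 0 ∨ n = .sr 2) →
        (g * n * g⁻¹ = 1 ∨ g * n * g⁻¹ = .r 2 ∨ g * n * g⁻¹ = .sr 0 ∨ g * n * g⁻¹ = .sr 2) := by
      decide +kernel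
    exact fun n hn g => this n g hn⟩
  have hnB : fourB.Normal := ⟨by
    have : ∀ n g : DihedralGroup 4, (n = 1 ∨ n = .r 2 ∨ n = .sr 1 ∨ n = .sr 3) →
        (g * n * g⁻¹ = 1 ∨ g * n * g⁻¹ = .r 2 ∨ g * n * g⁻¹ = .sr 1 ∨ g * n * g⁻¹ = .sr 3) := by
      decide +kernel
    exact fun n hn g => this n g hn⟩
  have hnorm : ∀ V : Subgroup (DihedralGroup 4), V.Normal →
      (T : Subgroup G) ≤ Subgroup.normalizer ((V.map φ : Subgroup G) : Set G) := by
    intro V hV
    haveI := hV
    rw [← hrange]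
    have := Subgroup.le_normalizer_map (H := V) φ
    rw [Subgroup.normalizer_eq_top, ← MonoidHom.range_eq_map] at this
    exact this
  refine ⟨fourA.map φ, fourB.map φ, fun he => ?_, ?_, ?_,
    isKleinFour_map φ hφ _ isKleinFour_fourA, isKleinFour_map φ hφ _ isKleinFour_fourB, hall, ?_⟩
  · have h1 := (Subgroup.map_injective hφ he).le
      (show DihedralGroup.sr 0 ∈ fourA from Or.inr (Or.inr (Or.inl rfl)))
    rcases h1 with h1 | h1 | h1 | h1 <;> exact absurd h1 (by decide)
  · rw [← hrange]; exact Subgroup.map_le_range φ _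
  · rw [← hrange]; exact Subgroup.map_le_range φ _
  · intro U hU hK
    rcases hall U hU hK with rfl | rfl
    · exact hnorm _ hnA
    · exact hnorm _ hnB

omit h in
theorem kleinFour_card {U : Subgroup G} (hU : IsKleinFour U) : Nat.card U = 2 ^ 2 := by
  rw [hU.card_four]; rfl

/-- The normaliser of a four-group has order 24. -/
theorem card_normalizer_four {U : Subgroup G} (hU : IsKleinFour U) :
    Nat.card (Subgroup.normalizer (U : Set G)) = 24 := by
  classical
  haveI : Fact (Nat.Prime 2) := ⟨Nat.prime_two⟩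
  haveI : Finite U := inferInstance
  set N := Subgroup.normalizer (U : Set G) with hN
  obtain ⟨T, hUT⟩ := exists_sylow_ge_of_card (kleinFour_card hU)
  obtain ⟨-, -, -, -, -, -, -, -, hnT⟩ := exists_two_fours h T
  have hTN : (T : Subgroup G) ≤ N := hnT U hUT hU
  obtain ⟨⟨u, huU⟩, hu1⟩ : ∃ u : U, u ≠ 1 := Subgroup.ne_bot_iff_exists_ne_one.1 fun hb => by
    have := hU.card_four
    rw [hb, Subgroup.card_bot] at this
    norm_num at this
  -- two involutions of `U`
  haveI := Fintype.ofFinite U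
  obtain ⟨⟨v, hvU⟩, hv⟩ := Finset.exists_mem_notMem_of_card_lt_card
    (s := {1, (⟨u, huU⟩ : U)}) (t := Finset.univ) (by
      rw [Finset.card_univ, ← Nat.card_eq_fintype_card, hU.card_four]
      exact lt_of_le_of_lt Finset.card_le_two (by norm_num))
  simp only [Finset.mem_insert, Finset.mem_singleton, not_or] at hv
  have hord : ∀ w ∈ U, w ≠ 1 → orderOf w = 2 := fun w hw hw1 =>
    orderOf_eq_two_iff_sq.2 ⟨hw1, kleinFour_mul_self hU hw⟩
  have huo := hord u huU (fun e => hu1 (Subtype.ext e))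
  have hvo := hord v hvU (fun e => hv.2.1 (Subtype.ext e))
  -- both of their centralisers normalise `U`
  have hCN : ∀ w ∈ U, orderOf w = 2 → Subgroup.centralizer ({w} : Set G) ≤ N := by
    intro w hw hwo
    obtain ⟨S, hS⟩ := exists_sylow_eq_centralizer h hwo
    obtain ⟨-, -, -, -, -, -, -, -, hnS⟩ := exists_two_fours h S
    rw [← hS]
    refine hnS U (hS ▸ fun a ha => Subgroup.mem_centralizer_singleton_iff.2 ?_) hU
    exact kleinFour_comm hU ha hw
  have hne : Subgroup.centralizer ({u} : Set G) ≠ Subgroup.centralizer ({v} : Set G) := by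
    intro he
    obtain ⟨S, hS⟩ := exists_sylow_eq_centralizer h huo
    obtain ⟨e⟩ := nonempty_dihedral h S
    have key : ∀ p q : DihedralGroup 4, p ≠ 1 → q ≠ 1 → (∀ a, a * p = p * a) →
        (∀ a, a * q = q * a) → p = q := by decide +kernel
    have hmem : ∀ w, w ∈ U → w ∈ (S : Subgroup G) := fun w hw => by
      rw [hS]; exact Subgroup.mem_centralizer_singleton_iff.2 (kleinFour_comm hU hw huU)
    have := key (e ⟨u, hmem u huU⟩) (e ⟨v, hmem v hvU⟩)
      (fun e1 => ne_one_of_orderOf_two huo (congrArg Subtype.val (e.map_eq_one_iff.1 e1)))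
      (fun e1 => ne_one_of_orderOf_two hvo (congrArg Subtype.val (e.map_eq_one_iff.1 e1)))
      (fun a => by
        obtain ⟨b, rfl⟩ := e.surjective a
        rw [← map_mul, ← map_mul]
        exact congrArg e (Subtype.ext (Subgroup.mem_centralizer_singleton_iff.1 (hS.le b.2))))
      (fun a => by
        obtain ⟨b, rfl⟩ := e.surjective a
        rw [← map_mul, ← map_mul]
        exact congrArg e (Subtype.ext (Subgroup.mem_centralizer_singleton_iff.1
          ((hS.trans he).le b.2))))
    exact hv.2.2 (Subtype.ext (congrArg Subtype.val (e.injective this)).symm)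
  have hgt : 8 < Nat.card N := by
    by_contra hle
    push Not at hle
    have hle' := Subgroup.card_le_of_le hTN
    rw [card_T h T] at hle'
    have e : ∀ w ∈ U, orderOf w = 2 → Subgroup.centralizer ({w} : Set G) = N := fun w hw hwo =>
      Subgroup.eq_of_le_of_card_ge (hCN w hw hwo) (by rw [card_centralizer_invol h hwo]; omega)
    exact hne ((e u huU huo).trans (e v hvU hvo).symm)
  have hNtop : N ≠ ⊤ := by
    refine normalizer_ne_top (fun hb => ?_) (fun ht => ?_)
    · have := hU.card_four; rw [hb, Subgroup.card_bot] at this; norm_num at this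
    · have := hU.card_four; rw [ht, Subgroup.card_top, h] at this; norm_num at this
  have h8 := Subgroup.card_dvd_of_le hTN
  rw [card_T h T] at h8
  have hmem := card_mem h hNtop
  simp only [Finset.mem_insert, Finset.mem_singleton] at hmem
  omega

/-- A subgroup of order 24 is `S₄`. -/
theorem equiv_perm_four_of_card {M : Subgroup G} (hM : Nat.card M = 24) :
    Nonempty (M ≃* Equiv.Perm (Fin 4)) :=
  equiv_perm_four_of_order24 hM fun g => by rw [← Subgroup.orderOf_coe]; exact orderOf_ne_six h _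

omit h in
/-- A subgroup isomorphic to a group with a normal four-group normalises a four-group. -/
theorem exists_four_of_equiv {K : Type*} [Group K] (V : Subgroup K) [V.Normal] (hV : IsKleinFour V)
    {M : Subgroup G} (e : M ≃* K) :
    ∃ U : Subgroup G, IsKleinFour U ∧ U ≤ M ∧ M ≤ Subgroup.normalizer (U : Set G) := by
  let φ : K →* G := M.subtype.comp e.symm.toMonoidHom
  have hφ : Function.Injective φ := M.subtype_injective.comp e.symm.injective
  have hrange : φ.range = M := by
    ext a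
    constructor
    · rintro ⟨d, rfl⟩; exact (e.symm d).2
    · intro ha; exact ⟨e ⟨a, ha⟩, by simp [φ]⟩
  refine ⟨V.map φ, isKleinFour_map φ hφ V hV, (Subgroup.map_le_range φ V).trans hrange.le, ?_⟩
  have := Subgroup.le_normalizer_map (H := V) φ
  rw [Subgroup.normalizer_eq_top, ← MonoidHom.range_eq_map, hrange] at this
  exact this

omit h in
/-- The normal four-group of `S₄`. -/
def fourS4 : Subgroup (Equiv.Perm (Fin 4)) where
  carrier := {σ | σ * σ = 1 ∧ (σ = 1 ∨ ∀ i, σ i ≠ i)}
  one_mem' := ⟨one_mul 1, Or.inl rfl⟩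
  mul_mem' := by
    intro a b ha hb
    exact (show ∀ a b : Equiv.Perm (Fin 4), (a * a = 1 ∧ (a = 1 ∨ ∀ i, a i ≠ i)) →
      (b * b = 1 ∧ (b = 1 ∨ ∀ i, b i ≠ i)) →
      (a * b * (a * b) = 1 ∧ (a * b = 1 ∨ ∀ i, (a * b) i ≠ i)) by decide +kernel) a b ha hb
  inv_mem' := by
    intro a ha
    have e : a⁻¹ = a := inv_eq_of_mul_eq_one_right ha.1
    show a⁻¹ * a⁻¹ = 1 ∧ (a⁻¹ = 1 ∨ ∀ i, a⁻¹ i ≠ i)
    rw [e]; exact ha

omit h in
instance fourS4_normal : fourS4.Normal :=
  ⟨fun n hn g => (show ∀ n g : Equiv.Perm (Fin 4), (n * n = 1 ∧ (n = 1 ∨ ∀ i, n i ≠ i)) →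
      (g * n * g⁻¹ * (g * n * g⁻¹) = 1 ∧ (g * n * g⁻¹ = 1 ∨ ∀ i, (g * n * g⁻¹) i ≠ i)) by
    decide +kernel) n g hn⟩

omit h in
theorem isKleinFour_fourS4 : IsKleinFour fourS4 := by
  have hc : Nat.card fourS4 = 4 := by
    show Nat.card {σ : Equiv.Perm (Fin 4) // σ * σ = 1 ∧ (σ = 1 ∨ ∀ i, σ i ≠ i)} = 4
    rw [Nat.card_eq_fintype_card]
    decide +kernel
  refine ⟨hc, ?_⟩
  haveI : Nontrivial fourS4 := Finite.one_lt_card_iff_nontrivial.1 (by omega)
  refine (Monoid.exponent_eq_prime_iff Nat.prime_two).2 fun a ha => ?_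
  exact orderOf_eq_two_iff_sq.2 ⟨ha, Subtype.ext a.2.1⟩

/-- A subgroup of order 24 is the normaliser of a four-group. -/
theorem exists_four_of_card {M : Subgroup G} (hM : Nat.card M = 24) :
    ∃ U : Subgroup G, IsKleinFour U ∧ U ≤ M ∧ M = Subgroup.normalizer (U : Set G) := by
  obtain ⟨e⟩ := equiv_perm_four_of_card h hM
  obtain ⟨U, hU, hUM, hMN⟩ := exists_four_of_equiv fourS4 isKleinFour_fourS4 e
  exact ⟨U, hU, hUM, Subgroup.eq_of_le_of_card_ge hMN (by rw [card_normalizer_four h hU, hM])⟩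

/-- Four-groups with equal normalisers are equal. -/
theorem four_eq_of_normalizer_eq {U W : Subgroup G} (hU : IsKleinFour U) (hW : IsKleinFour W)
    (he : Subgroup.normalizer (U : Set G) = Subgroup.normalizer (W : Set G)) : U = W := by
  haveI : Fact (Nat.Prime 2) := ⟨Nat.prime_two⟩
  by_contra hne
  set N := Subgroup.normalizer (U : Set G) with hN
  have hWN : W ≤ N := he ▸ Subgroup.le_normalizer
  have hp : IsPGroup 2 ↥(W ⊔ U) :=
    IsPGroup.to_sup_of_normal_right' (IsPGroup.of_card (kleinFour_card hW))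
      (IsPGroup.of_card (kleinFour_card hU)) hWN
  have hlt : U < W ⊔ U := lt_of_le_of_ne le_sup_right fun e =>
    hne (Subgroup.eq_of_le_of_card_ge (e ▸ le_sup_left : W ≤ U)
      (by rw [hU.card_four, hW.card_four])).symm
  obtain ⟨S, hS⟩ := hp.exists_le_sylow
  have hcard : 4 < Nat.card ↥(W ⊔ U) := by
    have := lt_of_le_of_ne (Subgroup.card_le_of_le hlt.le)
      fun e => hlt.ne (Subgroup.eq_of_le_of_card_ge hlt.le e.ge)
    rwa [hU.card_four] at this
  have hSeq : W ⊔ U = (S : Subgroup G) := by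
    refine Subgroup.eq_of_le_of_card_ge hS ?_
    have hd := Subgroup.card_dvd_of_le hS
    rw [card_T h S] at hd ⊢
    obtain ⟨k, hk⟩ := hd
    rcases k with _ | _ | k <;> nlinarith
  have hnorm : N ≤ Subgroup.normalizer ((S : Subgroup G) : Set G) := by
    rw [← hSeq]
    intro n hn
    have hnW : n ∈ Subgroup.normalizer (W : Set G) := he ▸ hn
    have hfix : ∀ (V : Subgroup G), n ∈ Subgroup.normalizer (V : Set G) →
        V.map (MulAut.conj n).toMonoidHom = V := by
      intro V hV
      refine Subgroup.eq_of_le_of_card_ge ?_ (le_of_eq ?_)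
      · rintro _ ⟨v, hv, rfl⟩
        exact (Subgroup.mem_normalizer_iff.1 hV v).1 hv
      · exact Nat.card_congr (V.equivMapOfInjective _ (MulAut.conj n).injective).toEquiv
    have hsup : (W ⊔ U).map (MulAut.conj n).toMonoidHom = W ⊔ U := by
      rw [Subgroup.map_sup, hfix W hnW, hfix U hn]
    rw [Subgroup.mem_normalizer_iff]
    intro v
    constructor
    · intro hv
      exact hsup.le (Subgroup.mem_map_of_mem _ hv)
    · intro hv
      obtain ⟨w, hw, hwe⟩ := hsup.ge hv
      have : w = v := (MulAut.conj n).injective hwe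
      exact this ▸ hw
  rw [normalizer_T h S] at hnorm
  have := Subgroup.card_le_of_le hnorm
  rw [card_normalizer_four h hU, card_T h S] at this
  omega

/-- Four-groups of one Sylow subgroup are not conjugate. -/
theorem four_not_conj [Fact (Nat.Prime 2)] (T : Sylow 2 G) {U W : Subgroup G}
    (hU : U ≤ (T : Subgroup G)) (hW : W ≤ (T : Subgroup G)) (hUK : IsKleinFour U)
    (hWK : IsKleinFour W) (hne : U ≠ W) (g : G) : U.map (MulAut.conj g).toMonoidHom ≠ W := by
  intro he
  obtain ⟨-, -, -, -, -, -, -, -, hn⟩ := exists_two_fours h T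
  set N := Subgroup.normalizer (W : Set G)
  have hTN : (T : Subgroup G) ≤ N := hn W hW hWK
  have hgTN : ((g • T : Sylow 2 G) : Subgroup G) ≤ N := by
    rintro _ ⟨a, ha, rfl⟩
    show MulAut.conj g a ∈ Subgroup.normalizer (W : Set G)
    have ha' := Subgroup.mem_normalizer_iff.1 (hn U hU hUK ha)
    rw [Subgroup.mem_normalizer_iff, ← he]
    intro x
    have hkey : ∀ x : G, x ∈ U.map (MulAut.conj g).toMonoidHom ↔ g⁻¹ * x * g ∈ U := fun x => by
      constructor
      · rintro ⟨u, hu, rfl⟩; simpa [mul_assoc] using hu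
      · exact fun hx => ⟨_, hx, by simp [mul_assoc]⟩
    rw [hkey, hkey, ha' (g⁻¹ * x * g), MulAut.conj_apply]
    simp [mul_assoc]
  obtain ⟨n, hn'⟩ := MulAction.exists_smul_eq ↥N ((g • T).subtype hgTN) (T.subtype hTN)
  rw [Sylow.smul_subtype] at hn'
  have heq : ((n : G) * g) • T = T := by rw [mul_smul]; exact Sylow.subtype_injective hn'
  have hgT : (n : G) * g ∈ (T : Subgroup G) := by
    have := Sylow.smul_eq_iff_mem_normalizer.1 heq
    exact (normalizer_T h T).le this
  apply hne
  have hmem := Subgroup.mem_normalizer_iff.1 (hn U hU hUK hgT)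
  refine Subgroup.eq_of_le_of_card_ge (fun u hu => ?_) (by rw [hUK.card_four, hWK.card_four])
  have h1 : (n : G) * g * ((n : G) * g)⁻¹ = 1 := mul_inv_cancel _
  obtain ⟨u', hu'U, hu'⟩ : ∃ u' ∈ U, u = (n : G) * g * u' * ((n : G) * g)⁻¹ :=
    ⟨((n : G) * g)⁻¹ * u * ((n : G) * g), (hmem _).2 (by simpa [mul_assoc] using hu), by group⟩
  rw [hu', show (n : G) * g * u' * ((n : G) * g)⁻¹ = n * (g * u' * g⁻¹) * (n : G)⁻¹ by group]
  exact (Subgroup.mem_normalizer_iff.1 n.2 _).1
    (he.le (Subgroup.mem_map_of_mem (MulAut.conj g).toMonoidHom hu'U))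

end CfsgLib.Small.Order168
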