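import Mathlib.Algebra.BigOperators.Ring.List
import Mathlib.Tactic

/-!
# A finite search for degrees and involution values

The search runs over the lists of coefficient, multiplicity and degree allowed by the degree
equation of a self-centralising subgroup of prime order, then over the values at an involution
allowed by the column relation and the class equation.
-/

namespace CfsgLib.Small.Check

/-- A coefficient, a multiplicity and a degree. -/
abbrev Item := ℤ × ℕ × ℕ

/-- Search for values at an involution: `A` is the running column sum, `R` the running right side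
of the class equation, `q` what is left of the centraliser order. -/
def valRec (idx GN : ℕ) (tgt : ℤ) : List Item → ℤ → ℤ → ℤ → Bool
  | [], A, R, _ => A == 0 && R == tgt
  | (co, m, d) :: l, A, R, q => (List.range (2 * d)).any fun i : ℕ =>
      decide (((d : ℤ) - ((i : ℤ) - d)) % 4 = 0) && decide (((idx : ℤ) * ((i : ℤ) - d)) % (d : ℤ) = 0)
        && decide ((m : ℤ) * (((i : ℤ) - d) * ((i : ℤ) - d)) ≤ q)
        && valRec idx GN tgt l (A + co * ((i : ℤ) - d))
            (R + co * (((i : ℤ) - d) * ((i : ℤ) - d)) * ((GN / d : ℕ) : ℤ))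
            (q - (m : ℤ) * (((i : ℤ) - d) * ((i : ℤ) - d)))

/-- Values exist at an involution with centraliser order `C`; `δ` says whether it is conjugate into
the normaliser. -/
def valOK (p GN C : ℕ) (δ : Bool) (items : List Item) : Bool :=
  valRec (GN / C) GN (if δ then ((p * C * C : ℕ) : ℤ) else 0) items 1 (GN : ℤ) ((C : ℤ) - 1)

/-- Choose a multiset of the candidates with the prescribed sums. -/
def selRec (pred : List Item → Bool) : List (ℤ × ℕ) → ℕ → ℤ → ℕ → List Item → Bool
  | [], n, S, _, acc => n == 0 && S == 0 && pred acc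
  | (b, d) :: cs, n, S, bud, acc => (List.range (n + 1)).any fun j : ℕ =>
      decide (j * (b * b).natAbs ≤ n) && decide (j * (d * d) ≤ bud)
        && selRec pred cs (n - j * (b * b).natAbs) (S + (j : ℤ) * (b * (d : ℤ))) (bud - j * (d * d))
            (List.replicate j (b, 1, d) ++ acc)

/-- The divisors above one and below `B`. -/
def degrees (GN B : ℕ) : List ℕ := (List.range B).filter fun d => decide (1 < d) && GN % d == 0

/-- The candidate coefficients and degrees. -/
def cands (p GN B n : ℕ) : List (ℤ × ℕ) :=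
  (degrees GN B).flatMap fun d =>
    ((List.range (2 * n + 1)).map fun i : ℕ => (((i : ℤ) - (n : ℤ), d) : ℤ × ℕ)).filter fun c =>
      decide (c.1 ≠ 0) && decide (c.1 * c.1 ≤ (n : ℤ)) && decide (((c.2 : ℤ) - c.1) % (p : ℤ) = 0)

/-- All solutions of the degree equation, fed to `pred`. -/
def sel (p e k GN B : ℕ) (pred : List Item → Bool) : Bool :=
  if k ≤ 1 then selRec pred (cands p GN B e) e 1 (GN - 1) []
  else (List.range (2 * (e + 2) + 1)).any fun i : ℕ => [(1 : ℤ), -1].any fun σ =>
    decide (0 ≤ (e : ℤ) - 2 * σ * ((i : ℤ) - (e + 2))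
        - (k : ℤ) * (((i : ℤ) - (e + 2)) * ((i : ℤ) - (e + 2))) - 1)
      && (degrees GN B).any fun d =>
        decide (((d : ℤ) - (((i : ℤ) - (e + 2)) - σ * (e : ℤ))) % (p : ℤ) = 0)
          && decide (k * (d * d) ≤ GN - 1)
          && selRec pred
              (cands p GN B ((e : ℤ) - 2 * σ * ((i : ℤ) - (e + 2))
                - (k : ℤ) * (((i : ℤ) - (e + 2)) * ((i : ℤ) - (e + 2))) - 1).toNat)
              ((e : ℤ) - 2 * σ * ((i : ℤ) - (e + 2))
                - (k : ℤ) * (((i : ℤ) - (e + 2)) * ((i : ℤ) - (e + 2))) - 1).toNat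
              (1 + ((k : ℤ) * ((i : ℤ) - (e + 2)) + σ) * (d : ℤ)) (GN - 1 - k * (d * d))
              [((k : ℤ) * ((i : ℤ) - (e + 2)) + σ, k, d)]

theorem valRec_sound {α : Type*} (idx GN : ℕ) (tgt : ℤ) (f : α → Item) (v : α → ℤ) :
    ∀ (l : List α) (A R q : ℤ),
      (∀ a ∈ l, ((f a).2.2 : ℤ) % 4 = v a % 4 ∧ ((f a).2.2 : ℤ) ∣ (idx : ℤ) * v a ∧
        -((f a).2.2 : ℤ) < v a ∧ v a < ((f a).2.2 : ℤ)) →
      A + (l.map fun a => (f a).1 * v a).sum = 0 →
      R + (l.map fun a => (f a).1 * (v a * v a) * ((GN / (f a).2.2 : ℕ) : ℤ)).sum = tgt →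
      (l.map fun a => ((f a).2.1 : ℤ) * (v a * v a)).sum ≤ q →
      valRec idx GN tgt (l.map f) A R q = true
  | [], A, R, q, _, hA, hR, _ => by
    simp only [List.map_nil, List.sum_nil, add_zero] at hA hR
    simp [valRec, hA, hR]
  | a :: l, A, R, q, hprop, hA, hR, hq => by
    obtain ⟨h1, h2, h3, h4⟩ := hprop a List.mem_cons_self
    have hnn : 0 ≤ (l.map fun a => ((f a).2.1 : ℤ) * (v a * v a)).sum := List.sum_nonneg fun x hx => by
      obtain ⟨b, -, rfl⟩ := List.mem_map.1 hx
      exact mul_nonneg (Int.natCast_nonneg _) (mul_self_nonneg _)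
    simp only [List.map_cons, List.sum_cons] at hA hR hq
    set m := (f a).2.1
    set d := (f a).2.2
    set co := (f a).1
    have hf : f a = (co, m, d) := rfl
    rw [List.map_cons, hf, valRec, List.any_eq_true]
    have hi : ((v a + d).toNat : ℤ) - d = v a := by omega
    refine ⟨(v a + d).toNat, List.mem_range.2 (by omega), ?_⟩
    simp only [hi, Bool.and_eq_true, decide_eq_true_eq]
    refine ⟨⟨⟨by omega, Int.emod_eq_zero_of_dvd h2⟩, by linarith⟩, ?_⟩
    exact valRec_sound idx GN tgt f v l _ _ _ (fun b hb => hprop b (List.mem_cons_of_mem _ hb))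
      (by linarith) (by linarith) (by linarith)

theorem selRec_sound {α : Type*} (pred : List Item → Bool) (g : α → ℤ × ℕ) :
    ∀ (cs : List (ℤ × ℕ)) (l : List α) (n : ℕ) (S : ℤ) (bud : ℕ) (acc : List Item),
      (∀ a ∈ l, g a ∈ cs) → (∀ a ∈ l, (g a).1 ≠ 0) →
      (l.map fun a => ((g a).1 * (g a).1).natAbs).sum = n →
      S + (l.map fun a => (g a).1 * ((g a).2 : ℤ)).sum = 0 →
      (l.map fun a => (g a).2 * (g a).2).sum ≤ bud →
      (∀ l' : List α, l'.Perm l →
        pred ((l'.map fun a => (((g a).1, 1, (g a).2) : Item)) ++ acc) = true) →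
      selRec pred cs n S bud acc = true
  | [], l, n, S, bud, acc, hmem, _, hn, hS, _, hpred => by
    obtain rfl : l = [] := List.eq_nil_iff_forall_not_mem.2 fun a ha => by simpa using hmem a ha
    have h := hpred [] (List.Perm.refl _)
    simp only [List.map_nil, List.sum_nil, add_zero, List.nil_append] at hn hS h
    simp [selRec, hn.symm, hS, h]
  | (b, d) :: cs, l, n, S, bud, acc, hmem, hne, hn, hS, hbud, hpred => by
    classical
    set l₁ := l.filter fun a => decide (g a = (b, d))
    set l₂ := l.filter fun a => !decide (g a = (b, d))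
    have hperm : (l₁ ++ l₂).Perm l := List.filter_append_perm _ l
    have h₁ : ∀ a ∈ l₁, g a = (b, d) := fun a ha => by simpa [l₁] using (List.mem_filter.1 ha).2
    have h₂ : ∀ a ∈ l₂, a ∈ l ∧ g a ≠ (b, d) := fun a ha =>
      ⟨(List.mem_filter.1 ha).1, by simpa [l₂] using (List.mem_filter.1 ha).2⟩
    have en := ((hperm.map fun a => ((g a).1 * (g a).1).natAbs).sum_eq).trans hn
    have eb : ((l₁ ++ l₂).map fun a => (g a).2 * (g a).2).sum ≤ bud :=
      ((hperm.map fun a => (g a).2 * (g a).2).sum_eq).trans_le hbud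
    have eS := (hperm.map fun a => (g a).1 * ((g a).2 : ℤ)).sum_eq
    rw [← eS] at hS
    rw [List.map_append, List.sum_append] at en eb hS
    rw [List.map_congr_left (g := fun _ => (b * b).natAbs) fun a ha => by rw [h₁ a ha],
      List.map_const', List.sum_replicate, smul_eq_mul] at en
    rw [List.map_congr_left (g := fun _ => d * d) fun a ha => by rw [h₁ a ha],
      List.map_const', List.sum_replicate, smul_eq_mul] at eb
    rw [List.map_congr_left (g := fun _ => b * (d : ℤ)) fun a ha => by rw [h₁ a ha],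
      List.map_const', List.sum_replicate, nsmul_eq_mul] at hS
    have hj : l₁.length ≤ n := by
      rcases Nat.eq_zero_or_pos l₁.length with h | h
      · omega
      · obtain ⟨a, ha⟩ := List.exists_mem_of_length_pos h
        have hb : b ≠ 0 := fun hb => hne a (List.mem_filter.1 ha).1 (by rw [h₁ a ha, hb])
        have hb1 : 1 ≤ (b * b).natAbs := by
          have := mul_self_pos.2 hb
          omega
        calc l₁.length = l₁.length * 1 := (mul_one _).symm
          _ ≤ l₁.length * (b * b).natAbs := Nat.mul_le_mul_left _ hb1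
          _ ≤ n := by omega
    rw [selRec, List.any_eq_true]
    refine ⟨l₁.length, List.mem_range.2 (by omega), ?_⟩
    simp only [Bool.and_eq_true, decide_eq_true_eq]
    refine ⟨⟨by omega, by omega⟩, ?_⟩
    refine selRec_sound pred g cs l₂ _ _ _ _
      (fun a ha => (List.mem_cons.1 (hmem a (h₂ a ha).1)).resolve_left (h₂ a ha).2)
      (fun a ha => hne a (h₂ a ha).1) (by omega) (by linarith) (by omega) fun l' hl' => ?_
    have hmap : List.replicate l₁.length ((b, 1, d) : Item)
        = l₁.map fun a => (((g a).1, 1, (g a).2) : Item) := by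
      rw [List.map_congr_left (g := fun _ => ((b, 1, d) : Item)) fun a ha => by rw [h₁ a ha],
        List.map_const']
    rw [hmap, ← List.append_assoc, ← List.map_append]
    exact hpred _ (((List.perm_append_comm).trans ((List.Perm.refl l₁).append hl')).trans hperm)

theorem mem_degrees {GN B d : ℕ} : d ∈ degrees GN B ↔ d < B ∧ 1 < d ∧ d ∣ GN := by
  simp [degrees, Nat.dvd_iff_mod_eq_zero]

theorem mem_cands {p GN B n : ℕ} {b : ℤ} {d : ℕ} (hd : d ∈ degrees GN B) (hb : b ≠ 0)
    (hbn : b * b ≤ n) (hp : (p : ℤ) ∣ (d : ℤ) - b) : (b, d) ∈ cands p GN B n := by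
  have hlo : -(n : ℤ) ≤ b ∧ b ≤ n := by
    constructor <;> nlinarith [mul_self_nonneg (b - 1), mul_self_nonneg (b + 1)]
  simp only [cands, List.mem_flatMap, List.mem_filter, List.mem_map, List.mem_range,
    Bool.and_eq_true, decide_eq_true_eq]
  exact ⟨d, hd, ⟨(b + n).toNat, by omega, by rw [show ((b + n).toNat : ℤ) - n = b by omega]⟩,
    ⟨hb, hbn⟩, Int.emod_eq_zero_of_dvd hp⟩

end CfsgLib.Small.Check
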